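import Cfsg.Agent.Lib.Spectra.LinearOrders
import Mathlib.LinearAlgebra.Matrix.ProjectiveSpecialLinearGroup
import Mathlib.LinearAlgebra.Matrix.Charpoly.Eigs
import Mathlib.LinearAlgebra.Matrix.Charpoly.Coeff
import Mathlib.FieldTheory.IsAlgClosed.Spectrum
import Mathlib.FieldTheory.Finite.Trace
import Mathlib.RingTheory.Multiplicity

/-!
Centralizing idempotents and element orders in projective special linear groups over finite fields.
-/

namespace Cfsg.Agent.Spectra

open Polynomial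

variable {F : Type*} [Field F] {ι : Type*} [Fintype ι] [DecidableEq ι]

/-! ### characteristic and minimal polynomial -/

theorem dvd_minpoly_of_dvd_charpoly (M : Matrix ι ι F) {f : F[X]} (hf : Irreducible f)
    (h : f ∣ M.charpoly) : f ∣ minpoly F M := by
  rcases isEmpty_or_nonempty ι with hι | hι
  · have : M.charpoly = 1 := Matrix.charpoly_isEmpty
    exact absurd (isUnit_of_dvd_one (this ▸ h)) hf.not_isUnit
  have : Fact (Irreducible f) := ⟨hf⟩
  have hroot : (M.map (algebraMap F (AdjoinRoot f))).charpoly.IsRoot (AdjoinRoot.root f) := by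
    rw [Matrix.charpoly_map, IsRoot.def, eval_map_algebraMap, AdjoinRoot.aeval_eq,
      AdjoinRoot.mk_eq_zero]
    exact h
  have hsp := Matrix.mem_spectrum_iff_isRoot_charpoly.mpr hroot
  have hmem := spectrum.subset_polynomial_aeval (M.map (algebraMap F (AdjoinRoot f)))
    ((minpoly F M).map (algebraMap F (AdjoinRoot f))) ⟨_, hsp, rfl⟩
  have h0 : aeval (M.map (algebraMap F (AdjoinRoot f)))
      ((minpoly F M).map (algebraMap F (AdjoinRoot f))) = 0 := by
    rw [aeval_map_algebraMap]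
    have := aeval_algHom_apply ((Algebra.ofId F (AdjoinRoot f)).mapMatrix (m := ι)) M (minpoly F M)
    rw [minpoly.aeval, map_zero] at this
    exact this
  rw [h0, spectrum.zero_eq, Set.mem_singleton_iff] at hmem
  simp only [eval_map_algebraMap, AdjoinRoot.aeval_eq, AdjoinRoot.mk_eq_zero] at hmem
  exact hmem

theorem charpoly_eq_pow (M : Matrix ι ι F) {f : F[X]} (hf : Irreducible f) (hfm : f.Monic)
    (hM : IsNilpotent (aeval M f)) : ∃ e : ℕ, M.charpoly = f ^ e := by
  obtain ⟨k, hk⟩ := hM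
  rw [← map_pow] at hk
  have hm : minpoly F M ∣ f ^ k := minpoly.dvd F M hk
  have h1 : M.charpoly ∣ f ^ M.charpoly.natDegree :=
    dvd_pow_natDegree_of_forall_irreducible M.charpoly_monic.ne_zero fun g hg hgd =>
      (hg.prime.dvd_of_dvd_pow ((dvd_minpoly_of_dvd_charpoly M hg hgd).trans hm))
  obtain ⟨e, -, he⟩ := (dvd_prime_pow hf.prime _).mp h1
  exact ⟨e, eq_of_monic_of_associated M.charpoly_monic (hfm.pow e) he⟩

/-- Either the characteristic polynomial is a prime power or a non-trivial idempotent commutes. -/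
theorem idempotent_or_primary [Nonempty ι] (M : Matrix ι ι F) :
    (∃ f : F[X], f.Monic ∧ Irreducible f ∧ IsNilpotent (aeval M f) ∧ ∃ e, M.charpoly = f ^ e) ∨
    (∃ E : Matrix ι ι F, E * E = E ∧ E ≠ 0 ∧ E ≠ 1 ∧ Commute E M) := by
  obtain ⟨f, hfm, hf, hfd⟩ := exists_monic_irreducible_factor M.charpoly (by
    intro h
    have := natDegree_eq_zero_of_isUnit h
    rw [Matrix.charpoly_natDegree_eq_dim] at this
    exact Fintype.card_ne_zero this)
  by_cases hnil : IsNilpotent (aeval M f)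
  · exact Or.inl ⟨f, hfm, hf, hnil, charpoly_eq_pow M hf hfm hnil⟩
  · refine Or.inr ?_
    have hm0 : minpoly F M ≠ 0 := minpoly.ne_zero (Matrix.isIntegral M)
    obtain ⟨h, hmh, hfh⟩ := (FiniteMultiplicity.of_prime_left hf.prime hm0).exists_eq_pow_mul_and_not_dvd
    obtain ⟨a, ha⟩ : ∃ a : ℕ, minpoly F M = f ^ a * h := ⟨_, hmh⟩
    have ha1 : a ≠ 0 := by
      rintro rfl
      rw [pow_zero, one_mul] at ha
      exact hfh (ha ▸ dvd_minpoly_of_dvd_charpoly M hf hfd)
    have hhu : ¬ IsUnit h := by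
      intro hu
      apply hnil
      refine ⟨a, ?_⟩
      obtain ⟨h', rfl⟩ := hu
      rw [← map_pow, show f ^ a = minpoly F M * (↑h'⁻¹ : F[X]) by rw [ha, Units.mul_inv_cancel_right],
        map_mul, minpoly.aeval, zero_mul]
    obtain ⟨u, v, huv⟩ : IsCoprime (f ^ a) h := (hf.coprime_iff_not_dvd.mpr hfh).pow_left
    refine ⟨aeval M (v * h), ?_, ?_, ?_, by
      have := (Commute.all (v * h) X).map (aeval M)
      rwa [aeval_X] at this⟩
    · rw [← map_mul]
      have : v * h * (v * h) = v * h - (u * v) * (f ^ a * h) := by linear_combination (v * h) * huv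
      rw [this, map_sub, map_mul (aeval M) (u * v), ← ha, minpoly.aeval, mul_zero, sub_zero]
    · intro h0
      have hd : f ∣ v * h := (dvd_pow_self f ha1).trans (Dvd.intro h ha.symm |>.trans (minpoly.dvd F M h0))
      exact hf.not_isUnit (isUnit_of_dvd_one (huv ▸ dvd_add ((dvd_pow_self f ha1).mul_left u) hd))
    · intro h1
      have h0 : aeval M (u * f ^ a) = 0 := by
        have := congrArg (aeval M) huv
        rw [map_add, map_one, h1] at this
        simpa using this
      have hd : h ∣ u * f ^ a := (Dvd.intro_left (f ^ a) ha.symm).trans (minpoly.dvd F M h0)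
      exact hhu (isUnit_of_dvd_one (huv ▸ dvd_add hd (dvd_mul_left h v)))

/-! ### the projective special linear group -/

variable {n : ℕ}

local notation "SLn" => Matrix.SpecialLinearGroup (Fin n) F
local notation "PSLn" => Matrix.ProjectiveSpecialLinearGroup (Fin n) F

theorem mk_eq_one_iff (s : SLn) :
    (QuotientGroup.mk s : PSLn) = 1 ↔
      ∃ c : F, (s : Matrix (Fin n) (Fin n) F) = c • (1 : Matrix (Fin n) (Fin n) F) := by
  rw [QuotientGroup.eq_one_iff, Matrix.SpecialLinearGroup.mem_center_iff]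
  constructor
  · rintro ⟨c, -, hc⟩
    refine ⟨c, ?_⟩
    rw [← hc, Matrix.smul_one_eq_diagonal]; rfl
  · rintro ⟨c, hc⟩
    refine ⟨c, ?_, ?_⟩
    · have := s.2
      rw [hc, Matrix.det_smul, Matrix.det_one, mul_one] at this
      exact this
    · rw [hc, Matrix.smul_one_eq_diagonal]; rfl

/-- A commuting non-trivial idempotent provides a commuting element of order `r`. -/
theorem exists_commute_orderOf [Fintype F] {r : ℕ} (hr : r.Prime) (hrq : r ∣ Fintype.card F - 1)
    (hrn : ¬ r ∣ n) (s : SLn) (E : Matrix (Fin n) (Fin n) F) (hE : E * E = E) (h0 : E ≠ 0)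
    (h1 : E ≠ 1) (hc : Commute E (s : Matrix (Fin n) (Fin n) F)) :
    ∃ z : PSLn, Commute z (QuotientGroup.mk s : PSLn) ∧ orderOf z = r := by
  classical
  have : Fact r.Prime := ⟨hr⟩
  obtain ⟨ζ, hζ⟩ := exists_prime_orderOf_dvd_card r (G := Fˣ) (by rwa [Fintype.card_units])
  have hζr : (ζ : F) ^ r = 1 := by
    rw [← Units.val_pow_eq_pow_val, ← hζ, pow_orderOf_eq_one, Units.val_one]
  have hζ1 : (ζ : F) ≠ 1 := fun h =>
    hr.ne_one (by rw [← hζ, orderOf_eq_one_iff]; exact Units.ext h)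
  obtain ⟨z0, hz0⟩ : ∃ z0 : Matrix (Fin n) (Fin n) F, z0 = 1 + ((ζ : F) - 1) • E := ⟨_, rfl⟩
  have hz0pow : ∀ i : ℕ, z0 ^ i = 1 + ((ζ : F) ^ i - 1) • E := by
    intro i
    induction i with
    | zero => simp
    | succ i ih =>
      rw [pow_succ, ih, hz0, add_mul, one_mul, mul_add, mul_one, smul_mul_assoc, mul_smul_comm,
        hE, smul_smul]
      module
  have hz0r : z0 ^ r = 1 := by rw [hz0pow, hζr]; simp
  obtain ⟨δ, hδ⟩ : ∃ δ, z0.det = δ := ⟨_, rfl⟩
  have hδr : δ ^ r = 1 := by rw [← hδ, ← Matrix.det_pow, hz0r, Matrix.det_one]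
  obtain ⟨j, hj, hjn⟩ : ∃ j, j < r ∧ n * j % r = 1 := Nat.exists_mul_mod_eq_one_of_coprime
    ((hr.coprime_iff_not_dvd.mpr hrn).symm) hr.one_lt
  obtain ⟨c, hcdef⟩ : ∃ c, c = (δ ^ j)⁻¹ := ⟨_, rfl⟩
  have hcn : c ^ n * δ = 1 := by
    rw [hcdef, inv_pow, ← pow_mul, mul_comm j n, ← Nat.div_add_mod (n * j) r, hjn, pow_add,
      pow_mul, hδr, one_pow, one_mul, pow_one, inv_mul_cancel₀]
    rintro rfl
    simp [zero_pow hr.ne_zero] at hδr
  have hcr : c ^ r = 1 := by rw [hcdef, inv_pow, ← pow_mul, mul_comm, pow_mul, hδr, one_pow, inv_one]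
  have hc0 : c ≠ 0 := by rintro rfl; simp [zero_pow hr.ne_zero] at hcr
  let z : SLn := ⟨c • z0, by rw [Matrix.det_smul, Fintype.card_fin, hδ, hcn]⟩
  refine ⟨QuotientGroup.mk z, ?_, ?_⟩
  · have : Commute z s := by
      apply Subtype.ext
      change (c • z0) * (s : Matrix (Fin n) (Fin n) F) = (s : Matrix (Fin n) (Fin n) F) * (c • z0)
      rw [hz0]
      exact (((Commute.one_left _).add_left (hc.smul_left _)).smul_left c).eq
    exact this.map (QuotientGroup.mk' _)
  · apply orderOf_eq_prime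
    · rw [← QuotientGroup.mk_pow, mk_eq_one_iff]
      refine ⟨1, ?_⟩
      rw [Matrix.SpecialLinearGroup.coe_pow]
      change (c • z0) ^ r = _
      rw [smul_pow, hcr, hz0r]
    · rw [Ne, mk_eq_one_iff]
      rintro ⟨t, ht⟩
      change c • z0 = t • (1 : Matrix (Fin n) (Fin n) F) at ht
      rw [hz0] at ht
      obtain ⟨k, hk⟩ : ∃ k : F, k = (t / c - 1) / ((ζ : F) - 1) := ⟨_, rfl⟩
      have hE' : E = k • (1 : Matrix (Fin n) (Fin n) F) := by
        ext a b
        have := congrFun (congrFun ht a) b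
        simp only [Matrix.smul_apply, Matrix.add_apply, smul_eq_mul] at this ⊢
        rw [hk]
        have hz : (ζ : F) - 1 ≠ 0 := sub_ne_zero.mpr hζ1
        field_simp
        linear_combination this
      have hkk : k * k = k := by
        rw [hE', smul_mul_smul_comm, one_mul] at hE
        rcases Nat.eq_zero_or_pos n with rfl | hn
        · exact absurd (dvd_zero r) hrn
        · simpa using congrFun (congrFun hE ⟨0, hn⟩) ⟨0, hn⟩
      rcases mul_eq_zero.mp (by linear_combination hkk : k * (k - 1) = 0) with hk0 | hk1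
      · exact h0 (by rw [hE', hk0, zero_smul])
      · exact h1 (by rw [hE', sub_eq_zero.mp hk1, one_smul])

/-- An element of `p`-power order in `GL_n` has determinant one and is never scalar unless one. -/
theorem eq_one_of_pow_char_pow {R : Type*} [CommRing R] [IsReduced R] (p : ℕ) [Fact p.Prime]
    [CharP R p] {x : R} {T : ℕ} (h : x ^ p ^ T = 1) : x = 1 := by
  have : (x - 1) ^ p ^ T = 0 := by rw [sub_pow_char_pow, h, one_pow, sub_self]
  exact sub_eq_zero.mp (eq_zero_of_pow_eq_zero this)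

theorem exists_psl_of_pow_char_pow (p : ℕ) [Fact p.Prime] [CharP F p] (hn : 1 ≤ n)
    (g : GL (Fin n) F) {T : ℕ} (hg : g ^ p ^ T = 1) :
    ∃ s : SLn, (s : Matrix (Fin n) (Fin n) F) = g ∧
      orderOf (QuotientGroup.mk s : PSLn) = orderOf g := by
  have hdet : (g : Matrix (Fin n) (Fin n) F).det = 1 := eq_one_of_pow_char_pow p (T := T) (by
    rw [← Matrix.det_pow, ← Units.val_pow_eq_pow_val, hg, Units.val_one, Matrix.det_one])
  let s : SLn := ⟨g, hdet⟩
  have hcoe : (s : Matrix (Fin n) (Fin n) F) = g := rfl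
  refine ⟨s, hcoe, Nat.dvd_antisymm ?_ ?_⟩
  · refine orderOf_dvd_of_pow_eq_one ((mk_eq_one_iff _).mpr ⟨1, ?_⟩)
    rw [one_smul, Matrix.SpecialLinearGroup.coe_pow, hcoe]
    rw [← Units.val_pow_eq_pow_val, pow_orderOf_eq_one, Units.val_one]
  · obtain ⟨k, hk⟩ : ∃ k, orderOf (QuotientGroup.mk s : PSLn) = k := ⟨_, rfl⟩
    have hk1 := pow_orderOf_eq_one (QuotientGroup.mk s : PSLn)
    rw [hk, ← QuotientGroup.mk_pow, mk_eq_one_iff] at hk1
    obtain ⟨c, hc⟩ := hk1
    rw [Matrix.SpecialLinearGroup.coe_pow, hcoe] at hc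
    have hc1 : c = 1 := eq_one_of_pow_char_pow p (T := T) (by
      have h2 := congrArg (fun M : Matrix (Fin n) (Fin n) F => (M ^ p ^ T) ⟨0, hn⟩ ⟨0, hn⟩) hc
      simp only [smul_pow, one_pow, ← pow_mul] at h2
      rw [mul_comm k, pow_mul, ← Units.val_pow_eq_pow_val g, hg, Units.val_one, one_pow] at h2
      simpa using h2.symm)
    rw [hk]
    refine orderOf_dvd_of_pow_eq_one (Units.ext ?_)
    rw [Units.val_pow_eq_pow_val, hc, hc1, one_smul, Units.val_one]

/-- The Singer element: its order in `PSL_n(q)` is prime to `p` and to `r`, and together with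
the `p`-part it bounds the order of every element without a commuting idempotent. -/
theorem exists_singer_psl_aux (K : Type*) [Field K] [Fintype K] [Algebra F K]
    (hK : Module.finrank F K = n) [Fintype F] (p a : ℕ) [Fact p.Prime] [CharP F p] (ha : 1 ≤ a)
    (hF : Fintype.card F = p ^ a) (hn : 1 ≤ n) {r : ℕ} (hr : r.Prime)
    (hrq : r ∣ Fintype.card F - 1) (hrn : ¬ r ∣ n) :
    ∃ σ : PSLn, ¬ r ∣ orderOf σ ∧ (orderOf σ).Coprime p ∧
      ∀ (s : SLn) (f : F[X]) (e : ℕ), f.Monic → Irreducible f →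
        IsNilpotent (aeval (s : Matrix (Fin n) (Fin n) F) f) →
        (s : Matrix (Fin n) (Fin n) F).charpoly = f ^ e →
        (QuotientGroup.mk s : PSLn) ^ (orderOf σ * p ^ Nat.clog p n) = 1 := by
  have : Module.Finite F K := Module.Finite.of_finite
  let b : Module.Basis (Fin n) F K :=
    Module.finBasisOfFinrankEq F K hK
  let N : Kˣ →* Fˣ := Units.map (Algebra.norm F (S := K))
  obtain ⟨s0, hs0⟩ := IsCyclic.exists_generator (α := N.ker)
  have hs0n : Algebra.norm F ((s0 : Kˣ) : K) = 1 := congrArg Units.val s0.2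
  let S : SLn := ⟨unitsGL b (s0 : Kˣ), (det_unitsGL b _).trans hs0n⟩
  obtain ⟨N0, hN0⟩ : ∃ N0, ∑ i ∈ Finset.range n, Fintype.card F ^ i = N0 := ⟨_, rfl⟩
  have hS : S ^ N0 = 1 := by
    apply Subtype.ext
    rw [Matrix.SpecialLinearGroup.coe_pow]
    change (Algebra.leftMulMatrix b ((s0 : Kˣ) : K)) ^ N0 = 1
    have := FiniteField.algebraMap_norm_eq_pow_sum (K := F) (L := K) (x := ((s0 : Kˣ) : K))
    rw [hs0n, map_one, hK] at this
    rw [← map_pow, ← hN0, Nat.card_eq_fintype_card.symm]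
    simp only [Nat.card_eq_fintype_card] at this ⊢
    rw [← this, map_one]
  have hdvd : orderOf (QuotientGroup.mk S : PSLn) ∣ N0 :=
    orderOf_dvd_of_pow_eq_one (by rw [← QuotientGroup.mk_pow, hS, QuotientGroup.mk_one])
  refine ⟨QuotientGroup.mk S, ?_, ?_, ?_⟩
  · intro h
    have h1 := h.trans hdvd
    apply hrn
    rw [← ZMod.natCast_eq_zero_iff] at *
    have hq : ((Fintype.card F : ℕ) : ZMod r) = 1 := by
      have : ((Fintype.card F - 1 : ℕ) : ZMod r) = 0 := hrq
      rwa [Nat.cast_sub Fintype.card_pos, Nat.cast_one, sub_eq_zero] at this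
    rw [← hN0] at h1
    simpa [hq] using h1
  · refine Nat.Coprime.coprime_dvd_left hdvd ?_
    rw [Nat.coprime_comm, (Fact.out : p.Prime).coprime_iff_not_dvd, ← ZMod.natCast_eq_zero_iff,
      ← hN0, hF]
    obtain ⟨n', rfl⟩ : ∃ n', n = n' + 1 := ⟨n - 1, by omega⟩
    rw [Finset.sum_range_succ']
    simp [zero_pow (show a ≠ 0 by omega)]
  · intro s f e hfm hf hnil he
    have hdeg : e * f.natDegree = n := by
      rw [← natDegree_pow, ← he, Matrix.charpoly_natDegree_eq_dim, Fintype.card_fin]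
    have hsplit : (f.map (algebraMap F K)).Splits := by
      have := FiniteField.isSplittingField_sub K F
      have hcard : Fintype.card K = Nat.card F ^ n := by
        rw [← hK, ← Nat.card_eq_fintype_card, Module.natCard_eq_pow_finrank (K := F)]
      obtain ⟨Q, hQ⟩ : ∃ Q, Nat.card F ^ n = Q := ⟨_, rfl⟩
      have hQ1 : 1 < Q := hQ ▸ hcard ▸ Fintype.one_lt_card
      have hdvd : f ∣ X ^ Q - X :=
        hQ ▸ hf.natDegree_dvd_iff_dvd_X_pow_card_pow_sub_X.mp (Dvd.intro_left e hdeg)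
      rw [hcard, hQ] at this
      have hs : ((X ^ Q - X : F[X]).map (algebraMap F K)).Splits := this.splits
      have hne : (X ^ Q - X : F[X]).map (algebraMap F K) ≠ 0 :=
        Polynomial.map_ne_zero (FiniteField.X_pow_card_sub_X_ne_zero F hQ1)
      exact hs.of_dvd hne (Polynomial.map_dvd (algebraMap F K) hdvd)
    obtain ⟨θ, hθ⟩ := hsplit.exists_eval_eq_zero (by
      rw [degree_map]; exact (degree_pos_of_irreducible hf).ne')
    rw [eval_map_algebraMap] at hθ
    have hnilθ : IsNilpotent (aeval (Algebra.leftMulMatrix b θ) f) := by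
      rw [aeval_algHom_apply, hθ, map_zero]; exact IsNilpotent.zero
    obtain ⟨e', he'⟩ := charpoly_eq_pow _ hf hfm hnilθ
    have hdeg' : e' * f.natDegree = n := by
      rw [← natDegree_pow, ← he', Matrix.charpoly_natDegree_eq_dim, Fintype.card_fin]
    have hee : e' = e := Nat.eq_of_mul_eq_mul_right hf.natDegree_pos (hdeg'.trans hdeg.symm)
    have hnorm : Algebra.norm F θ = 1 := by
      rw [Algebra.norm_eq_matrix_det b, Matrix.det_eq_sign_charpoly_coeff, he', hee, ← he,
        ← Matrix.det_eq_sign_charpoly_coeff]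
      exact s.2
    have hθ0 : θ ≠ 0 := by rintro rfl; simp at hnorm
    obtain ⟨j, hj⟩ : ∃ j : ℕ, θ = ((s0 : Kˣ) : K) ^ j := by
      have hmem : Units.mk0 θ hθ0 ∈ N.ker := Units.ext (by simpa [N] using hnorm)
      obtain ⟨j, hj⟩ := (isOfFinOrder_of_finite s0).mem_powers_iff_mem_zpowers.mpr
        (hs0 ⟨_, hmem⟩)
      refine ⟨j, ?_⟩
      simpa using congrArg (fun x : N.ker => ((x : Kˣ) : K)) hj.symm
    obtain ⟨D, hD⟩ : ∃ D, orderOf (QuotientGroup.mk S : PSLn) = D := ⟨_, rfl⟩
    have h1 := pow_orderOf_eq_one (QuotientGroup.mk S : PSLn)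
    rw [hD, ← QuotientGroup.mk_pow, mk_eq_one_iff] at h1
    obtain ⟨c, hc⟩ := h1
    rw [Matrix.SpecialLinearGroup.coe_pow] at hc
    change (Algebra.leftMulMatrix b ((s0 : Kˣ) : K)) ^ D = _ at hc
    have hθD : aeval θ (X ^ D - C (c ^ j) : F[X]) = 0 := by
      have : θ ^ D = algebraMap F K (c ^ j) := by
        apply Algebra.leftMulMatrix_injective b
        rw [hj, ← pow_mul, mul_comm, pow_mul, map_pow, map_pow, hc, smul_pow, one_pow,
          AlgHom.commutes, Algebra.algebraMap_eq_smul_one]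
      simp [this]
    have hfd : f ∣ X ^ D - C (c ^ j) := (hf.dvd_iff_aeval_eq_zero hθ).mp hθD
    have hnil2 : IsNilpotent (aeval (s : Matrix (Fin n) (Fin n) F) (X ^ D - C (c ^ j) : F[X])) := by
      obtain ⟨g, hg⟩ := hfd
      rw [hg, map_mul]
      exact ((Commute.all f g).map (aeval (s : Matrix (Fin n) (Fin n) F))).isNilpotent_mul_right hnil
    rw [hD, ← QuotientGroup.mk_pow, mk_eq_one_iff]
    refine ⟨(c ^ j) ^ p ^ Nat.clog p n, ?_⟩
    have h0 := pow_card_eq_zero_of_isNilpotent hnil2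
    rw [Fintype.card_fin] at h0
    have h2 := pow_eq_zero_of_le (Nat.le_pow_clog (Fact.out : p.Prime).one_lt n) h0
    have : Nonempty (Fin n) := ⟨⟨0, hn⟩⟩
    rw [map_sub, map_pow, aeval_X, aeval_C, sub_pow_char_pow_of_commute _ _
      ((Algebra.commute_algebraMap_left _ _).symm), ← pow_mul, ← map_pow, sub_eq_zero] at h2
    rw [Matrix.SpecialLinearGroup.coe_pow, h2, Algebra.algebraMap_eq_smul_one]

/-- The Singer element exists. -/
theorem exists_singer_psl [Fintype F] (p a : ℕ) [Fact p.Prime] [CharP F p] (ha : 1 ≤ a)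
    (hF : Fintype.card F = p ^ a) (hn : 1 ≤ n) {r : ℕ} (hr : r.Prime)
    (hrq : r ∣ Fintype.card F - 1) (hrn : ¬ r ∣ n) :
    ∃ σ : PSLn, ¬ r ∣ orderOf σ ∧ (orderOf σ).Coprime p ∧
      ∀ (s : SLn) (f : F[X]) (e : ℕ), f.Monic → Irreducible f →
        IsNilpotent (aeval (s : Matrix (Fin n) (Fin n) F) f) →
        (s : Matrix (Fin n) (Fin n) F).charpoly = f ^ e →
        (QuotientGroup.mk s : PSLn) ^ (orderOf σ * p ^ Nat.clog p n) = 1 :=
  haveI : NeZero n := ⟨by omega⟩
  haveI : Fintype (FiniteField.Extension F p n) := Fintype.ofFinite _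
  exists_singer_psl_aux (FiniteField.Extension F p n) (FiniteField.finrank_extension F p n)
    p a ha hF hn hr hrq hrn

end Cfsg.Agent.Spectra
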