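import Cfsg.Agent.Lib.Spectra.SympModels
import Cfsg.Agent.Lib.Spectra.Projective
import Mathlib.Algebra.Polynomial.Reverse
import Mathlib.Algebra.Polynomial.EraseLead

/-!
Bounds on element orders in `PSp 2n` over a finite field of odd order.
-/

set_option autoImplicit false

namespace Cfsg.Agent.SympSpectra

open Polynomial Matrix

variable {F : Type*} [Field F] {n : ℕ}

local notation "Mat" => Matrix (Fin n ⊕ Fin n) (Fin n ⊕ Fin n) F

/-- The adjoint with respect to the standard alternating form. -/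
def adj (X : Mat) : Mat := -(Matrix.J (Fin n) F * Xᵀ * Matrix.J (Fin n) F)

theorem adj_one : adj (1 : Mat) = 1 := by
  simp [adj, Matrix.J_squared]

theorem adj_mul (X Y : Mat) : adj (X * Y) = adj Y * adj X := by
  simp only [adj, transpose_mul, neg_mul_neg]
  rw [show Matrix.J (Fin n) F * Yᵀ * Matrix.J (Fin n) F *
      (Matrix.J (Fin n) F * Xᵀ * Matrix.J (Fin n) F) = Matrix.J (Fin n) F * Yᵀ *
      (Matrix.J (Fin n) F * Matrix.J (Fin n) F) * (Xᵀ * Matrix.J (Fin n) F) by
    simp only [mul_assoc], Matrix.J_squared]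
  simp [mul_assoc]

theorem adj_add (X Y : Mat) : adj (X + Y) = adj X + adj Y := by
  simp only [adj, transpose_add, mul_add, add_mul, neg_add]

theorem adj_smul (c : F) (X : Mat) : adj (c • X) = c • adj X := by
  simp [adj]

theorem adj_sub (X Y : Mat) : adj (X - Y) = adj X - adj Y := by
  simp only [adj, transpose_sub, mul_sub, sub_mul, neg_sub_neg, neg_sub]

theorem adj_adj (X : Mat) : adj (adj X) = X := by
  simp only [adj, transpose_neg, transpose_mul, transpose_transpose, Matrix.J_transpose,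
    neg_mul, mul_neg, neg_neg]
  rw [show Matrix.J (Fin n) F * (Matrix.J (Fin n) F * (X * Matrix.J (Fin n) F)) *
    Matrix.J (Fin n) F = (Matrix.J (Fin n) F * Matrix.J (Fin n) F) * X *
      (Matrix.J (Fin n) F * Matrix.J (Fin n) F) by simp only [mul_assoc], Matrix.J_squared]
  simp

theorem adj_eq_inv (s : Matrix.symplecticGroup (Fin n) F) :
    adj (s : Mat) = (s⁻¹ : Matrix.symplecticGroup (Fin n) F) := by
  rw [SymplecticGroup.coe_inv, adj]; simp [neg_mul]

theorem mem_of_adj_mul {Z : Mat} (h : Z * adj Z = 1) :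
    Z ∈ Matrix.symplecticGroup (Fin n) F := by
  rw [SymplecticGroup.mem_iff]
  have h' := congrArg (· * Matrix.J (Fin n) F) h
  simp only [one_mul, adj, mul_neg, neg_mul, ← mul_assoc] at h'
  rw [mul_assoc (Z * Matrix.J (Fin n) F * Zᵀ), Matrix.J_squared, mul_neg, mul_one, neg_neg] at h'
  exact h'

theorem mk_orderOf_two (h2 : (2 : F) ≠ 0) (hn : 1 ≤ n) (s : Matrix.symplecticGroup (Fin n) F)
    (P : Mat) (hP : P * P = P) (hPa : adj P = P) (h0 : P ≠ 0) (h1 : P ≠ 1)
    (hc : Commute P (s : Mat)) :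
    ∃ z : Cfsg.PSp n F, Commute z (QuotientGroup.mk s : Cfsg.PSp n F) ∧ orderOf z = 2 := by
  obtain ⟨Z, hZ⟩ : ∃ Z : Mat, Z = 1 - (2 : F) • P := ⟨_, rfl⟩
  have hZa : adj Z = Z := by rw [hZ, adj_sub, adj_one, adj_smul, hPa]
  have hZZ : Z * Z = 1 := by
    rw [hZ]
    simp only [sub_mul, mul_sub, one_mul, mul_one, smul_mul_assoc, mul_smul_comm, hP]
    module
  have hZm : Z ∈ Matrix.symplecticGroup (Fin n) F := mem_of_adj_mul (by rw [hZa, hZZ])
  refine ⟨QuotientGroup.mk (⟨Z, hZm⟩ : Matrix.symplecticGroup (Fin n) F), ?_, ?_⟩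
  · refine Commute.map ?_ (QuotientGroup.mk' _)
    refine Subtype.ext ?_
    show Z * (s : Mat) = (s : Mat) * Z
    rw [hZ]
    exact ((Commute.one_left _).sub_left (hc.smul_left _)).eq
  · have : Fact (Nat.Prime 2) := ⟨Nat.prime_two⟩
    refine orderOf_eq_prime ?_ ?_
    · rw [← QuotientGroup.mk_pow, mk_eq_one_iff hn]
      left
      rw [SubmonoidClass.coe_pow, sq]
      exact hZZ
    · rw [Ne, mk_eq_one_iff hn]
      show ¬(Z = 1 ∨ Z = -1)
      rw [hZ, sub_eq_self, smul_eq_zero]
      rintro (h | h)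
      · exact h.elim h2 h0
      · refine h1 (smul_right_injective Mat h2 ?_)
        show (2 : F) • P = (2 : F) • (1 : Mat)
        linear_combination (norm := module) -h

theorem comp_eq {M : Mat} (g P : F[X]) : aeval (aeval M g) P = aeval M (P.comp g) := by
  rw [aeval_comp]

theorem adj_aeval (s : Matrix.symplecticGroup (Fin n) F) (P : F[X]) :
    adj (aeval (s : Mat) P) = aeval ((s⁻¹ : Matrix.symplecticGroup (Fin n) F) : Mat) P := by
  induction P using Polynomial.induction_on' with
  | add a b ha hb => rw [map_add, map_add, adj_add, ha, hb]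
  | monomial i c =>
    rw [aeval_monomial, aeval_monomial, ← Algebra.smul_def, ← Algebra.smul_def, adj_smul]
    congr 1
    induction i with
    | zero => simp [adj_one]
    | succ i ih => rw [pow_succ, adj_mul, ih, adj_eq_inv, ← pow_succ']

/-- Reflected polynomials and inverses. -/
theorem aeval_reflect {R : Type*} [Ring R] [Algebra F R] {x y : R} (hxy : x * y = 1)
    (hyx : y * x = 1) (N : ℕ) (P : F[X]) (hP : P.natDegree ≤ N) :
    aeval x (reflect N P) = x ^ N * aeval y P := by
  refine induction_with_natDegree_le (fun P => aeval x (reflect N P) = x ^ N * aeval y P) N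
    (by simp) (fun i c _ hi => ?_) (fun a b _ _ ha hb => ?_) P hP
  · have hc : Commute x y := hxy.trans hyx.symm
    rw [reflect_C_mul_X_pow, revAt_le hi, map_mul, map_mul, aeval_C, aeval_C, map_pow, map_pow,
      aeval_X, aeval_X, ← Algebra.smul_def, ← Algebra.smul_def, mul_smul_comm]
    congr 1
    nth_rewrite 2 [← Nat.sub_add_cancel hi]
    rw [pow_add, mul_assoc, ← hc.mul_pow, hxy, one_pow, mul_one]
  · simp only [reflect_add, map_add, ha, hb, mul_add]

theorem natDegree_reflect_le_of_le {N : ℕ} {P : F[X]} (hP : P.natDegree ≤ N) :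
    (reflect N P).natDegree ≤ N := by
  rw [natDegree_le_iff_coeff_eq_zero]
  intro i hi
  rw [coeff_reflect, show revAt N i = i by show (if i ≤ N then N - i else i) = i; rw [if_neg (by omega)]]
  exact coeff_eq_zero_of_natDegree_lt (by omega)

/-- An irreducible divisor of `X ^ N - 1` other than `X` divides `X ^ k - c` with `c = ±1`. -/
theorem exists_sign {f : F[X]} (hf : Irreducible f) {k : ℕ} (h : f ∣ X ^ (2 * k) - 1) :
    ∃ c : F, c ^ 2 = 1 ∧ f ∣ X ^ k - C c := by
  have e : (X : F[X]) ^ (2 * k) - 1 = (X ^ k - C 1) * (X ^ k - C (-1)) := by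
    rw [map_neg, map_one]; ring
  rcases hf.prime.dvd_or_dvd (e ▸ h) with h | h
  · exact ⟨1, one_pow 2, h⟩
  · exact ⟨-1, by ring, h⟩

theorem pow_char_pow_dvd (p : ℕ) [Fact p.Prime] [CharP F p] (hpodd : Odd p) {f : F[X]} {k a : ℕ}
    {c : F} (hc : c ^ 2 = 1) (h : f ∣ X ^ k - C c) :
    f ^ a ∣ X ^ (k * p ^ Nat.clog p a) - C c := by
  have h1 := (pow_dvd_pow f (Nat.le_pow_clog (Fact.out : p.Prime).one_lt a)).trans
    (pow_dvd_pow_of_dvd h (p ^ Nat.clog p a))
  rw [sub_pow_char_pow, ← pow_mul, ← map_pow] at h1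
  have hcP : c ^ p ^ Nat.clog p a = c := by
    obtain ⟨r, hr⟩ : Odd (p ^ Nat.clog p a) := hpodd.pow
    rw [hr, pow_succ, pow_mul, hc, one_pow, one_mul]
  rwa [hcP] at h1

variable [Fintype F]

/-- The basic alternative for the class of a symplectic matrix. -/
theorem bound (p : ℕ) [Fact p.Prime] [CharP F p] (hpodd : Odd p) (h2 : (2 : F) ≠ 0) (hn : 1 ≤ n)
    (hq : Odd (Fintype.card F)) (s : Matrix.symplecticGroup (Fin n) F) :
    (∃ z : Cfsg.PSp n F, Commute z (QuotientGroup.mk s : Cfsg.PSp n F) ∧ orderOf z = 2) ∨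
    (QuotientGroup.mk s : Cfsg.PSp n F) ^ p ^ Nat.clog p (2 * n) = 1 ∨
    ∃ d a k : ℕ, 1 ≤ d ∧ 1 ≤ a ∧ a * d ≤ n ∧
      (2 * k = Fintype.card F ^ d - 1 ∨ 2 * k = Fintype.card F ^ d + 1) ∧
      (QuotientGroup.mk s : Cfsg.PSp n F) ^ (k * p ^ Nat.clog p a) = 1 := by
  obtain ⟨M, hM⟩ : ∃ M : Mat, M = (s : Mat) := ⟨_, rfl⟩
  obtain ⟨N, hN⟩ : ∃ N, orderOf s = N := ⟨_, rfl⟩
  have hN1 : 1 ≤ N := hN ▸ orderOf_pos s
  have hMN : M ^ N = 1 := by
    rw [hM, ← hN, ← SubmonoidClass.coe_pow, pow_orderOf_eq_one]; rfl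
  obtain ⟨g, hg⟩ : ∃ g : F[X], g = X ^ (N - 1) := ⟨_, rfl⟩
  have hMi : ((s⁻¹ : Matrix.symplecticGroup (Fin n) F) : Mat) = aeval M g := by
    rw [hg, map_pow, aeval_X, hM, ← SubmonoidClass.coe_pow]
    congr 1
    rw [inv_eq_iff_mul_eq_one, ← pow_succ', Nat.sub_add_cancel hN1, ← hN, pow_orderOf_eq_one]
  have hadj : ∀ P : F[X], adj (aeval M P) = aeval M (P.comp g) := by
    intro P
    rw [hM, adj_aeval, hMi, ← hM, comp_eq]
  have hXg : (X : F[X]) * g = X ^ N := by rw [hg, ← pow_succ', Nat.sub_add_cancel hN1]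
  have hminN : minpoly F M ∣ X ^ N - 1 := minpoly.dvd F M (by simp [hMN])
  have hsign : ∀ (k : ℕ) (c : F), c ^ 2 = 1 → M ^ k = c • (1 : Mat) →
      (QuotientGroup.mk s : Cfsg.PSp n F) ^ k = 1 := by
    intro k c hc hk
    rw [← QuotientGroup.mk_pow, mk_eq_one_iff hn, SubmonoidClass.coe_pow, ← hM, hk]
    rcases sq_eq_one_iff.1 hc with rfl | rfl
    · exact Or.inl (one_smul F _)
    · exact Or.inr (by simp)
  have hne : Nonempty (Fin n ⊕ Fin n) := ⟨Sum.inl ⟨0, hn⟩⟩
  obtain ⟨f, hfm, hf, hfd⟩ := exists_monic_irreducible_factor M.charpoly (by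
    intro h
    have := natDegree_eq_zero_of_isUnit h
    rw [Matrix.charpoly_natDegree_eq_dim] at this
    exact Fintype.card_ne_zero this)
  have hfmin : f ∣ minpoly F M := Spectra.dvd_minpoly_of_dvd_charpoly M hf hfd
  have hfX : ¬ f ∣ X := by
    intro h
    have h1 : f ∣ X ^ N := h.trans (dvd_pow_self X (by omega))
    have h3 := dvd_sub h1 (hfmin.trans hminN)
    rw [sub_sub_cancel] at h3
    exact hf.not_isUnit (isUnit_of_dvd_one h3)
  have hcard2 : Fintype.card (Fin n ⊕ Fin n) = 2 * n := by simp [two_mul]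
  by_cases hnil : IsNilpotent (aeval M f)
  · -- the characteristic polynomial is a power of `f`
    obtain ⟨e, he⟩ := Spectra.charpoly_eq_pow M hf hfm hnil
    have hed : e * f.natDegree = 2 * n := by
      rw [← natDegree_pow, ← he, Matrix.charpoly_natDegree_eq_dim, hcard2]
    have hker : aeval M (f ^ e) = 0 := by rw [← he]; exact M.aeval_self_charpoly
    have hfg : f ∣ f.comp g := by
      obtain ⟨j, hj⟩ := hnil
      have h0 : aeval M ((f ^ j).comp g) = 0 := by
        rw [← hadj, map_pow, hj]; simp [adj]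
      rw [pow_comp] at h0
      exact hf.prime.dvd_of_dvd_pow (hfmin.trans (minpoly.dvd F M h0))
    obtain ⟨i, k, hi, hk, hfk⟩ : ∃ i k : ℕ, (i = 0 ∨ 2 * i = f.natDegree) ∧
        2 * k = Fintype.card F ^ i + 1 ∧ f ∣ X ^ (2 * k) - 1 := by
      have : Fact (Irreducible f) := ⟨hf⟩
      have : Module.Finite F (AdjoinRoot f) := hfm.finite_adjoinRoot
      have : Finite (AdjoinRoot f) := Module.finite_of_finite F
      have hfr : Module.finrank F (AdjoinRoot f) = f.natDegree := by
        rw [(AdjoinRoot.powerBasis hf.ne_zero).finrank, AdjoinRoot.powerBasis_dim]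
      obtain ⟨θ, hθ⟩ : ∃ θ, θ = AdjoinRoot.root f := ⟨_, rfl⟩
      obtain ⟨θ', hθ'⟩ : ∃ θ', θ' = aeval θ g := ⟨_, rfl⟩
      have hmul : θ * θ' = 1 := by
        have h := AdjoinRoot.mk_eq_zero.2 (hfmin.trans hminN)
        rw [← AdjoinRoot.aeval_eq, ← hXg, map_sub, map_mul, map_one, sub_eq_zero, aeval_X,
          ← hθ] at h
        rw [hθ', h]
      have hev : f.eval₂ (Algebra.ofId F (AdjoinRoot f) : F →+* AdjoinRoot f) θ' = 0 := by
        have h := AdjoinRoot.mk_eq_zero.2 hfg
        rw [← AdjoinRoot.aeval_eq, ← hθ, aeval_comp, ← hθ'] at h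
        exact h
      obtain ⟨σ, hσ⟩ : ∃ σ : AdjoinRoot f →ₐ[F] AdjoinRoot f, σ θ = θ' :=
        ⟨AdjoinRoot.liftAlgHom f (Algebra.ofId F (AdjoinRoot f)) θ' hev, by simp [hθ]⟩
      obtain ⟨⟨i, hi⟩, rfl⟩ := (FiniteField.bijective_frobeniusAlgHom_pow F (AdjoinRoot f)).2 σ
      have hap : ∀ x : AdjoinRoot f,
          (FiniteField.frobeniusAlgHom F (AdjoinRoot f) ^ i) x = x ^ Fintype.card F ^ i := by
        intro x
        rw [AlgHom.coe_pow, FiniteField.coe_frobeniusAlgHom, pow_iterate]
      have hσ' : (FiniteField.frobeniusAlgHom F (AdjoinRoot f) ^ i) θ' = θ := by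
        have h := congrArg (FiniteField.frobeniusAlgHom F (AdjoinRoot f) ^ i) hmul
        rw [map_mul, map_one, hσ] at h
        refine mul_left_cancel₀ (left_ne_zero_of_mul_eq_one ((mul_comm θ' θ).trans hmul)) ?_
        rw [h, mul_comm, hmul]
      have hord : orderOf (FiniteField.frobeniusAlgHom F (AdjoinRoot f)) ∣ i + i := by
        refine orderOf_dvd_of_pow_eq_one (AdjoinRoot.algHom_ext ?_)
        rw [pow_add, AlgHom.mul_apply, ← hθ, hσ, hσ', AlgHom.one_apply]
      rw [FiniteField.orderOf_frobeniusAlgHom, hfr] at hord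
      simp only [hfr] at hi
      obtain ⟨r, hr⟩ := hord
      have hr' : r = 0 ∨ r = 1 := by
        rcases r with _ | _ | r
        · simp
        · simp
        · exfalso; nlinarith
      obtain ⟨k, hk⟩ : Odd (Fintype.card F ^ i) := hq.pow
      refine ⟨i, k + 1, ?_, by omega, ?_⟩
      · rcases hr' with rfl | rfl
        · left; omega
        · right; omega
      · rw [← AdjoinRoot.mk_eq_zero, ← AdjoinRoot.aeval_eq, map_sub, map_pow, aeval_X, map_one,
          sub_eq_zero, ← hθ, show 2 * (k + 1) = Fintype.card F ^ i + 1 by omega, pow_succ',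
          ← hap, hσ, hmul]
    obtain ⟨c, hc, hfc⟩ := exists_sign hf hfk
    rcases hi with rfl | hi
    · refine Or.inr (Or.inl (hsign _ c hc ?_))
      have hk1 : k = 1 := by simp at hk; omega
      subst hk1
      have hle : e ≤ 2 * n := le_trans (Nat.le_mul_of_pos_right e hf.natDegree_pos) hed.le
      have h := minpoly.dvd F M hker
      have h' := (h.trans (pow_dvd_pow f hle)).trans
        (pow_char_pow_dvd p hpodd (a := 2 * n) hc hfc)
      obtain ⟨r, hr⟩ := h'
      have h0 := congrArg (aeval M) hr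
      rw [map_mul, minpoly.aeval, zero_mul, map_sub, map_pow, aeval_X, aeval_C, sub_eq_zero,
        one_mul, Algebra.algebraMap_eq_smul_one] at h0
      exact h0
    · refine Or.inr (Or.inr ⟨i, e, k, ?_, ?_, ?_, Or.inr hk, hsign _ c hc ?_⟩)
      · have := hf.natDegree_pos; omega
      · rcases Nat.eq_zero_or_pos e with rfl | he0
        · omega
        · exact he0
      · rw [← hi, mul_left_comm] at hed
        omega
      · obtain ⟨r, hr⟩ := (minpoly.dvd F M hker).trans (pow_char_pow_dvd p hpodd (a := e) hc hfc)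
        have h0 := congrArg (aeval M) hr
        rw [map_mul, minpoly.aeval, zero_mul, map_sub, map_pow, aeval_X, aeval_C, sub_eq_zero,
          Algebra.algebraMap_eq_smul_one] at h0
        exact h0
  · -- a non-trivial idempotent
    have hm0 : minpoly F M ≠ 0 := minpoly.ne_zero (Matrix.isIntegral M)
    obtain ⟨h, hmh, hfh⟩ :=
      (FiniteMultiplicity.of_prime_left hf.prime hm0).exists_eq_pow_mul_and_not_dvd
    obtain ⟨a, ha⟩ : ∃ a : ℕ, minpoly F M = f ^ a * h := ⟨_, hmh⟩
    have ha1 : a ≠ 0 := by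
      rintro rfl
      rw [pow_zero, one_mul] at ha
      exact hfh (ha ▸ hfmin)
    have hh0 : h ≠ 0 := by rintro rfl; exact hm0 (by rw [ha, mul_zero])
    have hhu : ¬ IsUnit h := by
      intro hu
      apply hnil
      refine ⟨a, ?_⟩
      obtain ⟨h', rfl⟩ := hu
      rw [← map_pow, show f ^ a = minpoly F M * (↑h'⁻¹ : F[X]) by
        rw [ha, Units.mul_inv_cancel_right], map_mul, minpoly.aeval, zero_mul]
    obtain ⟨u, v, huv⟩ : IsCoprime (f ^ a) h := (hf.coprime_iff_not_dvd.mpr hfh).pow_left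
    obtain ⟨E, hE⟩ : ∃ E, E = aeval M (v * h) := ⟨_, rfl⟩
    obtain ⟨E', hE'⟩ : ∃ E', E' = aeval M ((v * h).comp g) := ⟨_, rfl⟩
    have hEE : E * E = E := by
      rw [hE, ← map_mul]
      have : v * h * (v * h) = v * h - (u * v) * (f ^ a * h) := by
        linear_combination (v * h) * huv
      rw [this, map_sub, map_mul (aeval M) (u * v), ← ha, minpoly.aeval, mul_zero, sub_zero]
    have hEa : adj E = E' := by rw [hE, hadj, hE']
    have hE'a : adj E' = E := by rw [← hEa, adj_adj]
    have hcomm : E * E' = E' * E := by rw [hE, hE', ← map_mul, ← map_mul, mul_comm]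
    have hE'E' : E' * E' = E' := by rw [← hEa, ← adj_mul, hEE]
    have hEM : Commute E M := by
      have := (Commute.all (v * h) X).map (aeval M)
      rwa [aeval_X, ← hE] at this
    have hE'M : Commute E' M := by
      have := (Commute.all ((v * h).comp g) X).map (aeval M)
      rwa [aeval_X, ← hE'] at this
    have h0 : E ≠ 0 := by
      intro h0
      have hd : f ∣ v * h := (dvd_pow_self f ha1).trans
        (Dvd.intro h ha.symm |>.trans (minpoly.dvd F M (hE ▸ h0)))
      exact hf.not_isUnit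
        (isUnit_of_dvd_one (huv ▸ dvd_add ((dvd_pow_self f ha1).mul_left u) hd))
    have h1 : E ≠ 1 := by
      intro h1
      have h0 : aeval M (u * f ^ a) = 0 := by
        have := congrArg (aeval M) huv
        rw [map_add, map_one, ← hE, h1] at this
        simpa using this
      have hd : h ∣ u * f ^ a := (Dvd.intro_left (f ^ a) ha.symm).trans (minpoly.dvd F M h0)
      exact hhu (isUnit_of_dvd_one (huv ▸ dvd_add hd (dvd_mul_left h v)))
    have hP : E * E' * (E * E') = E * E' := by
      rw [mul_assoc, ← mul_assoc E' E E', ← hcomm, mul_assoc E E' E', hE'E', ← mul_assoc, hEE]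
    have hPa : adj (E * E') = E * E' := by rw [adj_mul, hEa, hE'a]
    by_cases hP0 : E * E' ≠ 0
    · refine Or.inl (mk_orderOf_two h2 hn s _ hP hPa hP0 (fun h => h1 ?_)
        (hM ▸ hEM.mul_left hE'M))
      calc E = E * (E * E') := by rw [h, mul_one]
        _ = 1 := by rw [← mul_assoc, hEE, h]
    push Not at hP0
    have hQ : (E + E') * (E + E') = E + E' := by
      rw [mul_add, add_mul, add_mul, hEE, hE'E', hP0, ← hcomm, hP0, add_zero, zero_add]
    by_cases hQ1 : E + E' ≠ 1
    · refine Or.inl (mk_orderOf_two h2 hn s _ hQ (by rw [adj_add, hEa, hE'a, add_comm]) (fun h => h0 ?_)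
        hQ1 (hM ▸ hEM.add_left hE'M))
      have h' := congrArg (E * ·) h
      simpa [mul_add, hEE, hP0] using h'
    push Not at hQ1
    -- now the adjoint of `E` is `1 - E`
    have hEf : E * aeval M (f ^ a) = 0 := by
      rw [hE, ← map_mul, show v * h * f ^ a = v * (f ^ a * h) by ring, ← ha, map_mul,
        minpoly.aeval, mul_zero]
    have hE'h : E' * aeval M h = 0 := by
      have h' : E' = aeval M (u * f ^ a) := by
        have := congrArg (aeval M) huv
        rw [map_add, map_one, ← hE, ← hQ1, add_comm E E'] at this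
        exact (add_right_cancel this).symm
      rw [h', ← map_mul, mul_assoc, ← ha, map_mul, minpoly.aeval, mul_zero]
    -- the degree of `h` is at least that of `f ^ a`
    have hfa : a * f.natDegree ≤ n := by
      have hMM : M * aeval M g = 1 := by
        conv_lhs => arg 1; rw [← aeval_X (R := F) M]
        rw [← map_mul, hXg, map_pow, aeval_X, hMN]
      have hMM' : aeval M g * M = 1 := mul_eq_one_comm.1 hMM
      obtain ⟨R, hR⟩ : ∃ R, R = reflect h.natDegree h := ⟨_, rfl⟩
      have hR0 : R ≠ 0 := by rw [hR, Ne, reflect_eq_zero_iff]; exact hh0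
      have hRd : R.natDegree ≤ h.natDegree := hR ▸ natDegree_reflect_le_of_le le_rfl
      have hEh : aeval M (h.comp g) * E = 0 := by
        have := congrArg adj hE'h
        rw [adj_mul, hE'a, hadj] at this
        simpa [adj] using this
      have hkill : aeval M (R * (v * h)) = 0 := by
        rw [map_mul, ← hE, hR, aeval_reflect hMM hMM' _ _ le_rfl, comp_eq, mul_assoc, hEh,
          mul_zero]
      have hdv : f ^ a * h ∣ R * v * h := by rw [← ha, mul_assoc]; exact minpoly.dvd F M hkill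
      have hcop : IsCoprime (f ^ a) v := ⟨u, h, by linear_combination huv⟩
      have hfR : f ^ a ∣ R := hcop.dvd_of_dvd_mul_right ((mul_dvd_mul_iff_right hh0).1 hdv)
      have h3 := natDegree_le_of_dvd hfR hR0
      rw [natDegree_pow] at h3
      have h4 := natDegree_le_of_dvd M.minpoly_dvd_charpoly M.charpoly_monic.ne_zero
      rw [ha, natDegree_mul (pow_ne_zero _ hf.ne_zero) hh0, natDegree_pow,
        Matrix.charpoly_natDegree_eq_dim, hcard2] at h4
      omega
    obtain ⟨k, hk⟩ : ∃ k, 2 * k = Fintype.card F ^ f.natDegree - 1 := by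
      obtain ⟨k, hk⟩ : Odd (Fintype.card F ^ f.natDegree) := hq.pow
      exact ⟨k, by omega⟩
    have hfk : f ∣ X ^ (2 * k) - 1 := by
      have h := Spectra.irreducible_dvd_X_pow_succ_sub_X hf
        (N := 2 * k) (by rw [Nat.card_eq_fintype_card, hk])
      rw [show (X : F[X]) ^ (2 * k + 1) - X = X * (X ^ (2 * k) - 1) by ring] at h
      exact (hf.prime.dvd_or_dvd h).resolve_left hfX
    obtain ⟨c, hc, hfc⟩ := exists_sign hf hfk
    refine Or.inr (Or.inr ⟨f.natDegree, a, k, hf.natDegree_pos, Nat.one_le_iff_ne_zero.2 ha1, hfa,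
      Or.inl hk,
      hsign _ c hc ?_⟩)
    obtain ⟨r, hr⟩ := pow_char_pow_dvd p hpodd (a := a) hc hfc
    obtain ⟨m, hm⟩ : ∃ m, m = k * p ^ Nat.clog p a := ⟨_, rfl⟩
    rw [← hm] at hr ⊢
    have e1 : E * (M ^ m - c • (1 : Mat)) = 0 := by
      have h := congrArg (aeval M) hr
      rw [map_mul, map_sub, map_pow, aeval_X, aeval_C, Algebra.algebraMap_eq_smul_one] at h
      rw [h, ← mul_assoc, hEf, zero_mul]
    have e2 : (M ^ m - c • (1 : Mat)) * E' = 0 := by
      have h : adj (M ^ m - c • (1 : Mat)) * E' = 0 := by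
        rw [← hEa, ← adj_mul, e1]; simp [adj]
      rw [adj_sub, adj_smul, adj_one, ← aeval_X_pow (R := F) M, hadj, pow_comp, X_comp,
        map_pow] at h
      have h' := congrArg (M ^ m * ·) h
      have hMg : Commute M (aeval M g) := by
        have := (Commute.all X g).map (aeval M); rwa [aeval_X] at this
      simp only [mul_zero, ← mul_assoc, mul_sub, mul_smul_comm, mul_one, ← hMg.mul_pow] at h'
      rw [show M * aeval M g = 1 by
        conv_lhs => arg 1; rw [← aeval_X (R := F) M]
        rw [← map_mul, hXg, map_pow, aeval_X, hMN], one_pow] at h'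
      calc (M ^ m - c • (1 : Mat)) * E' = (-c) • ((1 - c • M ^ m) * E') := by
            rw [← Matrix.smul_mul]
            congr 1
            rw [smul_sub, smul_smul, show -c * c = -1 by linear_combination -hc]
            module
        _ = 0 := by rw [h', smul_zero]
    have hcm : Commute E (M ^ m - c • (1 : Mat)) :=
      (hEM.pow_right m).sub_right ((Commute.one_right E).smul_right c)
    have h' : (M ^ m - c • (1 : Mat)) * (E + E') = 0 := by
      rw [mul_add, e2, ← hcm.eq, e1, add_zero]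
    rwa [hQ1, mul_one, sub_eq_zero] at h'

end Cfsg.Agent.SympSpectra
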