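import Cfsg.Prelude.Def_Classical
import Cfsg.Agent.Lib.AutPSL.Descent
import Cfsg.Agent.Lib.Spectra.Projective
import Mathlib.RingTheory.Trace.Basic
import Mathlib.RingTheory.Norm.Basic
import Mathlib.RingTheory.IntegralDomain
import Mathlib.FieldTheory.Finite.Trace
import Mathlib.FieldTheory.Perfect

/-!
Elements of prescribed order in `PSU n` from commutative algebras with a semilinear involution and a
hermitian functional.
-/

set_option autoImplicit false

namespace Cfsg.Agent.UnitarySpectra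

open Matrix Polynomial

variable {F : Type*} [Field F] {n q : ℕ}

local notation "Mn" => Matrix (Fin n) (Fin n) F

/-- The adjoint with respect to the hermitian form `Σ σ(u i) v i`. -/
def adj (σ : F ≃+* F) (X : Mn) : Mn := (X.map σ)ᵀ

theorem adj_one (σ : F ≃+* F) : adj σ (1 : Mn) = 1 := by
  simp [adj]

theorem adj_mul (σ : F ≃+* F) (X Y : Mn) : adj σ (X * Y) = adj σ Y * adj σ X := by
  simp [adj, Matrix.map_mul, Matrix.transpose_mul]

theorem adj_add (σ : F ≃+* F) (X Y : Mn) : adj σ (X + Y) = adj σ X + adj σ Y := by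
  simp [adj, Matrix.map_add]

theorem adj_sub (σ : F ≃+* F) (X Y : Mn) : adj σ (X - Y) = adj σ X - adj σ Y := by
  simp [adj, Matrix.map_sub]

theorem adj_smul (σ : F ≃+* F) (c : F) (X : Mn) : adj σ (c • X) = σ c • adj σ X := by
  ext i j
  simp [adj]

theorem adj_zero (σ : F ≃+* F) : adj σ (0 : Mn) = 0 := by
  ext i j
  simp [adj]

theorem adj_adj (σ : F ≃+* F) (hσσ : ∀ x, σ (σ x) = x) (X : Mn) : adj σ (adj σ X) = X := by
  ext i j
  simp [adj, hσσ]

theorem det_adj (σ : F ≃+* F) (X : Mn) : (adj σ X).det = σ X.det := by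
  rw [adj, Matrix.det_transpose]
  exact (σ.toRingHom.map_det X).symm

theorem mem_SU_iff (σ : F ≃+* F) (hσ : ∀ x, σ x = x ^ q) (s : Matrix.SpecialLinearGroup (Fin n) F) :
    s ∈ Cfsg.SU n F q ↔ adj σ (s : Mn) * (s : Mn) = 1 := by
  have hform : ∀ u v : Fin n → F, Cfsg.hermForm n F q u v = u ⬝ᵥ (σ ∘ v) := fun u v => by
    simp [Cfsg.hermForm, dotProduct, hσ]
  have hσg : ∀ v : Fin n → F, σ ∘ ((s : Mn) *ᵥ v) = (s : Mn).map σ *ᵥ (σ ∘ v) := fun v =>
    funext fun i => RingHom.map_mulVec σ.toRingHom _ _ i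
  show (∀ u v, Cfsg.hermForm n F q ((s : Mn) *ᵥ u) ((s : Mn) *ᵥ v) = Cfsg.hermForm n F q u v) ↔ _
  simp only [hform, hσg]
  have key : ∀ u w : Fin n → F,
      ((s : Mn) *ᵥ u) ⬝ᵥ ((s : Mn).map σ *ᵥ w) = w ⬝ᵥ ((adj σ (s : Mn) * (s : Mn)) *ᵥ u) := by
    intro u w
    rw [← Matrix.mulVec_mulVec, Matrix.dotProduct_mulVec w, adj, Matrix.vecMul_transpose,
      dotProduct_comm]
  simp only [key]
  constructor
  · intro h
    ext i j
    have e := h (Pi.single j 1) (Pi.single i 1)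
    rw [show (σ : F → F) ∘ (Pi.single i 1) = (Pi.single i 1 : Fin n → F) by
      funext k
      rcases eq_or_ne k i with rfl | hk
      · simp
      · simp [hk]] at e
    simpa [Matrix.mulVec_single_one, Matrix.one_apply, Pi.single_apply, eq_comm] using e
  · intro h u v
    rw [h, Matrix.one_mulVec, dotProduct_comm]

/-- An element of `SU` from a matrix. -/
theorem exists_mem_SU (σ : F ≃+* F) (hσ : ∀ x, σ x = x ^ q) {M : Mn} (h : adj σ M * M = 1)
    (hd : M.det = 1) : ∃ s : Cfsg.SU n F q, ((s : Matrix.SpecialLinearGroup (Fin n) F) : Mn) = M :=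
  ⟨⟨⟨M, hd⟩, (mem_SU_iff σ hσ _).2 h⟩, rfl⟩

theorem coe_pow_SU (s : Cfsg.SU n F q) (k : ℕ) :
    (((s ^ k : Cfsg.SU n F q) : Matrix.SpecialLinearGroup (Fin n) F) : Mn) =
      ((s : Matrix.SpecialLinearGroup (Fin n) F) : Mn) ^ k := by
  rw [SubgroupClass.coe_pow, Matrix.SpecialLinearGroup.coe_pow]

/-- The class of a unitary matrix is trivial exactly for scalar matrices. -/
theorem mk_eq_one_iff (σ : F ≃+* F) (hσ : ∀ x, σ x = x ^ q) (hn : 3 ≤ n) {ζ : F}
    (hζ : σ ζ * ζ = 1) (hζ1 : ζ ≠ 1) (s : Cfsg.SU n F q) :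
    (QuotientGroup.mk s : Cfsg.PSU n F q) = 1 ↔
      ∃ c : F, ((s : Matrix.SpecialLinearGroup (Fin n) F) : Mn) = c • (1 : Mn) := by
  rw [QuotientGroup.eq_one_iff, Subgroup.mem_center_iff]
  constructor
  · intro h
    obtain ⟨M, hM⟩ : ∃ M : Mn, M = ((s : Matrix.SpecialLinearGroup (Fin n) F) : Mn) := ⟨_, rfl⟩
    have hcomm : ∀ A : Mn, adj σ A * A = 1 → A.det = 1 → A * M = M * A := by
      intro A hA hd
      obtain ⟨t, ht⟩ := exists_mem_SU (q := q) σ hσ hA hd
      rw [← ht, hM]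
      exact congrArg (fun x : Cfsg.SU n F q => ((x : Matrix.SpecialLinearGroup (Fin n) F) : Mn)) (h t)
    have hζ0 : ζ ≠ 0 := right_ne_zero_of_mul_eq_one hζ
    have hζ' : σ ζ⁻¹ * ζ⁻¹ = 1 := by rw [map_inv₀, ← mul_inv, hζ, inv_one]
    have hthird : ∀ i j : Fin n, i ≠ j → ∃ k, k ≠ i ∧ k ≠ j := by
      intro i j _
      by_contra! hc
      have : (Finset.univ : Finset (Fin n)) ⊆ {i, j} := fun k _ => by
        rcases eq_or_ne k i with rfl | hk
        · simp
        · simp [hc k hk]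
      have h1 := Finset.card_le_card this
      have h2 := Finset.card_le_two (a := i) (b := j)
      simp at h1
      omega
    have hoff : ∀ i j : Fin n, i ≠ j → M i j = 0 := by
      intro i j hij
      obtain ⟨k, hki, hkj⟩ := hthird i j hij
      obtain ⟨d, hd⟩ : ∃ d : Fin n → F,
          d = fun a => if a = i then ζ else if a = k then ζ⁻¹ else 1 := ⟨_, rfl⟩
      have h1 : adj σ (Matrix.diagonal d) * Matrix.diagonal d = 1 := by
        rw [adj, Matrix.diagonal_map (map_zero σ), Matrix.diagonal_transpose,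
          Matrix.diagonal_mul_diagonal, ← Matrix.diagonal_one]
        congr 1
        funext a
        simp only [hd, Function.comp_apply]
        split_ifs <;> simp only [hζ, hζ', map_one, mul_one]
      have h2 : (Matrix.diagonal d).det = 1 := by
        rw [Matrix.det_diagonal, hd]
        rw [Finset.prod_eq_mul i k hki.symm (fun a _ ha => by simp [ha.1, ha.2])
          (by simp) (by simp)]
        simp [hki, hζ0]
      have h3 := congrFun (congrFun (hcomm _ h1 h2) i) j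
      rw [Matrix.diagonal_mul, Matrix.mul_diagonal, hd] at h3
      simp only [if_pos, if_neg hij.symm, if_neg hkj.symm, mul_one] at h3
      exact (mul_eq_zero.1 (by linear_combination h3 : (ζ - 1) * M i j = 0)).resolve_left
        (sub_ne_zero.2 hζ1)
    have hdiag : ∀ i j : Fin n, i ≠ j → M i i = M j j := by
      intro i j hij
      obtain ⟨k, hki, hkj⟩ := hthird i j hij
      obtain ⟨π, hπ⟩ : ∃ π : Equiv.Perm (Fin n), π = Equiv.swap i j * Equiv.swap j k := ⟨_, rfl⟩
      obtain ⟨A, hA⟩ : ∃ A : Mn, A = π.permMatrix F := ⟨_, rfl⟩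
      have hAd : A.det = 1 := by
        rw [hA, Matrix.det_permutation, hπ, Equiv.Perm.sign_mul, Equiv.Perm.sign_swap hij,
          Equiv.Perm.sign_swap hkj.symm]
        simp
      have hAu : adj σ A * A = 1 := by
        have e : A.map σ = A := by
          ext a b
          simp only [hA, Matrix.map_apply, Equiv.Perm.permMatrix, PEquiv.toMatrix_apply]
          split_ifs <;> simp
        rw [adj, e, hA, Matrix.transpose_permMatrix, ← Matrix.permMatrix_mul, mul_inv_cancel,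
          Matrix.permMatrix_one]
      have h3 := congrFun (congrFun (hcomm A hAu hAd) i) (π i)
      rw [hA, Equiv.Perm.permMatrix, PEquiv.toMatrix_toPEquiv_mul, PEquiv.mul_toMatrix_toPEquiv] at h3
      simp only [Matrix.submatrix_apply, id, Equiv.symm_apply_apply] at h3
      have : π i = j := by
        rw [hπ, Equiv.Perm.mul_apply, Equiv.swap_apply_of_ne_of_ne hij hki.symm,
          Equiv.swap_apply_left]
      rw [this] at h3
      exact h3.symm
    refine ⟨M ⟨0, by omega⟩ ⟨0, by omega⟩, ?_⟩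
    rw [← hM]
    ext i j
    rcases eq_or_ne i j with rfl | hij
    · rcases eq_or_ne i (⟨0, by omega⟩ : Fin n) with rfl | hi
      · simp
      · simp [hdiag i _ hi]
    · simp [hoff i j hij, hij]
  · rintro ⟨c, hc⟩ t
    apply Subtype.ext
    apply Subtype.ext
    show ((t : Matrix.SpecialLinearGroup (Fin n) F) : Mn) * ((s : Matrix.SpecialLinearGroup (Fin n) F) : Mn) =
      ((s : Matrix.SpecialLinearGroup (Fin n) F) : Mn) * ((t : Matrix.SpecialLinearGroup (Fin n) F) : Mn)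
    rw [hc]
    simp

/-- A hermitian functional makes the regular representation compatible with the involution. -/
theorem exists_model [Fintype F] (σ : F ≃+* F) (hσ2 : orderOf σ = 2) {A : Type*} [CommRing A]
    [Algebra F A] [Module.Finite F A] (hd : Module.finrank F A = n) (τ : A →+* A)
    (hτ : ∀ x, τ (τ x) = x) (hτl : ∀ c, τ (algebraMap F A c) = algebraMap F A (σ c))
    (ℓ : A →ₗ[F] F) (hℓ : ∀ x, ℓ (τ x) = σ (ℓ x)) (hnd : ∀ x, (∀ y, ℓ (x * y) = 0) → x = 0) :
    ∃ b : Module.Basis (Fin n) F A,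
      ∀ x, adj σ (Algebra.leftMulMatrix b x) = Algebra.leftMulMatrix b (τ x) := by
  classical
  have hσσ : ∀ x, σ (σ x) = x := fun x => by
    have h : σ ^ 2 = 1 := hσ2 ▸ pow_orderOf_eq_one σ
    rw [sq] at h
    exact RingEquiv.congr_fun h x
  have hτs : ∀ (c : F) (x : A), τ (c • x) = σ c • τ x := fun c x => by
    rw [Algebra.smul_def, map_mul, hτl, Algebra.smul_def]
  let b₀ : Module.Basis (Fin n) F A := Module.finBasisOfFinrankEq F A hd
  obtain ⟨G, hG⟩ : ∃ G : Mn, G = Matrix.of fun i j => ℓ (τ (b₀ i) * b₀ j) := ⟨_, rfl⟩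
  have hexp : ∀ (v : Fin n → F) (i : Fin n),
      (G *ᵥ v) i = ℓ (τ (b₀ i) * ∑ j, v j • b₀ j) := by
    intro v i
    simp [hG, Matrix.mulVec, dotProduct, Finset.mul_sum, mul_comm]
  have hGu : IsUnit G := by
    rw [← Matrix.mulVec_injective_iff_isUnit]
    intro v w h
    rw [← sub_eq_zero]
    obtain ⟨u, hu⟩ : ∃ u, u = v - w := ⟨_, rfl⟩
    have h0 : G *ᵥ u = 0 := by rw [hu, Matrix.mulVec_sub, h, sub_self]
    rw [← hu]
    have hsum : ∑ j, u j • b₀ j = 0 := by
      refine hnd _ fun y => ?_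
      obtain ⟨c, hc⟩ : ∃ c, c = b₀.repr (τ y) := ⟨_, rfl⟩
      rw [show y = ∑ i, σ (c i) • τ (b₀ i) by
        conv_lhs => rw [← hτ y, ← b₀.sum_repr (τ y), map_sum]
        simp [hτs, hc]]
      rw [Finset.mul_sum, map_sum]
      refine Finset.sum_eq_zero fun i _ => ?_
      rw [mul_smul_comm, map_smul, mul_comm, ← hexp, h0]
      simp
    exact funext fun j => Fintype.linearIndependent_iff.1 b₀.linearIndependent u hsum j
  have hGh : (((hGu.unit : GL (Fin n) F) : Mn).map σ)ᵀ = ((hGu.unit : GL (Fin n) F) : Mn) := by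
    rw [IsUnit.unit_spec]
    ext i j
    simp [hG, ← hℓ, hτ, mul_comm]
  obtain ⟨P, hP⟩ := AutPSL.exists_congruent_one σ hσ2 hGu.unit hGh
  rw [IsUnit.unit_spec] at hP
  obtain ⟨w, hw⟩ : ∃ w : Fin n → A, w = fun j => ∑ i, (P : Mn) i j • b₀ i := ⟨_, rfl⟩
  have horth : ∀ i j, ℓ (τ (w i) * w j) = (1 : Mn) i j := by
    intro i j
    rw [← hP]
    simp only [hw, map_sum, hτs, Finset.sum_mul, Finset.mul_sum, smul_mul_assoc, mul_smul_comm,
      map_smul, smul_eq_mul, Matrix.mul_apply, Matrix.transpose_apply, Matrix.map_apply, hG,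
      Matrix.of_apply]
    exact Finset.sum_congr rfl fun k _ => Finset.sum_congr rfl fun l _ => by ring
  have hlin : LinearIndependent F w := by
    rw [Fintype.linearIndependent_iff]
    intro g hg i
    have := congrArg (fun x => ℓ (τ (w i) * x)) hg
    simpa [Finset.mul_sum, mul_smul_comm, horth, Matrix.one_apply] using this
  have hn0 : n = 0 ∨ 0 < n := Nat.eq_zero_or_pos n
  obtain ⟨b, hb⟩ : ∃ b : Module.Basis (Fin n) F A, ⇑b = w := by
    rcases hn0 with rfl | hn
    · exact ⟨b₀, funext fun i => i.elim0⟩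
    · have : Nonempty (Fin n) := ⟨⟨0, hn⟩⟩
      exact ⟨basisOfLinearIndependentOfCardEqFinrank hlin (by simp [hd]), by simp⟩
  have hrepr : ∀ x i, b.repr x i = ℓ (τ (b i) * x) := by
    intro x i
    conv_rhs => rw [← b.sum_repr x]
    simp [Finset.mul_sum, mul_smul_comm, hb, horth, Matrix.one_apply]
  refine ⟨b, fun x => ?_⟩
  ext i j
  rw [adj, Matrix.transpose_apply, Matrix.map_apply, Algebra.leftMulMatrix_eq_repr_mul,
    Algebra.leftMulMatrix_eq_repr_mul, hrepr, hrepr, ← hℓ]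
  simp [hτ]
  congr 1
  ring

/-- A unit of relative norm one and norm one gives an element of `PSU`. -/
theorem exists_psu_of_alg [Fintype F] (σ : F ≃+* F) (hσ : ∀ x, σ x = x ^ q) (hσ2 : orderOf σ = 2)
    (hn : 3 ≤ n) {ζ : F} (hζ : σ ζ * ζ = 1) (hζ1 : ζ ≠ 1) {A : Type*} [CommRing A]
    [Algebra F A] [Module.Finite F A] (hd : Module.finrank F A = n) (τ : A →+* A)
    (hτ : ∀ x, τ (τ x) = x) (hτl : ∀ c, τ (algebraMap F A c) = algebraMap F A (σ c))
    (ℓ : A →ₗ[F] F) (hℓ : ∀ x, ℓ (τ x) = σ (ℓ x)) (hnd : ∀ x, (∀ y, ℓ (x * y) = 0) → x = 0)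
    (u : A) (hu : τ u * u = 1) (hN : Algebra.norm F u = 1) :
    ∃ (b : Module.Basis (Fin n) F A) (s : Cfsg.SU n F q),
      ((s : Matrix.SpecialLinearGroup (Fin n) F) : Mn) = Algebra.leftMulMatrix b u ∧
      (∀ x, adj σ (Algebra.leftMulMatrix b x) = Algebra.leftMulMatrix b (τ x)) ∧
      ∀ k : ℕ, (QuotientGroup.mk s : Cfsg.PSU n F q) ^ k = 1 ↔ ∃ c : F, u ^ k = algebraMap F A c := by
  obtain ⟨b, hb⟩ := exists_model σ hσ2 hd τ hτ hτl ℓ hℓ hnd
  obtain ⟨s, hs⟩ := exists_mem_SU (q := q) σ hσ (M := Algebra.leftMulMatrix b u)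
    (by rw [hb, ← map_mul, hu, map_one]) (by rw [← Algebra.norm_eq_matrix_det, hN])
  refine ⟨b, s, hs, hb, fun k => ?_⟩
  rw [← QuotientGroup.mk_pow, mk_eq_one_iff σ hσ hn hζ hζ1, coe_pow_SU, hs, ← map_pow]
  refine exists_congr fun c => ?_
  rw [← (Algebra.leftMulMatrix_injective b).eq_iff, AlgHom.commutes,
    Algebra.algebraMap_eq_smul_one]

/-- A commuting self-adjoint idempotent gives a commuting element of order `r`. -/
theorem exists_commute_orderOf (σ : F ≃+* F) (hσ : ∀ x, σ x = x ^ q) (hn : 3 ≤ n) {ζ : F}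
    (hζ : σ ζ * ζ = 1) (hζ1 : ζ ≠ 1) {r : ℕ} (hr : r.Prime) (hrq : r ∣ q + 1) (hζr : ζ ^ r = 1)
    (hrn : ¬ r ∣ n) (s : Cfsg.SU n F q) (E : Mn) (hE : E * E = E) (hEa : adj σ E = E)
    (h0 : E ≠ 0) (h1 : E ≠ 1)
    (hc : Commute E ((s : Matrix.SpecialLinearGroup (Fin n) F) : Mn)) :
    ∃ z : Cfsg.PSU n F q, Commute z (QuotientGroup.mk s : Cfsg.PSU n F q) ∧ orderOf z = r := by
  have : Fact r.Prime := ⟨hr⟩
  obtain ⟨z0, hz0⟩ : ∃ z0 : Mn, z0 = 1 + (ζ - 1) • E := ⟨_, rfl⟩
  have hz0pow : ∀ i : ℕ, z0 ^ i = 1 + (ζ ^ i - 1) • E := by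
    intro i
    induction i with
    | zero => simp
    | succ i ih =>
      rw [pow_succ, ih, hz0, add_mul, one_mul, mul_add, mul_one, smul_mul_assoc, mul_smul_comm,
        hE, smul_smul]
      module
  have hz0r : z0 ^ r = 1 := by rw [hz0pow, hζr]; simp
  have hz0a : adj σ z0 * z0 = 1 := by
    rw [hz0, adj_add, adj_one, adj_smul, hEa, map_sub, map_one, add_mul, one_mul, mul_add, mul_one,
      smul_mul_assoc, mul_smul_comm, hE, smul_smul]
    have : (ζ - 1) + ((σ ζ - 1) + (σ ζ - 1) * (ζ - 1)) = 0 := by linear_combination hζ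
    rw [add_assoc, ← add_smul, ← add_smul, this, zero_smul, add_zero]
  obtain ⟨δ, hδ⟩ : ∃ δ, z0.det = δ := ⟨_, rfl⟩
  have hδr : δ ^ r = 1 := by rw [← hδ, ← Matrix.det_pow, hz0r, Matrix.det_one]
  obtain ⟨j, hj, hjn⟩ : ∃ j, j < r ∧ n * j % r = 1 := Nat.exists_mul_mod_eq_one_of_coprime
    ((hr.coprime_iff_not_dvd.mpr hrn).symm) hr.one_lt
  obtain ⟨c, hcdef⟩ : ∃ c, c = (δ ^ j)⁻¹ := ⟨_, rfl⟩
  have hcn : c ^ n * δ = 1 := by
    rw [hcdef, inv_pow, ← pow_mul, mul_comm j n, ← Nat.div_add_mod (n * j) r, hjn, pow_add,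
      pow_mul, hδr, one_pow, one_mul, pow_one, inv_mul_cancel₀]
    rintro rfl
    simp [zero_pow hr.ne_zero] at hδr
  have hcr : c ^ r = 1 := by
    rw [hcdef, inv_pow, ← pow_mul, mul_comm, pow_mul, hδr, one_pow, inv_one]
  have hcq : σ c * c = 1 := by
    obtain ⟨k, hk⟩ := hrq
    rw [hσ, ← pow_succ, hk, pow_mul, hcr, one_pow]
  obtain ⟨z, hz⟩ := exists_mem_SU (q := q) σ hσ (M := c • z0)
    (by rw [adj_smul, smul_mul_smul_comm, hcq, hz0a, one_smul])
    (by rw [Matrix.det_smul, Fintype.card_fin, hδ, hcn])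
  refine ⟨QuotientGroup.mk z, ?_, ?_⟩
  · have : Commute z s := by
      apply Subtype.ext
      apply Subtype.ext
      show ((z : Matrix.SpecialLinearGroup (Fin n) F) : Mn) * ((s : Matrix.SpecialLinearGroup (Fin n) F) : Mn) =
        ((s : Matrix.SpecialLinearGroup (Fin n) F) : Mn) * ((z : Matrix.SpecialLinearGroup (Fin n) F) : Mn)
      rw [hz, hz0]
      exact (((Commute.one_left _).add_left (hc.smul_left _)).smul_left c).eq
    exact this.map (QuotientGroup.mk' _)
  · apply orderOf_eq_prime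
    · rw [← QuotientGroup.mk_pow, mk_eq_one_iff σ hσ hn hζ hζ1, coe_pow_SU, hz]
      exact ⟨1, by rw [_root_.smul_pow, hcr, hz0r]⟩
    · rw [Ne, mk_eq_one_iff σ hσ hn hζ hζ1, hz]
      rintro ⟨t, ht⟩
      rw [hz0] at ht
      have hc0 : c ≠ 0 := right_ne_zero_of_mul_eq_one hcq
      obtain ⟨k, hk⟩ : ∃ k : F, k = (t / c - 1) / (ζ - 1) := ⟨_, rfl⟩
      have hE' : E = k • (1 : Mn) := by
        ext a b
        have := congrFun (congrFun ht a) b
        simp only [Matrix.smul_apply, Matrix.add_apply, smul_eq_mul] at this ⊢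
        rw [hk]
        have hz : ζ - 1 ≠ 0 := sub_ne_zero.mpr hζ1
        field_simp
        linear_combination this
      have hkk : k * k = k := by
        rw [hE', smul_mul_smul_comm, one_mul] at hE
        simpa using congrFun (congrFun hE ⟨0, by omega⟩) ⟨0, by omega⟩
      rcases mul_eq_zero.mp (by linear_combination hkk : k * (k - 1) = 0) with hk0 | hk1
      · exact h0 (by rw [hE', hk0, zero_smul])
      · exact h1 (by rw [hE', sub_eq_zero.mp hk1, one_smul])

end Cfsg.Agent.UnitarySpectra
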