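import Mathlib.FieldTheory.Finite.Extension
import Mathlib.GroupTheory.OrderOfElement
import Mathlib.LinearAlgebra.Matrix.GeneralLinearGroup.Defs
import Mathlib.LinearAlgebra.Matrix.SpecialLinearGroup
import Mathlib.LinearAlgebra.Matrix.Charpoly.Minpoly
import Mathlib.LinearAlgebra.Matrix.Charpoly.Coeff
import Mathlib.RingTheory.AdjoinRoot
import Mathlib.RingTheory.Norm.Basic
import Mathlib.Data.Nat.Log
import Mathlib.LinearAlgebra.Matrix.CharP

/-!
Element orders in finite linear groups: an upper bound on the order of any invertible matrix, and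
realisation of unit groups of commutative algebras inside general linear groups.
-/

namespace Cfsg.Agent.Spectra

open Polynomial

/-! ### element orders and exponents -/

/-- If every element is killed by `E` and some element has order divisible by `E`, the element
orders are exactly the divisors of `E`. -/
theorem range_orderOf_eq_divisors {G : Type*} [Group G] [Finite G] {E : ℕ}
    (h : ∀ g : G, g ^ E = 1) (y : G) (hy : E ∣ orderOf y) :
    Set.range (orderOf : G → ℕ) = {o | o ∣ E} := by
  ext o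
  constructor
  · rintro ⟨g, rfl⟩
    exact orderOf_dvd_of_pow_eq_one (h g)
  · intro ho
    exact ⟨y ^ (orderOf y / o), orderOf_pow_orderOf_div (orderOf_pos y).ne' (Dvd.dvd.trans ho hy)⟩

/-! ### polynomials -/

variable {F : Type*} [Field F]

theorem dvd_pow_natDegree_of_forall_irreducible {m h : F[X]} (hm : m ≠ 0)
    (H : ∀ f : F[X], Irreducible f → f ∣ m → f ∣ h) : m ∣ h ^ m.natDegree := by
  classical
  obtain ⟨s, hs⟩ : ∃ s : Multiset F[X], s = UniqueFactorizationMonoid.normalizedFactors m :=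
    ⟨_, rfl⟩
  have hirr : ∀ f ∈ s, Irreducible f := fun f hf =>
    UniqueFactorizationMonoid.irreducible_of_normalized_factor f (hs ▸ hf)
  have hass : Associated s.prod m := hs ▸ UniqueFactorizationMonoid.prod_normalizedFactors hm
  have hdvd : s.prod ∣ h ^ Multiset.card s := by
    have := Multiset.prod_dvd_prod_of_dvd (S := s) (fun f => f) (fun _ => h) fun f hf =>
      H f (hirr f hf) ((Multiset.dvd_prod hf).trans hass.dvd)
    simpa using this
  have h0 : (0 : F[X]) ∉ s := fun hf => not_irreducible_zero (hirr 0 hf)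
  have hcard : Multiset.card s ≤ m.natDegree := by
    have hdeg : m.natDegree = (s.map natDegree).sum := by
      rw [← natDegree_multiset_prod _ h0]
      exact (natDegree_eq_of_degree_eq (degree_eq_degree_of_associated hass)).symm
    rw [hdeg]
    calc Multiset.card s = (s.map fun _ => 1).sum := by simp
      _ ≤ (s.map natDegree).sum :=
        Multiset.sum_map_le_sum_map _ _ fun f hf => (hirr f hf).natDegree_pos
  exact hass.symm.dvd.trans (hdvd.trans (pow_dvd_pow h hcard))

theorem irreducible_dvd_X_pow_succ_sub_X [Finite F] {f : F[X]} (hf : Irreducible f) {N : ℕ}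
    (hN : Nat.card F ^ f.natDegree - 1 ∣ N) : f ∣ X ^ (N + 1) - X := by
  obtain ⟨k, rfl⟩ := hN
  obtain ⟨Q, hQ1, hQ⟩ : ∃ Q, 1 ≤ Q ∧ Nat.card F ^ f.natDegree = Q :=
    ⟨_, Nat.one_le_pow _ _ Nat.card_pos, rfl⟩
  have h1 : f ∣ X ^ Q - X :=
    hQ ▸ (hf.natDegree_dvd_iff_dvd_X_pow_card_pow_sub_X).mp dvd_rfl
  rw [hQ]
  induction k with
  | zero => simp
  | succ k ih =>
    have e : (X : F[X]) ^ ((Q - 1) * (k + 1) + 1) - X
        = (X ^ ((Q - 1) * k + 1) - X) * X ^ (Q - 1) + (X ^ Q - X) := by
      have hQ' : (X : F[X]) * X ^ (Q - 1) = X ^ Q := by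
        rw [← pow_succ', Nat.sub_add_cancel hQ1]
      rw [sub_mul, hQ', mul_add, mul_one, ← pow_add]
      ring
    rw [e]
    exact dvd_add (ih.mul_right _) h1

/-! ### invertible matrices -/

variable {ι : Type*} [Fintype ι] [DecidableEq ι]

theorem pow_card_eq_zero_of_isNilpotent {M : Matrix ι ι F} (hM : IsNilpotent M) :
    M ^ Fintype.card ι = 0 := by
  have h := (Matrix.isNilpotent_charpoly_sub_pow_of_isNilpotent hM).eq_zero
  have h2 := M.aeval_self_charpoly
  rwa [sub_eq_zero.mp h, map_pow, aeval_X] at h2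

theorem natDegree_le_card_of_dvd_minpoly (M : Matrix ι ι F) {f : F[X]}
    (hf : f ∣ minpoly F M) : f.natDegree ≤ Fintype.card ι :=
  (natDegree_le_of_dvd (hf.trans M.minpoly_dvd_charpoly) M.charpoly_monic.ne_zero).trans
    (le_of_eq (Matrix.charpoly_natDegree_eq_dim M))

theorem isNilpotent_aeval (M : Matrix ι ι F) {h : F[X]}
    (H : ∀ f : F[X], Irreducible f → f ∣ minpoly F M → f ∣ h) : IsNilpotent (aeval M h) := by
  refine ⟨(minpoly F M).natDegree, ?_⟩
  obtain ⟨c, hc⟩ :=
    dvd_pow_natDegree_of_forall_irreducible (minpoly.ne_zero (Matrix.isIntegral M)) H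
  rw [← map_pow, hc, map_mul, minpoly.aeval, zero_mul]

/-- A uniform exponent for the invertible matrices over a finite field. -/
theorem pow_eq_one_of_isUnit [Finite F] (p : ℕ) [Fact p.Prime] [CharP F p] {M : Matrix ι ι F}
    (hM : IsUnit M) {N : ℕ}
    (hN : ∀ d, 1 ≤ d → d ≤ Fintype.card ι → Nat.card F ^ d - 1 ∣ N) :
    M ^ (N * p ^ Nat.clog p (Fintype.card ι)) = 1 := by
  rcases isEmpty_or_nonempty ι with hι | hι
  · exact Subsingleton.elim _ _
  have hnil : IsNilpotent (aeval M (X ^ (N + 1) - X : F[X])) :=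
    isNilpotent_aeval M fun f hf hdvd => irreducible_dvd_X_pow_succ_sub_X hf
      (hN _ hf.natDegree_pos (natDegree_le_card_of_dvd_minpoly M hdvd))
  have hnil' : IsNilpotent (M ^ N - 1) := by
    obtain ⟨k, hk⟩ := hnil
    refine ⟨k, ?_⟩
    have hfac : aeval M (X ^ (N + 1) - X : F[X]) = (M ^ N - 1) * M := by
      simp [pow_succ, sub_mul]
    have hcomm : Commute (M ^ N - 1) M :=
      ((Commute.refl M).pow_left N).sub_left (Commute.one_left M)
    rw [hfac, hcomm.mul_pow] at hk
    exact ((hM.pow k).mul_left_eq_zero).mp hk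
  have h0 := pow_card_eq_zero_of_isNilpotent hnil'
  have hle : Fintype.card ι ≤ p ^ Nat.clog p (Fintype.card ι) :=
    Nat.le_pow_clog (Fact.out : p.Prime).one_lt _
  have h1 := pow_eq_zero_of_le hle h0
  rw [sub_pow_char_pow_of_commute _ _ (Commute.one_right (M ^ N)), one_pow, ← pow_mul,
    sub_eq_zero] at h1
  exact h1

/-! ### unit groups of commutative algebras -/

/-- The regular representation of the unit group of an algebra with a given basis. -/
noncomputable def unitsGL {n : ℕ} {A : Type*} [CommRing A] [Algebra F A]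
    (b : Module.Basis (Fin n) F A) : Aˣ →* GL (Fin n) F :=
  Units.map (Algebra.leftMulMatrix b).toRingHom.toMonoidHom

theorem unitsGL_injective {n : ℕ} {A : Type*} [CommRing A] [Algebra F A]
    (b : Module.Basis (Fin n) F A) : Function.Injective (unitsGL b) := fun _ _ h =>
  Units.ext (Algebra.leftMulMatrix_injective b (congrArg Units.val h))

theorem det_unitsGL {n : ℕ} {A : Type*} [CommRing A] [Algebra F A]
    (b : Module.Basis (Fin n) F A) (u : Aˣ) :
    (unitsGL b u : Matrix (Fin n) (Fin n) F).det = Algebra.norm F (u : A) :=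
  (Algebra.norm_eq_matrix_det b (u : A)).symm

/-- A unit of a commutative algebra of dimension at most `n` gives an invertible matrix of size
`n` of the same order. -/
theorem exists_GL_orderOf {n : ℕ} {A : Type*} [CommRing A] [Algebra F A] [Module.Finite F A]
    (hn : Module.finrank F A ≤ n) (u : Aˣ) : ∃ g : GL (Fin n) F, orderOf g = orderOf u := by
  have hd : Module.finrank F (A × (Fin (n - Module.finrank F A) → F)) = n := by
    rw [Module.finrank_prod, Module.finrank_fin_fun]; omega
  let b := Module.finBasisOfFinrankEq F (A × (Fin (n - Module.finrank F A) → F)) hd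
  refine ⟨unitsGL b (MulEquiv.prodUnits.symm (u, 1)), ?_⟩
  rw [orderOf_injective (unitsGL b) (unitsGL_injective b), MulEquiv.orderOf_eq, Prod.orderOf,
    orderOf_one, Nat.lcm_one_right]

/-! ### unipotent units -/

/-- In `F[X]/(X^m)` some unit of norm one has order `p` to the power `⌈log_p m⌉`. -/
theorem exists_unipotent_unit (p : ℕ) [Fact p.Prime] [CharP F p] {m : ℕ} (hm : 1 ≤ m) :
    ∃ u : (AdjoinRoot (X ^ m : F[X]))ˣ, orderOf u = p ^ Nat.clog p m ∧
      Algebra.norm F (u : AdjoinRoot (X ^ m : F[X])) = 1 := by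
  have hp : p.Prime := Fact.out
  have hX : (X ^ m : F[X]).Monic := monic_X_pow m
  have : Module.Free F (AdjoinRoot (X ^ m : F[X])) := hX.free_adjoinRoot
  have : Nontrivial (AdjoinRoot (X ^ m : F[X])) :=
    AdjoinRoot.nontrivial _ (by rw [degree_X_pow]; exact_mod_cast (by omega : m ≠ 0))
  have : CharP (AdjoinRoot (X ^ m : F[X])) p :=
    charP_of_injective_algebraMap (algebraMap F (AdjoinRoot (X ^ m : F[X]))).injective p
  have hεm : (AdjoinRoot.root (X ^ m : F[X])) ^ m = 0 := by
    simpa [map_pow, AdjoinRoot.aeval_eq] using AdjoinRoot.mk_self (f := (X ^ m : F[X]))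
  obtain ⟨u, hu⟩ : IsUnit (1 + AdjoinRoot.root (X ^ m : F[X])) :=
    IsNilpotent.isUnit_one_add ⟨m, hεm⟩
  have hiff : ∀ j, u ^ p ^ j = 1 ↔ m ≤ p ^ j := by
    intro j
    rw [← Units.val_inj, Units.val_pow_eq_pow_val, hu, add_pow_char_pow, one_pow,
      Units.val_one, add_eq_left]
    have hr : (AdjoinRoot.root (X ^ m : F[X])) = AdjoinRoot.mk (X ^ m : F[X]) X := rfl
    rw [hr, ← map_pow, AdjoinRoot.mk_eq_zero]
    refine ⟨fun h => ?_, fun h => pow_dvd_pow X h⟩
    have := natDegree_le_of_dvd h (pow_ne_zero _ X_ne_zero)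
    simpa using this
  refine ⟨u, ?_, ?_⟩
  · obtain ⟨j, hj, hord⟩ := (Nat.dvd_prime_pow hp).mp
      (orderOf_dvd_of_pow_eq_one ((hiff _).mpr (Nat.le_pow_clog hp.one_lt m)))
    have hmj := (hiff j).mp (hord ▸ pow_orderOf_eq_one u)
    rw [hord, le_antisymm hj (Nat.clog_le_of_le_pow hmj)]
  · have h1 := congrArg (fun x : (AdjoinRoot (X ^ m : F[X]))ˣ =>
      Algebra.norm F (x : AdjoinRoot (X ^ m : F[X])))
      ((hiff _).mpr (Nat.le_pow_clog hp.one_lt m))
    simp only [Units.val_pow_eq_pow_val, map_pow, Units.val_one, map_one] at h1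
    have h2 : (Algebra.norm F (u : AdjoinRoot (X ^ m : F[X])) - 1) ^ p ^ Nat.clog p m = 0 := by
      rw [sub_pow_char_pow, h1, one_pow, sub_self]
    exact sub_eq_zero.mp (pow_eq_zero_iff (pow_ne_zero _ hp.ne_zero) |>.mp h2)

theorem finrank_adjoinRoot_X_pow (m : ℕ) :
    Module.finrank F (AdjoinRoot (X ^ m : F[X])) = m := by
  rw [(AdjoinRoot.powerBasis' (monic_X_pow (R := F) m)).finrank, AdjoinRoot.powerBasis'_dim,
    natDegree_X_pow]

end Cfsg.Agent.Spectra
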