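import Cfsg.Prelude.Def_Classical
import Cfsg.Agent.Lib.Classical.Symplectic
import Cfsg.Agent.Lib.Classical.AlternatingWitt
import Cfsg.Agent.Lib.Spectra.LinearOrders
import Mathlib.RingTheory.Trace.Basic
import Mathlib.RingTheory.IntegralDomain
import Mathlib.FieldTheory.Finite.Trace

/-!
Elements of prescribed order in `PSp 2n` over a finite field of odd order, from commutative algebras
with an involution and a skew functional.
-/

set_option autoImplicit false

namespace Cfsg.Agent.SympSpectra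

open Polynomial Matrix
open LinearMap (BilinForm)

variable {F : Type*} [Field F] {n : ℕ}

/-- The class of a symplectic matrix is trivial exactly for `±1`. -/
theorem mk_eq_one_iff (hn : 1 ≤ n) (s : Matrix.symplecticGroup (Fin n) F) :
    (QuotientGroup.mk s : Cfsg.PSp n F) = 1 ↔
      (s : Matrix (Fin n ⊕ Fin n) (Fin n ⊕ Fin n) F) = 1 ∨
      (s : Matrix (Fin n ⊕ Fin n) (Fin n ⊕ Fin n) F) = -1 := by
  rw [QuotientGroup.eq_one_iff]
  have hiff : s ∈ Subgroup.center (Matrix.symplecticGroup (Fin n) F) ↔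
      ClassicalSp.spEquiv s ∈ Subgroup.center (AltForm.isoGroup (ClassicalSp.spBilin n F)) := by
    simp only [Subgroup.mem_center_iff]
    constructor
    · intro h g
      obtain ⟨g, rfl⟩ := (ClassicalSp.spEquiv (m := n) (F := F)).surjective g
      rw [← map_mul, ← map_mul, h g]
    · exact fun h g => (ClassicalSp.spEquiv (m := n) (F := F)).injective (by simp [h])
  rw [hiff, ClassicalSp.isoGroup_mem_center_iff hn]
  constructor
  · rintro (h | h) <;> [left; right] <;>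
      exact Matrix.toLin'.injective (LinearMap.ext fun x => by simpa [neg_mulVec] using h x)
  · rintro (h | h) <;> [left; right] <;> intro x <;> simp [h, neg_mulVec]

/-- A basis in which a non-degenerate alternating form is the standard one. -/
theorem exists_std_basis {V : Type*} [AddCommGroup V] [Module F V] [FiniteDimensional F V]
    {B : BilinForm F V} (hA : B.IsAlt) (hB : B.Nondegenerate)
    (hd : Module.finrank F V = 2 * n) :
    ∃ b : Module.Basis (Fin n ⊕ Fin n) F V,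
      ∀ x y, B x y = ClassicalSp.spBilin n F (b.equivFun x) (b.equivFun y) := by
  obtain ⟨m, k, b, hef, hee, hff, hr⟩ := AltForm.exists_basis hA
  have hk : k = 0 := by
    by_contra hk
    exact b.ne_zero (Sum.inr ⟨0, Nat.pos_of_ne_zero hk⟩) (hB.1 _ fun v => hr _ v)
  subst hk
  have hm : m = n := by
    have := Module.finrank_eq_card_basis b
    simp [hd] at this
    omega
  subst hm
  refine ⟨b.reindex ((Equiv.sumEmpty _ _).trans (Equiv.sumComm _ _)), fun x y => ?_⟩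
  refine LinearMap.congr_fun (LinearMap.congr_fun (?_ : B = (ClassicalSp.spBilin m F).comp
    (b.reindex ((Equiv.sumEmpty _ _).trans (Equiv.sumComm _ _))).equivFun.toLinearMap
    (b.reindex ((Equiv.sumEmpty _ _).trans (Equiv.sumComm _ _))).equivFun.toLinearMap) x) y
  refine LinearMap.BilinForm.ext_basis b fun i j => ?_
  have he : ∀ (v : (Fin m ⊕ Fin m) ⊕ Fin 0),
      (b.reindex ((Equiv.sumEmpty _ _).trans (Equiv.sumComm _ _))).equivFun (b v) =
        Pi.single ((Equiv.sumEmpty _ _).trans (Equiv.sumComm _ _) v) (1 : F) := by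
    intro v
    conv_lhs => rw [show b v = b.reindex ((Equiv.sumEmpty _ _).trans (Equiv.sumComm _ _))
      ((Equiv.sumEmpty _ _).trans (Equiv.sumComm _ _) v) by simp]
    funext w
    rw [Module.Basis.equivFun_self, Pi.single_apply]
    simp [eq_comm]
  rw [LinearMap.BilinForm.comp_apply, LinearEquiv.coe_coe, he, he, ClassicalSp.spBilin_apply,
    ClassicalSp.sympForm_eq]
  rcases i with ((i | i) | i)
  · rcases j with ((j | j) | j)
    · rw [hee]; simp [Matrix.J]
    · rw [hef]; simp [Matrix.J, Matrix.one_apply]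
    · exact j.elim0
  · rcases j with ((j | j) | j)
    · rw [AltForm.swap hA, hef]; simp [Matrix.J, Matrix.one_apply, eq_comm]
    · rw [hff]; simp [Matrix.J]
    · exact j.elim0
  · exact i.elim0

/-- A unit of relative norm one in an algebra with involution and skew functional gives an element
of `PSp`. -/
theorem exists_psp_of_alg (hn : 1 ≤ n) (h2 : (2 : F) ≠ 0) {A : Type*} [CommRing A] [Algebra F A]
    [Module.Finite F A] (hd : Module.finrank F A = 2 * n) (τ : A →ₐ[F] A)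
    (hτ : ∀ x, τ (τ x) = x) (ℓ : A →ₗ[F] F) (hℓ : ∀ x, ℓ (τ x) = -ℓ x)
    (hnd : ∀ x, (∀ y, ℓ (x * y) = 0) → x = 0) (u : Aˣ) (hu : (u : A) * τ u = 1) :
    ∃ g : Cfsg.PSp n F, ∀ m : ℕ, g ^ m = 1 ↔ ((u : A) ^ m = 1 ∨ (u : A) ^ m = -1) := by
  let B : BilinForm F A := LinearMap.mk₂ F (fun x y => ℓ (x * τ y))
    (fun x x' y => by rw [add_mul, map_add]) (fun c x y => by rw [smul_mul_assoc, map_smul])
    (fun x y y' => by rw [map_add, mul_add, map_add])
    (fun c x y => by rw [map_smul, mul_smul_comm, map_smul])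
  have hA : B.IsAlt := fun x => by
    show ℓ (x * τ x) = 0
    have h := hℓ (x * τ x)
    rw [map_mul, hτ, mul_comm] at h
    have h' : (2 : F) * ℓ (x * τ x) = 0 := by linear_combination h
    exact (mul_eq_zero.1 h').resolve_left h2
  have hl : ∀ x, (∀ y, B x y = 0) → x = 0 := fun x hx => hnd x fun y => by
    have := hx (τ y)
    simpa [B, hτ] using this
  have hB : B.Nondegenerate :=
    ⟨hl, fun y hy => hl y fun x => by rw [AltForm.swap hA, hy, neg_zero]⟩
  obtain ⟨b, hb⟩ := exists_std_basis hA hB hd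
  have hv : ∀ v : Fin n ⊕ Fin n → F,
      Algebra.leftMulMatrix b (u : A) *ᵥ v = b.equivFun ((u : A) * b.equivFun.symm v) := by
    intro v
    obtain ⟨x, rfl⟩ := b.equivFun.surjective v
    rw [LinearEquiv.symm_apply_apply, Module.Basis.equivFun_apply, Module.Basis.equivFun_apply]
    exact Algebra.leftMulMatrix_mulVec_repr b (u : A) x
  have hmem : Algebra.leftMulMatrix b (u : A) ∈ Matrix.symplecticGroup (Fin n) F := by
    rw [ClassicalSp.mem_iff_preserves]
    intro v w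
    obtain ⟨x, rfl⟩ := b.equivFun.surjective v
    obtain ⟨y, rfl⟩ := b.equivFun.surjective w
    rw [← ClassicalSp.spBilin_apply, ← ClassicalSp.spBilin_apply, hv, hv,
      LinearEquiv.symm_apply_apply, LinearEquiv.symm_apply_apply, ← hb, ← hb]
    show ℓ ((u : A) * x * τ ((u : A) * y)) = ℓ (x * τ y)
    rw [map_mul τ, show (u : A) * x * (τ u * τ y) = ((u : A) * τ u) * (x * τ y) by ring, hu, one_mul]
  refine ⟨QuotientGroup.mk (⟨_, hmem⟩ : Matrix.symplecticGroup (Fin n) F), fun m => ?_⟩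
  rw [← QuotientGroup.mk_pow, mk_eq_one_iff hn]
  simp only [SubmonoidClass.coe_pow]
  rw [← map_pow, ← (Algebra.leftMulMatrix_injective b).eq_iff (a := (u : A) ^ m) (b := 1),
    ← (Algebra.leftMulMatrix_injective b).eq_iff (a := (u : A) ^ m) (b := -1)]
  simp

theorem orderOf_eq_of_forall {G : Type*} [Monoid G] {g : G} {N : ℕ}
    (h : ∀ m, g ^ m = 1 ↔ N ∣ m) : orderOf g = N :=
  Nat.dvd_antisymm (orderOf_dvd_of_pow_eq_one ((h N).2 dvd_rfl)) ((h _).1 (pow_orderOf_eq_one g))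

/-! ### the unipotent block -/

theorem exists_unipotent_block (p : ℕ) [Fact p.Prime] [CharP F p] (h2 : (2 : F) ≠ 0) {m : ℕ}
    (hm : 1 ≤ m) :
    ∃ (τ : AdjoinRoot (X ^ (2 * m) : F[X]) →ₐ[F] AdjoinRoot (X ^ (2 * m) : F[X]))
      (ℓ : AdjoinRoot (X ^ (2 * m) : F[X]) →ₗ[F] F) (u : (AdjoinRoot (X ^ (2 * m) : F[X]))ˣ),
      (∀ x, τ (τ x) = x) ∧ (∀ x, ℓ (τ x) = -ℓ x) ∧ (∀ x, (∀ y, ℓ (x * y) = 0) → x = 0) ∧
      (u : AdjoinRoot (X ^ (2 * m) : F[X])) * τ u = 1 ∧ orderOf u = p ^ Nat.clog p (2 * m) := by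
  have hp : p.Prime := Fact.out
  obtain ⟨R, hR⟩ : ∃ R : F[X], R = X ^ (2 * m) := ⟨_, rfl⟩
  rw [← hR]
  have hmon : R.Monic := hR ▸ monic_X_pow _
  have : CharP (AdjoinRoot R) p := by
    have : Nontrivial (AdjoinRoot R) := AdjoinRoot.nontrivial _ (by
      rw [hR, degree_X_pow]; exact_mod_cast (by omega : 2 * m ≠ 0))
    exact charP_of_injective_algebraMap (algebraMap F (AdjoinRoot R)).injective p
  have hη : (AdjoinRoot.root R) ^ (2 * m) = 0 := by
    have h := AdjoinRoot.mk_self (f := R)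
    conv_lhs at h => arg 2; rw [hR]
    simpa using h
  have hev : R.eval₂ (Algebra.ofId F (AdjoinRoot R) : F →+* AdjoinRoot R)
      (-AdjoinRoot.root R) = 0 := by
    conv_lhs => arg 3; rw [hR]
    simp [Even.neg_pow (even_two_mul m), hη]
  obtain ⟨τ, hτd⟩ : ∃ τ : AdjoinRoot R →ₐ[F] AdjoinRoot R,
      τ = AdjoinRoot.liftAlgHom R (Algebra.ofId F (AdjoinRoot R)) (-AdjoinRoot.root R) hev :=
    ⟨_, rfl⟩
  have hτr : τ (AdjoinRoot.root R) = -AdjoinRoot.root R := by simp [hτd]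
  have hττ : ∀ x, τ (τ x) = x := fun x =>
    AlgHom.congr_fun (AdjoinRoot.algHom_ext (g₁ := τ.comp τ) (g₂ := AlgHom.id F _)
      (by simp [hτr])) x
  have hτmk : ∀ P : F[X], τ (AdjoinRoot.mk R P) = AdjoinRoot.mk R (P.comp (-X)) := by
    intro P
    rw [← AdjoinRoot.aeval_eq, ← AdjoinRoot.aeval_eq, ← aeval_algHom_apply, hτr, aeval_comp]
    simp
  let ℓ : AdjoinRoot R →ₗ[F] F := (lcoeff F (2 * m - 1)).comp (AdjoinRoot.modByMonicHom hmon)
  have hℓmk : ∀ P : F[X], ℓ (AdjoinRoot.mk R P) = P.coeff (2 * m - 1) := by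
    intro P
    show (AdjoinRoot.modByMonicHom hmon (AdjoinRoot.mk R P)).coeff (2 * m - 1) = _
    rw [AdjoinRoot.modByMonicHom_mk, modByMonic_eq_sub_mul_div, coeff_sub]
    have : (R * (P /ₘ R)).coeff (2 * m - 1) = 0 := by
      conv_lhs => arg 1; arg 1; rw [hR]
      rw [mul_comm, coeff_mul_X_pow']
      simp; omega
    rw [this, sub_zero]
  obtain ⟨v, hv⟩ : IsUnit (1 + AdjoinRoot.root R) :=
    IsNilpotent.isUnit_one_add ⟨_, hη⟩
  obtain ⟨w, hw⟩ : IsUnit (1 - AdjoinRoot.root R) :=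
    IsNilpotent.isUnit_one_sub ⟨_, hη⟩
  refine ⟨τ, ℓ, v * w⁻¹, hττ, ?_, ?_, ?_, ?_⟩
  · intro x
    induction x using AdjoinRoot.induction_on with
    | ih P =>
      rw [hτmk, hℓmk, hℓmk, show (-X : F[X]) = C (-1) * X by simp, comp_C_mul_X_coeff,
        Odd.neg_one_pow ⟨m - 1, by omega⟩]
      ring
  · intro x hx
    induction x using AdjoinRoot.induction_on with
    | ih P =>
      rw [AdjoinRoot.mk_eq_zero, hR, X_pow_dvd_iff]
      intro i hi
      have h := hx (AdjoinRoot.mk R (X ^ (2 * m - 1 - i)))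
      rw [← map_mul, hℓmk, coeff_mul_X_pow', if_pos (by omega)] at h
      rwa [show 2 * m - 1 - (2 * m - 1 - i) = i by omega] at h
  · have e1 : τ (v : AdjoinRoot R) = w := by rw [hv, map_add, map_one, hτr, hw, sub_eq_add_neg]
    have e2 : τ (w : AdjoinRoot R) = v := by rw [hw, map_sub, map_one, hτr, hv, sub_neg_eq_add]
    have e3 : τ ((w⁻¹ : (AdjoinRoot R)ˣ) : AdjoinRoot R) = (v⁻¹ : (AdjoinRoot R)ˣ) := by
      apply v.isUnit.mul_left_cancel
      rw [Units.mul_inv, ← e2, ← map_mul, Units.mul_inv, map_one]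
    rw [Units.val_mul, map_mul, e1, e3]
    rw [show (v : AdjoinRoot R) * ↑w⁻¹ * (↑w * ↑v⁻¹) = (↑v * ↑v⁻¹) * (↑w * ↑w⁻¹) by ring,
      Units.mul_inv, Units.mul_inv, one_mul]
  · have hiff : ∀ j, (v * w⁻¹) ^ p ^ j = 1 ↔ 2 * m ≤ p ^ j := by
      intro j
      rw [mul_pow, inv_pow, mul_inv_eq_one, ← Units.val_inj, Units.val_pow_eq_pow_val,
        Units.val_pow_eq_pow_val, hv, hw, add_pow_char_pow, sub_pow_char_pow, one_pow]
      rw [← sub_eq_zero, show ∀ x : AdjoinRoot R, 1 + x - (1 - x) = algebraMap F _ 2 * x from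
        fun x => by rw [map_ofNat]; ring]
      rw [(IsUnit.map (algebraMap F (AdjoinRoot R)) (Ne.isUnit h2)).mul_right_eq_zero]
      rw [show AdjoinRoot.root R = AdjoinRoot.mk R X from rfl, ← map_pow, AdjoinRoot.mk_eq_zero]
      conv_lhs => arg 1; rw [hR]
      refine ⟨fun h => ?_, fun h => pow_dvd_pow X h⟩
      simpa using natDegree_le_of_dvd h (pow_ne_zero _ X_ne_zero)
    obtain ⟨j, hj, hord⟩ := (Nat.dvd_prime_pow hp).mp
      (orderOf_dvd_of_pow_eq_one ((hiff _).mpr (Nat.le_pow_clog hp.one_lt (2 * m))))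
    have hmj := (hiff j).mp (hord ▸ pow_orderOf_eq_one (v * w⁻¹))
    rw [hord, le_antisymm hj (Nat.clog_le_of_le_pow hmj)]

/-- A unit of odd order has no power equal to `-1`. -/
theorem pow_ne_neg_one (h2 : (2 : F) ≠ 0) {R : Type*} [CommRing R] [Algebra F R] [Nontrivial R]
    (u : Rˣ) (ho : Odd (orderOf u)) (k : ℕ) : (u : R) ^ k ≠ -1 := by
  intro h
  have e : ((u : R) ^ k) ^ orderOf u = 1 := by
    rw [← pow_mul, mul_comm, pow_mul, ← Units.val_pow_eq_pow_val, pow_orderOf_eq_one,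
      Units.val_one, one_pow]
  rw [h, ho.neg_one_pow] at e
  have e2 : algebraMap F R 2 = 0 := by rw [map_ofNat]; linear_combination -e
  exact h2 ((algebraMap F R).injective (e2.trans (map_zero _).symm))

/-- A regular unipotent element of `PSp`. -/
theorem exists_psp_unipotent (p : ℕ) [Fact p.Prime] [CharP F p] (h2 : (2 : F) ≠ 0)
    (hpodd : Odd p) (hn : 1 ≤ n) :
    ∃ g : Cfsg.PSp n F, orderOf g = p ^ Nat.clog p (2 * n) := by
  obtain ⟨τ, ℓ, u, hτ, hℓ, hnd, hu, hord⟩ := exists_unipotent_block (F := F) p h2 hn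
  have : Module.Finite F (AdjoinRoot (X ^ (2 * n) : F[X])) := (monic_X_pow _).finite_adjoinRoot
  obtain ⟨g, hg⟩ := exists_psp_of_alg hn h2 (Spectra.finrank_adjoinRoot_X_pow (2 * n))
    τ hτ ℓ hℓ hnd u hu
  refine ⟨g, orderOf_eq_of_forall fun k => ?_⟩
  rw [hg, ← hord, orderOf_dvd_iff_pow_eq_one, ← Units.val_inj, Units.val_pow_eq_pow_val,
    Units.val_one]
  have : Nontrivial (AdjoinRoot (X ^ (2 * n) : F[X])) := AdjoinRoot.nontrivial _ (by
    rw [degree_X_pow]; exact_mod_cast (by omega : 2 * n ≠ 0))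
  exact ⟨fun h => h.resolve_right (pow_ne_neg_one h2 u (hord ▸ hpodd.pow) k), Or.inl⟩

/-- A block and a regular unipotent block combined. -/
theorem exists_psp_mixed (p : ℕ) [Fact p.Prime] [CharP F p] (h2 : (2 : F) ≠ 0) (hpodd : Odd p)
    {A : Type*} [CommRing A] [Algebra F A] [Module.Finite F A] (τ : A →ₐ[F] A)
    (hτ : ∀ x, τ (τ x) = x) (ℓ : A →ₗ[F] F) (hℓ : ∀ x, ℓ (τ x) = -ℓ x)
    (hnd : ∀ x, (∀ y, ℓ (x * y) = 0) → x = 0) (u : Aˣ) (hu : (u : A) * τ u = 1)
    {m : ℕ} (hm : 1 ≤ m) (hd : Module.finrank F A + 2 * m = 2 * n) :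
    ∃ g : Cfsg.PSp n F, orderOf g = Nat.lcm (orderOf u) (p ^ Nat.clog p (2 * m)) := by
  obtain ⟨τ', ℓ', w, hτ', hℓ', hnd', hw, hord⟩ := exists_unipotent_block (F := F) p h2 hm
  have : Module.Finite F (AdjoinRoot (X ^ (2 * m) : F[X])) := (monic_X_pow _).finite_adjoinRoot
  have : Nontrivial (AdjoinRoot (X ^ (2 * m) : F[X])) := AdjoinRoot.nontrivial _ (by
    rw [degree_X_pow]; exact_mod_cast (by omega : 2 * m ≠ 0))
  let T : (A × AdjoinRoot (X ^ (2 * m) : F[X])) →ₐ[F] (A × AdjoinRoot (X ^ (2 * m) : F[X])) :=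
    (τ.comp (AlgHom.fst F A _)).prod (τ'.comp (AlgHom.snd F A _))
  have hfin : Module.finrank F (A × AdjoinRoot (X ^ (2 * m) : F[X])) = 2 * n := by
    rw [Module.finrank_prod, Spectra.finrank_adjoinRoot_X_pow]; omega
  obtain ⟨g, hg⟩ := exists_psp_of_alg (n := n) (by omega) h2 hfin T
    (fun x => Prod.ext (hτ x.1) (hτ' x.2)) (ℓ.coprod ℓ')
    (fun x => by simp [T, hℓ, hℓ']; abel)
    (fun x hx => Prod.ext (hnd _ fun y => by simpa using hx (y, 0))
      (hnd' _ fun y => by simpa using hx (0, y)))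
    (MulEquiv.prodUnits.symm (u, w)) (Prod.ext hu hw)
  refine ⟨g, orderOf_eq_of_forall fun k => ?_⟩
  rw [hg, Nat.lcm_dvd_iff, ← hord, orderOf_dvd_iff_pow_eq_one, orderOf_dvd_iff_pow_eq_one,
    ← Units.val_inj, ← Units.val_inj, Units.val_pow_eq_pow_val, Units.val_pow_eq_pow_val,
    Units.val_one, Units.val_one]
  refine ⟨fun h => ?_, fun h => Or.inl (Prod.ext h.1 h.2)⟩
  rcases h with h | h
  · exact ⟨congrArg Prod.fst h, congrArg Prod.snd h⟩
  · exact absurd (congrArg Prod.snd h) (pow_ne_neg_one h2 w (hord ▸ hpodd.pow) k)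

/-- A single block with a unit whose half-order power is `-1`. -/
theorem exists_psp_torus (hn : 1 ≤ n) (h2 : (2 : F) ≠ 0)
    {A : Type*} [CommRing A] [Algebra F A] [Module.Finite F A] (τ : A →ₐ[F] A)
    (hτ : ∀ x, τ (τ x) = x) (ℓ : A →ₗ[F] F) (hℓ : ∀ x, ℓ (τ x) = -ℓ x)
    (hnd : ∀ x, (∀ y, ℓ (x * y) = 0) → x = 0) (u : Aˣ) (hu : (u : A) * τ u = 1)
    (hd : Module.finrank F A = 2 * n) (k : ℕ) (hord : orderOf u = 2 * k)
    (hk : (u : A) ^ k = -1) :
    ∃ g : Cfsg.PSp n F, orderOf g = k := by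
  obtain ⟨g, hg⟩ := exists_psp_of_alg hn h2 hd τ hτ ℓ hℓ hnd u hu
  refine ⟨g, orderOf_eq_of_forall fun j => ?_⟩
  rw [hg]
  refine ⟨fun h => ?_, ?_⟩
  · have h' : u ^ (2 * j) = 1 := Units.ext (by
      rw [Units.val_pow_eq_pow_val, mul_comm 2 j, pow_mul, Units.val_one]
      rcases h with h | h <;> rw [h] <;> ring)
    rw [← orderOf_dvd_iff_pow_eq_one, hord] at h'
    exact Nat.dvd_of_mul_dvd_mul_left two_pos h'
  · rintro ⟨c, rfl⟩
    rw [pow_mul, hk]
    exact (Nat.even_or_odd c).imp Even.neg_one_pow Odd.neg_one_pow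

/-! ### tori -/

theorem exists_field_unit {K : Type*} [Field K] [Finite K] {N : ℕ} (hN : N ∣ Nat.card K - 1) :
    ∃ t : Kˣ, orderOf t = N := by
  obtain ⟨g, hg⟩ := IsCyclic.exists_ofOrder_eq_natCard (α := Kˣ)
  rw [Nat.card_units] at hg
  exact ⟨g ^ (orderOf g / N), orderOf_pow_orderOf_div (orderOf_pos g).ne' (hg ▸ hN)⟩

theorem pow_half_eq_neg_one {K : Type*} [CommRing K] [IsDomain K] {t : Kˣ} {k : ℕ}
    (ht : orderOf t = 2 * k) (hk : 1 ≤ k) : (t : K) ^ k = -1 := by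
  have h1 : ((t : K) ^ k) ^ 2 = 1 := by
    rw [← pow_mul, mul_comm, ← ht, ← Units.val_pow_eq_pow_val, pow_orderOf_eq_one, Units.val_one]
  rcases sq_eq_one_iff.1 h1 with h | h
  · exfalso
    have h' : orderOf t ∣ k := orderOf_dvd_of_pow_eq_one (Units.ext (by
      rw [Units.val_pow_eq_pow_val, h, Units.val_one]))
    have := Nat.le_of_dvd hk h'
    omega
  · exact h

theorem swap_data (K : Type*) [Field K] [Algebra F K] [FiniteDimensional F K]
    [Algebra.IsSeparable F K] (t : Kˣ) :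
    ∃ (τ : (K × K) →ₐ[F] (K × K)) (ℓ : (K × K) →ₗ[F] F) (u : (K × K)ˣ),
      (∀ x, τ (τ x) = x) ∧ (∀ x, ℓ (τ x) = -ℓ x) ∧ (∀ x, (∀ y, ℓ (x * y) = 0) → x = 0) ∧
      (u : K × K) * τ u = 1 ∧ orderOf u = orderOf t ∧
      ∀ k : ℕ, (t : K) ^ k = -1 → (u : K × K) ^ k = -1 := by
  refine ⟨(AlgHom.snd F K K).prod (AlgHom.fst F K K),
    ((Algebra.trace F K).comp (LinearMap.fst F K K)) -
      ((Algebra.trace F K).comp (LinearMap.snd F K K)),
    MulEquiv.prodUnits.symm (t, t⁻¹), fun x => rfl, fun x => by simp, ?_, ?_, ?_, ?_⟩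
  · intro x hx
    refine Prod.ext ((traceForm_nondegenerate F K).1 _ fun z => ?_)
      ((traceForm_nondegenerate F K).1 _ fun z => ?_)
    · simpa using hx (z, 0)
    · simpa using hx (0, z)
  · exact Prod.ext t.mul_inv t.inv_mul
  · rw [MulEquiv.orderOf_eq, Prod.orderOf, orderOf_inv, Nat.lcm_self]
  · intro k hk
    refine Prod.ext ?_ ?_
    · exact hk
    · have : ((t⁻¹ : Kˣ) : K) ^ k = -1 := by
        rw [Units.val_inv_eq_inv_val, inv_pow, hk, inv_neg, inv_one]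
      exact this

theorem frobenius_data [Fintype F] (K : Type*) [Field K] [Algebra F K] [Finite K] {d : ℕ}
    (hd : 1 ≤ d) (hK : Module.finrank F K = 2 * d) (t : Kˣ)
    (ht : orderOf t ∣ Fintype.card F ^ d + 1) :
    ∃ (τ : K →ₐ[F] K) (ℓ : K →ₗ[F] F),
      (∀ x, τ (τ x) = x) ∧ (∀ x, ℓ (τ x) = -ℓ x) ∧ (∀ x, (∀ y, ℓ (x * y) = 0) → x = 0) ∧
      (t : K) * τ t = 1 := by
  have : FiniteDimensional F K := Module.Finite.of_finite
  have hap : ∀ x : K, (FiniteField.frobeniusAlgHom F K ^ d) x = x ^ Fintype.card F ^ d := by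
    intro x
    rw [AlgHom.coe_pow, FiniteField.coe_frobeniusAlgHom, pow_iterate]
  obtain ⟨τ, hτd⟩ : ∃ τ : K →ₐ[F] K, τ = FiniteField.frobeniusAlgHom F K ^ d := ⟨_, rfl⟩
  have hτ : ∀ x, τ (τ x) = x := fun x => by
    rw [hτd, ← AlgHom.mul_apply, ← pow_add, show d + d = 2 * d by ring, ← hK,
      ← FiniteField.orderOf_frobeniusAlgHom, pow_orderOf_eq_one, AlgHom.one_apply]
  obtain ⟨x, hx⟩ : ∃ x, τ x ≠ x := by
    by_contra! h
    have : orderOf (FiniteField.frobeniusAlgHom F K) ∣ d := orderOf_dvd_of_pow_eq_one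
      (AlgHom.ext fun x => by rw [← hτd, h]; rfl)
    rw [FiniteField.orderOf_frobeniusAlgHom, hK] at this
    have := Nat.le_of_dvd hd this
    omega
  have hε : x - τ x ≠ 0 := sub_ne_zero.2 (Ne.symm hx)
  have htr : ∀ z, Algebra.trace F K (τ z) = Algebra.trace F K z := fun z =>
    Algebra.trace_eq_of_algEquiv (AlgEquiv.ofBijective τ
      ⟨fun a b h => by rw [← hτ a, h, hτ], fun a => ⟨τ a, hτ a⟩⟩) z
  refine ⟨τ, (Algebra.trace F K).comp (LinearMap.mulLeft F (x - τ x)), hτ, ?_, ?_, ?_⟩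
  · intro z
    simp only [LinearMap.comp_apply, LinearMap.mulLeft_apply]
    rw [← htr ((x - τ x) * z), map_mul τ, map_sub τ, hτ, ← map_neg]
    congr 1
    ring
  · intro z hz
    have h0 : (x - τ x) * z = 0 := (traceForm_nondegenerate F K).1 _ fun y => by
      simpa [mul_assoc] using hz y
    exact (mul_eq_zero.1 h0).resolve_left hε
  · rw [hτd, hap, ← pow_succ', ← Units.val_pow_eq_pow_val,
      orderOf_dvd_iff_pow_eq_one.1 ht, Units.val_one]

variable [Fintype F]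

theorem card_ext (K : Type*) [Field K] [Algebra F K] [Finite K] :
    Nat.card K = Fintype.card F ^ Module.finrank F K := by
  have : FiniteDimensional F K := Module.Finite.of_finite
  rw [Module.natCard_eq_pow_finrank (K := F), Nat.card_eq_fintype_card]

theorem exists_minus_torus_aux (K : Type*) [Field K] [Algebra F K] [Finite K] (p : ℕ)
    [Fact p.Prime] [CharP F p] (h2 : (2 : F) ≠ 0) (hpodd : Odd p) {d : ℕ}
    (hK : Module.finrank F K = d) (hd : 1 ≤ d) (hdn : d ≤ n) (k : ℕ)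
    (hk : 2 * k = Fintype.card F ^ d - 1) (hk1 : 1 ≤ k) :
    (d < n → ∃ g : Cfsg.PSp n F,
      orderOf g = Nat.lcm (2 * k) (p ^ Nat.clog p (2 * (n - d)))) ∧
    (d = n → ∃ g : Cfsg.PSp n F, orderOf g = k) := by
  have : FiniteDimensional F K := Module.Finite.of_finite
  obtain ⟨t, ht⟩ := exists_field_unit (K := K) (N := 2 * k) (by rw [card_ext (F := F), hK, hk])
  obtain ⟨τ, ℓ, u, hτ, hℓ, hnd, hu, hord, hneg⟩ := swap_data (F := F) K t
  have hfin : Module.finrank F (K × K) = 2 * d := by rw [Module.finrank_prod, hK]; ring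
  refine ⟨fun h => ?_, fun h => ?_⟩
  · obtain ⟨g, hg⟩ := exists_psp_mixed (n := n) p h2 hpodd τ hτ ℓ hℓ hnd u hu
      (m := n - d) (by omega) (by omega)
    exact ⟨g, by rw [hg, hord, ht]⟩
  · subst h
    exact exists_psp_torus hd h2 τ hτ ℓ hℓ hnd u hu hfin k (hord.trans ht)
      (hneg k (pow_half_eq_neg_one ht hk1))

theorem exists_plus_torus_aux (K : Type*) [Field K] [Algebra F K] [Finite K] (p : ℕ)
    [Fact p.Prime] [CharP F p] (h2 : (2 : F) ≠ 0) (hpodd : Odd p) {d : ℕ}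
    (hK : Module.finrank F K = 2 * d) (hd : 1 ≤ d) (hdn : d ≤ n) (k : ℕ)
    (hk : 2 * k = Fintype.card F ^ d + 1) (hk1 : 1 ≤ k) :
    (d < n → ∃ g : Cfsg.PSp n F,
      orderOf g = Nat.lcm (2 * k) (p ^ Nat.clog p (2 * (n - d)))) ∧
    (d = n → ∃ g : Cfsg.PSp n F, orderOf g = k) := by
  have : FiniteDimensional F K := Module.Finite.of_finite
  obtain ⟨t, ht⟩ := exists_field_unit (K := K) (N := 2 * k) (by
    rw [card_ext (F := F), hK, hk]
    refine ⟨Fintype.card F ^ d - 1, ?_⟩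
    obtain ⟨Q, hQ⟩ : ∃ Q, Fintype.card F ^ d = Q + 1 :=
      ⟨_, (Nat.sub_add_cancel (Nat.one_le_pow _ _ Fintype.card_pos)).symm⟩
    rw [pow_mul', hQ, Nat.add_sub_cancel]
    have : (Q + 1) ^ 2 = (Q + 1 + 1) * Q + 1 := by ring
    omega)
  obtain ⟨τ, ℓ, hτ, hℓ, hnd, hu⟩ := frobenius_data (F := F) K hd hK t (by rw [ht, hk])
  refine ⟨fun h => ?_, fun h => ?_⟩
  · obtain ⟨g, hg⟩ := exists_psp_mixed (n := n) p h2 hpodd τ hτ ℓ hℓ hnd t hu
      (m := n - d) (by omega) (by omega)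
    exact ⟨g, by rw [hg, ht]⟩
  · subst h
    exact exists_psp_torus hd h2 τ hτ ℓ hℓ hnd t hu hK k ht (pow_half_eq_neg_one ht hk1)

/-- Elements from the tori of orders `q^d ± 1`. -/
theorem exists_psp_tori (p : ℕ) [Fact p.Prime] [CharP F p] (h2 : (2 : F) ≠ 0) (hpodd : Odd p)
    {d : ℕ} (hd : 1 ≤ d) (hdn : d ≤ n) (k : ℕ)
    (hk : 2 * k = Fintype.card F ^ d - 1 ∨ 2 * k = Fintype.card F ^ d + 1) :
    (d < n → ∃ g : Cfsg.PSp n F,
      orderOf g = Nat.lcm (2 * k) (p ^ Nat.clog p (2 * (n - d)))) ∧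
    (d = n → ∃ g : Cfsg.PSp n F, orderOf g = k) := by
  have h3 : 2 ≤ Fintype.card F := Fintype.one_lt_card
  have h4 : 2 ≤ Fintype.card F ^ d := h3.trans (Nat.le_self_pow (by omega) _)
  rcases hk with hk | hk
  · have : NeZero d := ⟨by omega⟩
    exact exists_minus_torus_aux (FiniteField.Extension F p d) p h2 hpodd
      (FiniteField.finrank_extension F p d) hd hdn k hk (by omega)
  · have : NeZero (2 * d) := ⟨by omega⟩
    exact exists_plus_torus_aux (FiniteField.Extension F p (2 * d)) p h2 hpodd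
      (FiniteField.finrank_extension F p (2 * d)) hd hdn k hk (by omega)

end Cfsg.Agent.SympSpectra
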