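import Cfsg.Agent.Lib.Spectra.UnitaryTori
import Cfsg.Agent.Lib.Spectra.SympOrders
import Mathlib.LinearAlgebra.Projection
import Mathlib.LinearAlgebra.Charpoly.ToMatrix

/-!
A bound on element orders in `PSU n`: either a self-adjoint idempotent commutes or the class is killed
by the order of the maximal torus element times a power of the characteristic.
-/

set_option autoImplicit false

namespace Cfsg.Agent.UnitarySpectra

open Polynomial Matrix

variable {F : Type*} [Field F] {n q : ℕ}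

local notation "Mn" => Matrix (Fin n) (Fin n) F

/-! ### arithmetic -/

theorem pow_quot_eq_one {R : Type*} [Monoid R] {θ : R} {N0 A B e g : ℕ} (hN0 : N0 = A * B)
    (hg0 : g ∣ N0) (hgq : g ∣ q + 1) (hB : Nat.gcd e (q + 1) ∣ B) (h1 : θ ^ (A * (q + 1)) = 1)
    (h2 : θ ^ (A * e) = 1) : θ ^ (N0 / g * (q + 1)) = 1 := by
  have h3 : θ ^ (A * Nat.gcd e (q + 1)) = 1 := by
    rw [← Nat.gcd_mul_left]
    exact pow_gcd_eq_one.2 ⟨h2, h1⟩
  obtain ⟨b, hb⟩ := hB
  obtain ⟨k, hk⟩ := hgq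
  obtain ⟨l, hl⟩ := hg0
  have hg : 0 < g := Nat.pos_of_ne_zero (by rintro rfl; simp at hk)
  rw [hl, Nat.mul_div_cancel_left _ hg, hk, ← mul_assoc, mul_comm l g, ← hl, hN0, hb,
    ← mul_assoc A, mul_assoc (A * Nat.gcd e (q + 1)), pow_mul, h3, one_pow]

theorem gcd_dvd_quot {e : ℕ} {x y : ℤ} (B : ℕ) (hxy : ∀ d : ℕ, d ∣ q + 1 → (x : ZMod d) = (y : ZMod d))
    (hne : x ≠ y) (hB : (B : ℤ) * (x - y) = x ^ e - y ^ e) : Nat.gcd e (q + 1) ∣ B := by
  rw [← ZMod.natCast_eq_zero_iff]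
  have h := cast_quot (d := Nat.gcd e (q + 1)) (B := (B : ℤ)) (e := e)
    (hxy _ (Nat.gcd_dvd_right e (q + 1))) hne hB
  simp only [Int.cast_natCast] at h
  rw [h, (ZMod.natCast_eq_zero_iff _ _).2 (Nat.gcd_dvd_left _ _), zero_mul]

/-- A divisor of `q ^ n - (-1) ^ n` coming from a torus of a block. -/
theorem exists_factor {e : ℕ} {N0 A : ℕ} (x y : ℤ) (hA : ((q : ℤ) + 1) * A = x - y)
    (hA0 : 0 < A) (hN0 : ((q : ℤ) + 1) * N0 = x ^ e - y ^ e)
    (hxy : ∀ d : ℕ, d ∣ q + 1 → (x : ZMod d) = (y : ZMod d)) :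
    ∃ B : ℕ, N0 = A * B ∧ Nat.gcd e (q + 1) ∣ B := by
  obtain ⟨B, hBd⟩ : ∃ B : ℤ, B = ∑ i ∈ Finset.range e, x ^ i * y ^ (e - 1 - i) := ⟨_, rfl⟩
  have hmul : B * (x - y) = x ^ e - y ^ e := hBd ▸ geom_sum₂_mul x y e
  have h1 : (A : ℤ) * B = N0 := by
    refine mul_left_cancel₀ (show (q : ℤ) + 1 ≠ 0 by omega) ?_
    rw [hN0, ← mul_assoc, hA, mul_comm, hmul]
  have hne : x ≠ y := by
    intro h
    rw [h, sub_self, mul_eq_zero] at hA
    omega
  obtain ⟨B', rfl⟩ : ∃ B' : ℕ, B = B' := by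
    refine ⟨B.toNat, (Int.toNat_of_nonneg ?_).symm⟩
    by_contra hneg
    push Not at hneg
    have : (A : ℤ) * B < 0 := mul_neg_of_pos_of_neg (by exact_mod_cast hA0) hneg
    omega
  exact ⟨B', by exact_mod_cast h1.symm, gcd_dvd_quot B' hxy hne hmul⟩

/-- The elements of a finite extension fixed by the power map of the base lie in the base. -/
theorem mem_range_of_pow_card [Fintype F] {L : Type*} [Field L] [Algebra F L] {x : L}
    (hx : x ^ Fintype.card F = x) : ∃ c : F, algebraMap F L c = x := by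
  classical
  by_contra! hc
  obtain ⟨P, hP⟩ : ∃ P : L[X], P = X ^ Fintype.card F - X := ⟨_, rfl⟩
  have hP0 : P ≠ 0 := hP ▸ FiniteField.X_pow_card_sub_X_ne_zero L Fintype.one_lt_card
  have hdeg : P.natDegree = Fintype.card F :=
    hP ▸ FiniteField.X_pow_card_sub_X_natDegree_eq L Fintype.one_lt_card
  have hsub : insert x (Finset.univ.image (algebraMap F L)) ⊆ P.roots.toFinset := by
    intro y hy
    rw [Multiset.mem_toFinset, mem_roots hP0, IsRoot, hP, eval_sub, eval_pow, eval_X, sub_eq_zero]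
    simp only [Finset.mem_insert, Finset.mem_image, Finset.mem_univ, true_and] at hy
    rcases hy with rfl | ⟨c, rfl⟩
    · exact hx
    · rw [← map_pow, FiniteField.pow_card]
  have h1 := (Finset.card_le_card hsub).trans ((Multiset.toFinset_card_le _).trans (card_roots' P))
  rw [Finset.card_insert_of_notMem (by simpa using hc),
    Finset.card_image_of_injective _ (algebraMap F L).injective, Finset.card_univ, hdeg] at h1
  omega

/-- A root of an irreducible polynomial whose power is a scalar of norm one. -/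
theorem exists_scalar_dvd [Fintype F] (hF : Fintype.card F = q ^ 2) (σ : F ≃+* F)
    (hσ : ∀ x, σ x = x ^ q) {f : F[X]} [Fact (Irreducible f)] {D : ℕ}
    (h : (AdjoinRoot.root f) ^ (D * (q + 1)) = 1) :
    ∃ c : F, σ c * c = 1 ∧ f ∣ X ^ D - C c := by
  have hq : (AdjoinRoot.root f ^ D) ^ Fintype.card F = AdjoinRoot.root f ^ D := by
    obtain ⟨Q, hQ⟩ : ∃ Q, q = Q + 1 := ⟨q - 1, by
      have := Fintype.card_pos (α := F)
      rw [hF] at this
      rcases q with _ | q <;> simp at this ⊢⟩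
    rw [← pow_mul, hF, show D * q ^ 2 = D * (q + 1) * Q + D by subst hQ; ring, pow_add, pow_mul, h,
      one_pow, one_mul]
  obtain ⟨c, hc⟩ := mem_range_of_pow_card hq
  refine ⟨c, ?_, ?_⟩
  · apply (algebraMap F (AdjoinRoot f)).injective
    rw [hσ, map_mul, map_pow, hc, ← pow_succ, ← pow_mul, h, map_one]
  · rw [← AdjoinRoot.mk_eq_zero, map_sub, map_pow, AdjoinRoot.mk_X, AdjoinRoot.mk_C,
      ← AdjoinRoot.algebraMap_eq, hc, sub_self]

theorem norm_root {f : F[X]} [Fact (Irreducible f)] (hfm : f.Monic) :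
    Algebra.norm F (AdjoinRoot.root f) = (-1) ^ f.natDegree * f.coeff 0 := by
  have h := Algebra.PowerBasis.norm_gen_eq_coeff_zero_minpoly (AdjoinRoot.powerBasis hfm.ne_zero)
  rwa [AdjoinRoot.powerBasis_gen, AdjoinRoot.powerBasis_dim, AdjoinRoot.minpoly_root hfm.ne_zero,
    hfm.leadingCoeff, inv_one, map_one, mul_one] at h

theorem det_eq_norm_pow {ι : Type*} [Fintype ι] [DecidableEq ι] (M : Matrix ι ι F) {f : F[X]}
    [Fact (Irreducible f)] (hfm : f.Monic) {e : ℕ} (he : M.charpoly = f ^ e) :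
    M.det = Algebra.norm F (AdjoinRoot.root f) ^ e ∧ e * f.natDegree = Fintype.card ι := by
  have hd : e * f.natDegree = Fintype.card ι := by
    rw [← natDegree_pow, ← he, Matrix.charpoly_natDegree_eq_dim]
  refine ⟨?_, hd⟩
  rw [norm_root hfm, mul_pow, Matrix.det_eq_sign_charpoly_coeff, he, coeff_zero_eq_eval_zero,
    eval_pow, ← coeff_zero_eq_eval_zero, ← hd, mul_comm e, pow_mul]

theorem root_pow_card [Fintype F] {f : F[X]} [Fact (Irreducible f)] (hfm : f.Monic) :
    (∀ y : AdjoinRoot f, y ^ Fintype.card F ^ f.natDegree = y) ∧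
      ∀ y : AdjoinRoot f, algebraMap F (AdjoinRoot f) (Algebra.norm F y) =
        y ^ ∑ i ∈ Finset.range f.natDegree, Fintype.card F ^ i := by
  have : Module.Finite F (AdjoinRoot f) := hfm.finite_adjoinRoot
  have : Finite (AdjoinRoot f) := Module.finite_of_finite F
  have : Fintype (AdjoinRoot f) := Fintype.ofFinite _
  have hfr : Module.finrank F (AdjoinRoot f) = f.natDegree := by
    rw [(AdjoinRoot.powerBasis hfm.ne_zero).finrank, AdjoinRoot.powerBasis_dim]
  refine ⟨fun y => ?_, fun y => ?_⟩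
  · rw [← hfr, ← SympSpectra.card_ext (F := F) (AdjoinRoot f), Nat.card_eq_fintype_card,
      FiniteField.pow_card]
  · rw [FiniteField.algebraMap_norm_eq_pow_sum, hfr, Nat.card_eq_fintype_card]

theorem geom_sum_odd (j : ℕ) :
    ∃ m : ℕ, ∑ i ∈ Finset.range (2 * j + 1), q ^ i = 1 + (q + 1) * m := by
  induction j with
  | zero => exact ⟨0, by simp⟩
  | succ j ih =>
    obtain ⟨m, hm⟩ := ih
    refine ⟨m + q ^ (2 * j + 1), ?_⟩
    rw [show 2 * (j + 1) + 1 = 2 * j + 1 + 1 + 1 by ring, Finset.sum_range_succ,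
      Finset.sum_range_succ, hm]
    ring

variable [Fintype F]

/-- The local case: `f` is fixed by the semilinear reflection. -/
theorem self_reflect_root (p a : ℕ) [Fact p.Prime] [CharP F p] (hq : q = p ^ a)
    (hF : Fintype.card F = q ^ 2) (σ : F ≃+* F) (hσ : ∀ x, σ x = x ^ q) {f g : F[X]}
    [Fact (Irreducible f)] (hfm : f.Monic) (hfg : f ∣ (f.map σ.toRingHom).comp g)
    (hmul : AdjoinRoot.root f * aeval (AdjoinRoot.root f) g = 1) :
    Odd f.natDegree ∧ AdjoinRoot.root f ^ (q ^ f.natDegree + 1) = 1 := by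
  have hσσ : ∀ x, σ (σ x) = x := fun x => by
    rw [hσ, hσ, ← pow_mul, ← sq, ← hF, FiniteField.pow_card]
  have hir : Irreducible f := Fact.out
  have : Module.Finite F (AdjoinRoot f) := hfm.finite_adjoinRoot
  have : Finite (AdjoinRoot f) := Module.finite_of_finite F
  have : CharP (AdjoinRoot f) p :=
    charP_of_injective_algebraMap (algebraMap F (AdjoinRoot f)).injective p
  have : ExpChar (AdjoinRoot f) p := ExpChar.prime Fact.out
  have hfr : Module.finrank F (AdjoinRoot f) = f.natDegree := by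
    rw [(AdjoinRoot.powerBasis hfm.ne_zero).finrank, AdjoinRoot.powerBasis_dim]
  obtain ⟨d, hd⟩ : ∃ d, f.natDegree = d := ⟨_, rfl⟩
  have hd1 : 1 ≤ d := hd ▸ hir.natDegree_pos
  rw [hd] at hfr ⊢
  have hper : ∀ y : AdjoinRoot f, y ^ q ^ (2 * d) = y := fun y => by
    rw [pow_mul q, ← hF, ← hd, (root_pow_card hfm).1]
  obtain ⟨θ, hθ⟩ : ∃ θ, θ = AdjoinRoot.root f := ⟨_, rfl⟩
  obtain ⟨θ', hθ'⟩ : ∃ θ', θ' = aeval θ g := ⟨_, rfl⟩
  rw [← hθ, ← hθ'] at hmul
  have hev : f.eval₂ ((algebraMap F (AdjoinRoot f)).comp σ.toRingHom) θ' = 0 := by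
    have h := AdjoinRoot.mk_eq_zero.2 hfg
    rw [← AdjoinRoot.aeval_eq, ← hθ, aeval_comp, ← hθ', aeval_def, eval₂_map] at h
    exact h
  obtain ⟨ψ, hψc, hψr⟩ : ∃ ψ : AdjoinRoot f →+* AdjoinRoot f,
      (∀ c, ψ (algebraMap F _ c) = algebraMap F _ (σ c)) ∧ ψ θ = θ' :=
    ⟨AdjoinRoot.lift _ θ' hev, fun c => AdjoinRoot.lift_of hev,
      by simp [hθ]⟩
  have hψθ' : ψ θ' = θ := by
    have h := congrArg ψ hmul
    rw [map_mul, map_one, hψr] at h
    exact mul_left_cancel₀ (right_ne_zero_of_mul_eq_one hmul)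
      (h.trans ((mul_comm _ _).trans hmul).symm)
  have hψψ : ∀ y, ψ (ψ y) = y := by
    intro y
    induction y using AdjoinRoot.induction_on with
    | ih P =>
      induction P using Polynomial.induction_on' with
      | add a b ha hb => simp only [map_add, ha, hb]
      | monomial i c =>
        rw [← C_mul_X_pow_eq_monomial]
        simp only [map_mul, map_pow, AdjoinRoot.mk_C, AdjoinRoot.mk_X, ← hθ, hψr, hψθ']
        rw [← AdjoinRoot.algebraMap_eq, hψc, hψc, hσσ]
  let χ : AdjoinRoot f →ₐ[F] AdjoinRoot f :=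
    { ψ.comp (iterateFrobenius (AdjoinRoot f) p a) with
      commutes' := fun c => by
        show ψ (iterateFrobenius (AdjoinRoot f) p a (algebraMap F _ c)) = _
        rw [iterateFrobenius_def, ← hq, map_pow, hψc, ← map_pow, hσ, ← pow_mul, ← sq, ← hF,
          FiniteField.pow_card] }
  obtain ⟨⟨i, hi⟩, hχ⟩ := (FiniteField.bijective_frobeniusAlgHom_pow F (AdjoinRoot f)).2 χ
  rw [hfr] at hi
  have hfrob : ∀ (j : ℕ) (y : AdjoinRoot f),
      (FiniteField.frobeniusAlgHom F (AdjoinRoot f) ^ j) y = y ^ q ^ (2 * j) := by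
    intro j y
    rw [AlgHom.coe_pow, FiniteField.coe_frobeniusAlgHom, pow_iterate, hF, pow_mul q]
  obtain ⟨j, hj⟩ : ∃ j, j = 2 * i + 2 * d - 1 := ⟨_, rfl⟩
  have hψj : ∀ y, ψ y = y ^ q ^ j := by
    intro y
    have h := AlgHom.congr_fun hχ (y ^ q ^ (2 * d - 1))
    rw [hfrob] at h
    have h' : χ (y ^ q ^ (2 * d - 1)) = ψ ((y ^ q ^ (2 * d - 1)) ^ q) := by
      show ψ (iterateFrobenius (AdjoinRoot f) p a _) = _
      rw [iterateFrobenius_def, ← hq]
    rw [h', ← pow_mul, ← pow_mul, ← pow_add, ← pow_succ, Nat.sub_add_cancel (by omega), hper] at h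
    rw [← h, hj, show 2 * d - 1 + 2 * i = 2 * i + 2 * d - 1 by omega]
  have hdvd : d ∣ j := by
    rw [← hfr, ← FiniteField.orderOf_frobeniusAlgHom F (AdjoinRoot f)]
    refine orderOf_dvd_of_pow_eq_one (AlgHom.ext fun y => ?_)
    rw [hfrob, AlgHom.one_apply, two_mul, pow_add, pow_mul, ← hψj, ← hψj, hψψ]
  obtain ⟨r, hr⟩ := hdvd
  have hjodd : Odd (d * r) := hr ▸ ⟨i + d - 1, by omega⟩
  rw [Nat.odd_mul] at hjodd
  obtain ⟨s, hs⟩ := hjodd.2
  refine ⟨hjodd.1, ?_⟩
  have hper' : ∀ (s : ℕ) (y : AdjoinRoot f), y ^ q ^ (2 * d * s) = y := by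
    intro s
    induction s with
    | zero => simp
    | succ s ih =>
      intro y
      rw [mul_add, mul_one, pow_add, pow_mul y, ih, hper]
  have h : θ' = θ ^ q ^ d := by
    rw [← hψr, hψj, hr, hs, show d * (2 * s + 1) = 2 * d * s + d by ring, pow_add, pow_mul θ,
      hper']
  rw [← hθ, pow_succ', ← h, hmul]

omit [Fintype F] in
theorem adj_pow (σ : F ≃+* F) (X : Mn) (k : ℕ) : adj σ (X ^ k) = adj σ X ^ k := by
  induction k with
  | zero => simp [adj_one]
  | succ k ih => rw [pow_succ, adj_mul, ih, ← pow_succ']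

omit [Fintype F] in
theorem adj_aeval (σ : F ≃+* F) (X : Mn) (P : F[X]) :
    adj σ (aeval X P) = aeval (adj σ X) (P.map σ.toRingHom) := by
  induction P using Polynomial.induction_on' with
  | add a b ha hb => rw [map_add, adj_add, Polynomial.map_add, map_add, ha, hb]
  | monomial i c =>
    rw [Polynomial.map_monomial, aeval_monomial, aeval_monomial, ← Algebra.smul_def,
      ← Algebra.smul_def, adj_smul, adj_pow]
    rfl

omit [Fintype F] in
theorem aeval_restrict {V : Type*} [AddCommGroup V] [Module F V] {L : V →ₗ[F] V}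
    {W : Submodule F V} (hW : ∀ x ∈ W, L x ∈ W) (P : F[X]) (x : W) :
    ((aeval (L.restrict hW) P x : W) : V) = aeval L P (x : V) := by
  induction P using Polynomial.induction_on' with
  | add a b ha hb => simp [map_add, ha, hb]
  | monomial i c =>
    rw [aeval_monomial, aeval_monomial]
    simp only [Module.End.mul_apply, Module.algebraMap_end_apply, SetLike.val_smul]
    congr 1
    induction i with
    | zero => simp
    | succ i ih =>
      rw [pow_succ', pow_succ', Module.End.mul_apply, Module.End.mul_apply, ← ih]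
      rfl

omit [Fintype F] in
/-- For a self-dual pair of idempotents the block determinant is a power of the norm of the root. -/
theorem det_block (σ : F ≃+* F) (M E : Mn) (hE : E * E = E) (hadj : adj σ E = 1 - E)
    (hcomm : Commute E M) {f : F[X]} [Fact (Irreducible f)] (hfm : f.Monic) {a : ℕ}
    (hEf : E * aeval M (f ^ a) = 0) :
    ∃ e : ℕ, 2 * (e * f.natDegree) = n ∧
      (M * E + (1 - E)).det = Algebra.norm F (AdjoinRoot.root f) ^ e := by
  classical
  obtain ⟨L, hL⟩ : ∃ L : (Fin n → F) →ₗ[F] (Fin n → F), L = Matrix.toLin' E := ⟨_, rfl⟩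
  have hi : IsIdempotentElem L := by
    rw [hL, IsIdempotentElem, Module.End.mul_eq_comp, ← Matrix.toLin'_mul, hE]
  have hcompl := LinearMap.IsIdempotentElem.isCompl hi
  obtain ⟨Ψ, hΨ⟩ : ∃ Ψ, Ψ = Submodule.prodEquivOfIsCompl _ _ hcompl := ⟨_, rfl⟩
  obtain ⟨LM, hLM⟩ : ∃ LM : (Fin n → F) →ₗ[F] (Fin n → F), LM = Matrix.toLin' M := ⟨_, rfl⟩
  have hW : ∀ x ∈ LinearMap.range L, LM x ∈ LinearMap.range L := by
    rintro _ ⟨y, rfl⟩
    refine ⟨LM y, ?_⟩
    rw [hL, hLM, Matrix.toLin'_apply, Matrix.toLin'_apply, Matrix.toLin'_apply, Matrix.toLin'_apply,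
      Matrix.mulVec_mulVec, Matrix.mulVec_mulVec, hcomm.eq]
  have hker : ∀ y : LinearMap.ker L, E *ᵥ (y : Fin n → F) = 0 := fun y => by
    rw [← Matrix.toLin'_apply, ← hL]; exact y.2
  have hran : ∀ y : LinearMap.range L, E *ᵥ (y : Fin n → F) = y := fun y => by
    rw [← Matrix.toLin'_apply, ← hL]; exact (LinearMap.IsIdempotentElem.mem_range_iff hi).1 y.2
  have hblock : ∀ (X : Mn) (A : Module.End F (LinearMap.range L)) (B : Module.End F (LinearMap.ker L)),
      (∀ (x : LinearMap.range L) (y : LinearMap.ker L),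
        X *ᵥ ((x : Fin n → F) + y) = (A x : Fin n → F) + B y) →
      Matrix.toLin' X = Ψ.conj (A.prodMap B) := by
    intro X A B h
    refine LinearMap.ext fun v => ?_
    obtain ⟨⟨x, y⟩, rfl⟩ := Ψ.surjective v
    rw [LinearEquiv.conj_apply_apply, LinearEquiv.symm_apply_apply, Matrix.toLin'_apply, hΨ,
      Submodule.coe_prodEquivOfIsCompl', h, LinearMap.prodMap_apply,
      Submodule.coe_prodEquivOfIsCompl']
  obtain ⟨k, hk⟩ : ∃ k, Module.finrank F (LinearMap.range L) = k := ⟨_, rfl⟩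
  obtain ⟨l, hl⟩ : ∃ l, Module.finrank F (LinearMap.ker L) = l := ⟨_, rfl⟩
  have hcE : E.charpoly = (X - 1) ^ k * X ^ l := by
    rw [← Matrix.charpoly_toLin', hblock E 1 0 (fun x y => by
      simp [Matrix.mulVec_add, hker, hran]), LinearEquiv.charpoly_conj, LinearMap.charpoly_prodMap,
      LinearMap.charpoly_one, LinearMap.charpoly_zero, hk, hl]
  have hcE' : (1 - E).charpoly = X ^ k * (X - 1) ^ l := by
    rw [← Matrix.charpoly_toLin', hblock (1 - E) 0 1 (fun x y => by
      simp [Matrix.mulVec_add, Matrix.sub_mulVec, hker, hran]), LinearEquiv.charpoly_conj,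
      LinearMap.charpoly_prodMap, LinearMap.charpoly_one, LinearMap.charpoly_zero, hk, hl]
  have hkl : k = l := by
    rw [← hadj, adj, Matrix.charpoly_transpose,
      show E.map σ = E.map σ.toRingHom from rfl, Matrix.charpoly_map, hcE] at hcE'
    simp only [Polynomial.map_mul, Polynomial.map_pow, Polynomial.map_sub, Polynomial.map_X,
      Polynomial.map_one] at hcE'
    have h := congrArg (rootMultiplicity (0 : F)) hcE'
    have hne : ∀ i j : ℕ, (X : F[X]) ^ i * (X - 1) ^ j ≠ 0 := fun i j =>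
      mul_ne_zero (pow_ne_zero _ X_ne_zero) (pow_ne_zero _ (by
        rw [show (X : F[X]) - 1 = X - C 1 by rw [map_one]]; exact X_sub_C_ne_zero 1))
    have hval : ∀ i j : ℕ, rootMultiplicity (0 : F) ((X : F[X]) ^ i * (X - 1) ^ j) = i := by
      intro i j
      rw [rootMultiplicity_mul (hne i j), show (X : F[X]) ^ i = (X - C 0) ^ i by simp,
        rootMultiplicity_X_sub_C_pow, rootMultiplicity_eq_zero (by simp [IsRoot]), add_zero]
    rw [mul_comm, hval, hval] at h
    exact h.symm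
  obtain ⟨A, hA⟩ : ∃ A : Module.End F (LinearMap.range L), A = LM.restrict hW := ⟨_, rfl⟩
  have hG : Matrix.toLin' (M * E + (1 - E)) = Ψ.conj (A.prodMap 1) := hblock _ _ _ fun x y => by
    simp only [Matrix.mulVec_add, Matrix.add_mulVec, Matrix.sub_mulVec, ← Matrix.mulVec_mulVec,
      hker, hran, Matrix.mulVec_zero, Matrix.one_mulVec, sub_self, sub_zero, zero_add, add_zero]
    simp [hA, hLM]
  obtain ⟨b, hb⟩ : ∃ b : Module.Basis (Fin k) F (LinearMap.range L),
      b = Module.finBasisOfFinrankEq F _ hk := ⟨_, rfl⟩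
  have hnil : IsNilpotent (aeval (LinearMap.toMatrixAlgEquiv b A) f) := by
    refine ⟨a, ?_⟩
    rw [← map_pow, aeval_algHom_apply]
    have h0 : aeval A (f ^ a) = 0 := by
      refine LinearMap.ext fun x => Subtype.ext ?_
      rw [hA, aeval_restrict hW, hLM]
      have e : aeval (Matrix.toLin' M) (f ^ a) = Matrix.toLin' (aeval M (f ^ a)) :=
        aeval_algHom_apply (Matrix.toLinAlgEquiv' : Mn ≃ₐ[F] _) M (f ^ a)
      rw [e, Matrix.toLin'_apply, ← hran x, Matrix.mulVec_mulVec]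
      have hc : Commute E (aeval M (f ^ a)) := by
        induction f ^ a using Polynomial.induction_on' with
        | add u v hu hv => rw [map_add]; exact hu.add_right hv
        | monomial i c =>
          rw [aeval_monomial]
          exact (Algebra.commute_algebraMap_right c E).mul_right (hcomm.pow_right i)
      rw [← hc.eq, hEf]
      simp
    rw [h0, map_zero]
  obtain ⟨e, he⟩ := Spectra.charpoly_eq_pow _ (Fact.out : Irreducible f) hfm hnil
  obtain ⟨hdet, hed⟩ := det_eq_norm_pow _ hfm he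
  refine ⟨e, ?_, ?_⟩
  · rw [hed, Fintype.card_fin]
    have := (LinearEquiv.finrank_eq Ψ)
    rw [Module.finrank_prod, hk, hl, Module.finrank_fin_fun] at this
    omega
  · rw [← hdet, ← LinearMap.det_toLin', hG]
    have hAd : LinearMap.det A = (LinearMap.toMatrixAlgEquiv b A).det :=
      (LinearMap.det_toMatrix b A).symm
    rw [← hAd, LinearEquiv.conj_apply, LinearMap.comp_assoc, LinearMap.det_conj,
      LinearMap.det_prodMap, map_one, mul_one]

/-- The basic alternative for the class of a unitary matrix. -/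
theorem bound (p a₀ : ℕ) [Fact p.Prime] [CharP F p] (hq : q = p ^ a₀)
    (hF : Fintype.card F = q ^ 2) (σ : F ≃+* F) (hσ : ∀ x, σ x = x ^ q) (hn : 3 ≤ n) {ζ : F}
    (hζ : σ ζ * ζ = 1) (hζ1 : ζ ≠ 1) (N0 : ℕ)
    (hN0 : ((q : ℤ) + 1) * N0 = (q : ℤ) ^ n - (-1) ^ n) (s : Cfsg.SU n F q) :
    (∃ E : Mn, E * E = E ∧ adj σ E = E ∧ E ≠ 0 ∧ E ≠ 1 ∧
      Commute E ((s : Matrix.SpecialLinearGroup (Fin n) F) : Mn)) ∨
    (QuotientGroup.mk s : Cfsg.PSU n F q) ^ (N0 / Nat.gcd n (q + 1) * p ^ Nat.clog p n) = 1 := by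
  classical
  have hp : p.Prime := Fact.out
  have hσσ : ∀ x, σ (σ x) = x := fun x => by
    rw [hσ, hσ, ← pow_mul, ← sq, ← hF, FiniteField.pow_card]
  have hq1 : 1 < q := by
    have := Fintype.one_lt_card (α := F)
    rw [hF] at this
    by_contra h
    interval_cases q <;> simp at this
  obtain ⟨M, hM⟩ : ∃ M : Mn, M = ((s : Matrix.SpecialLinearGroup (Fin n) F) : Mn) := ⟨_, rfl⟩
  obtain ⟨N, hN⟩ : ∃ N, orderOf s = N := ⟨_, rfl⟩
  have hN1 : 1 ≤ N := hN ▸ orderOf_pos s
  have hMN : M ^ N = 1 := by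
    rw [hM, ← hN, ← coe_pow_SU, pow_orderOf_eq_one]; rfl
  have hMdet : M.det = 1 := hM ▸ (s : Matrix.SpecialLinearGroup (Fin n) F).2
  have hMu : adj σ M * M = 1 := hM ▸ (mem_SU_iff σ hσ _).1 s.2
  obtain ⟨g, hg⟩ : ∃ g : F[X], g = X ^ (N - 1) := ⟨_, rfl⟩
  have hXg : (X : F[X]) * g = X ^ N := by rw [hg, ← pow_succ', Nat.sub_add_cancel hN1]
  have hMi : M * aeval M g = 1 := by
    conv_lhs => arg 1; rw [← aeval_X (R := F) M]
    rw [← map_mul, hXg, map_pow, aeval_X, hMN]
  have hMadj : adj σ M = aeval M g := left_inv_eq_right_inv hMu hMi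
  have hadj : ∀ P : F[X], adj σ (aeval M P) = aeval M ((P.map σ.toRingHom).comp g) := by
    intro P
    rw [adj_aeval, hMadj, aeval_comp]
  have hminN : minpoly F M ∣ X ^ N - 1 := minpoly.dvd F M (by simp [hMN])
  have hne : Nonempty (Fin n) := ⟨⟨0, by omega⟩⟩
  obtain ⟨f, hfm, hf, hfd⟩ := exists_monic_irreducible_factor M.charpoly (by
    intro h
    have := natDegree_eq_zero_of_isUnit h
    rw [Matrix.charpoly_natDegree_eq_dim] at this
    exact Fintype.card_ne_zero this)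
  have : Fact (Irreducible f) := ⟨hf⟩
  have hfmin : f ∣ minpoly F M := Spectra.dvd_minpoly_of_dvd_charpoly M hf hfd
  have hθN : AdjoinRoot.root f ^ N = 1 := by
    have h := AdjoinRoot.mk_eq_zero.2 (hfmin.trans hminN)
    rwa [map_sub, map_pow, map_one, AdjoinRoot.mk_X, sub_eq_zero] at h
  obtain ⟨T, hT⟩ : ∃ T, Nat.clog p n = T := ⟨_, rfl⟩
  have hnT : n ≤ p ^ T := hT ▸ Nat.le_pow_clog hp.one_lt n
  obtain ⟨D, hD⟩ : ∃ D, N0 / Nat.gcd n (q + 1) = D := ⟨_, rfl⟩
  rw [hD, hT]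
  have hgN0 : Nat.gcd n (q + 1) ∣ N0 := by
    rw [← gcd_quot (by omega) hN0]; exact Nat.gcd_dvd_left _ _
  have hsign : ∀ (k : ℕ) (c : F), M ^ k = c • (1 : Mn) →
      (QuotientGroup.mk s : Cfsg.PSU n F q) ^ k = 1 := by
    intro k c hk
    rw [← QuotientGroup.mk_pow, mk_eq_one_iff σ hσ hn hζ hζ1, coe_pow_SU, ← hM]
    exact ⟨c, hk⟩
  have hpow : ∀ (b : ℕ) (c : F), b ≤ p ^ T → f ∣ X ^ D - C c →
      f ^ b ∣ X ^ (D * p ^ T) - C (c ^ p ^ T) := by
    intro b c hb h
    have h1 := (pow_dvd_pow f hb).trans (pow_dvd_pow_of_dvd h (p ^ T))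
    rwa [sub_pow_char_pow, ← pow_mul, ← map_pow] at h1
  have hroot := root_pow_card (F := F) hfm
  by_cases hnil : IsNilpotent (aeval M f)
  · right
    obtain ⟨e, he⟩ := Spectra.charpoly_eq_pow M hf hfm hnil
    obtain ⟨hdet, hed⟩ := det_eq_norm_pow M hfm he
    rw [Fintype.card_fin] at hed
    have hfg : f ∣ (f.map σ.toRingHom).comp g := by
      obtain ⟨j, hj⟩ := hnil
      have h0 : aeval M (((f ^ j).map σ.toRingHom).comp g) = 0 := by
        rw [← hadj, map_pow, hj, adj_zero]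
      rw [Polynomial.map_pow, pow_comp] at h0
      exact hf.prime.dvd_of_dvd_pow (hfmin.trans (minpoly.dvd F M h0))
    obtain ⟨hdodd, hθd⟩ := self_reflect_root p a₀ hq hF σ hσ hfm hfg (by
      rw [hg, map_pow, aeval_X, ← pow_succ', Nat.sub_add_cancel hN1, hθN])
    obtain ⟨d, hdd⟩ : ∃ d, f.natDegree = d := ⟨_, rfl⟩
    rw [hdd] at hed hdodd hθd
    obtain ⟨A, hA⟩ : q + 1 ∣ q ^ d + 1 ^ d := hdodd.nat_add_dvd_pow_add_pow q 1
    rw [one_pow] at hA
    have hA' : ((q : ℤ) + 1) * A = (q : ℤ) ^ d - (-1) := by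
      rw [sub_neg_eq_add]; exact_mod_cast hA.symm
    have hA0 : 0 < A := by
      rcases Nat.eq_zero_or_pos A with rfl | h
      · simp at hA
      · exact h
    obtain ⟨B, hB, hgB⟩ := exists_factor (e := e) ((q : ℤ) ^ d) (-1) hA' hA0
      (by rw [hN0, ← hed, ← pow_mul, mul_comm d e]
          congr 1
          rcases Nat.even_or_odd e with he | he
          · rw [(he.mul_right d).neg_one_pow, he.neg_one_pow]
          · rw [(he.mul hdodd).neg_one_pow, he.neg_one_pow])
      (fun k hk => by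
        have h := (ZMod.natCast_eq_zero_iff (q + 1) k).2 hk
        push_cast at h ⊢
        rw [eq_neg_of_add_eq_zero_left h, hdodd.neg_one_pow])
    have hθA : AdjoinRoot.root f ^ (A * (q + 1)) = 1 := by rw [mul_comm, ← hA, hθd]
    have hθe : AdjoinRoot.root f ^ (A * e) = 1 := by
      have hN := hroot.2 (AdjoinRoot.root f)
      obtain ⟨j, hj⟩ := hdodd
      obtain ⟨m, hm⟩ := geom_sum_odd (q := q) j
      have hsum : ∑ i ∈ Finset.range d, (q ^ 2) ^ i = A * (1 + (q + 1) * m) := by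
        rw [← hm, ← hj]
        have h : ((∑ i ∈ Finset.range d, (q ^ 2) ^ i : ℕ) : ℤ) * ((q : ℤ) ^ 2 - 1) =
            ((A * ∑ i ∈ Finset.range d, q ^ i : ℕ) : ℤ) * ((q : ℤ) ^ 2 - 1) := by
          push_cast
          rw [geom_sum_mul]
          linear_combination (-(∑ i ∈ Finset.range d, (q : ℤ) ^ i) * ((q : ℤ) - 1)) * hA' -
            ((q : ℤ) ^ d + 1) * geom_sum_mul (q : ℤ) d
        exact_mod_cast mul_right_cancel₀ (by nlinarith) h
      rw [hdd, hF, hsum] at hN
      have h := congrArg (algebraMap F (AdjoinRoot f)) (hdet.symm.trans hMdet)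
      rw [map_pow, hN, map_one, ← pow_mul,
        show A * (1 + (q + 1) * m) * e = A * e + A * (q + 1) * (m * e) by ring, pow_add, pow_mul _
          (A * (q + 1)), hθA, one_pow, mul_one] at h
      exact h
    obtain ⟨c, hc, hfc⟩ := exists_scalar_dvd hF σ hσ
      (hD ▸ pow_quot_eq_one hB hgN0 (Nat.gcd_dvd_right n _) hgB hθA hθe :
        AdjoinRoot.root f ^ (D * (q + 1)) = 1)
    have he' : e ≤ p ^ T := by
      refine le_trans ?_ hnT
      rw [← hed]
      exact Nat.le_mul_of_pos_right e (hdd ▸ hf.natDegree_pos)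
    obtain ⟨r, hr⟩ := hpow e c he' hfc
    refine hsign _ (c ^ p ^ T) ?_
    have h0 := congrArg (aeval M) hr
    rw [map_mul, ← he, M.aeval_self_charpoly, zero_mul, map_sub, map_pow, aeval_X, aeval_C,
      sub_eq_zero, Algebra.algebraMap_eq_smul_one] at h0
    exact h0
  -- a non-trivial idempotent
  have hm0 : minpoly F M ≠ 0 := minpoly.ne_zero (Matrix.isIntegral M)
  obtain ⟨h, hmh, hfh⟩ :=
    (FiniteMultiplicity.of_prime_left hf.prime hm0).exists_eq_pow_mul_and_not_dvd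
  obtain ⟨a, ha⟩ : ∃ a : ℕ, minpoly F M = f ^ a * h := ⟨_, hmh⟩
  have ha1 : a ≠ 0 := by
    rintro rfl
    rw [pow_zero, one_mul] at ha
    exact hfh (ha ▸ hfmin)
  have hh0 : h ≠ 0 := by rintro rfl; exact hm0 (by rw [ha, mul_zero])
  have hhu : ¬ IsUnit h := by
    intro hu
    apply hnil
    refine ⟨a, ?_⟩
    obtain ⟨h', rfl⟩ := hu
    rw [← map_pow, show f ^ a = minpoly F M * (↑h'⁻¹ : F[X]) by
      rw [ha, Units.mul_inv_cancel_right], map_mul, minpoly.aeval, zero_mul]
  obtain ⟨u, v, huv⟩ : IsCoprime (f ^ a) h := (hf.coprime_iff_not_dvd.mpr hfh).pow_left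
  obtain ⟨E, hE⟩ : ∃ E, E = aeval M (v * h) := ⟨_, rfl⟩
  obtain ⟨E', hE'⟩ : ∃ E', E' = aeval M (((v * h).map σ.toRingHom).comp g) := ⟨_, rfl⟩
  have hEE : E * E = E := by
    rw [hE, ← map_mul]
    have : v * h * (v * h) = v * h - (u * v) * (f ^ a * h) := by
      linear_combination (v * h) * huv
    rw [this, map_sub, map_mul (aeval M) (u * v), ← ha, minpoly.aeval, mul_zero, sub_zero]
  have hEa : adj σ E = E' := by rw [hE, hadj, hE']
  have hE'a : adj σ E' = E := by rw [← hEa, adj_adj σ hσσ]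
  have hcomm : E * E' = E' * E := by rw [hE, hE', ← map_mul, ← map_mul, mul_comm]
  have hE'E' : E' * E' = E' := by rw [← hEa, ← adj_mul, hEE]
  have hEM : Commute E M := by
    have := (Commute.all (v * h) X).map (aeval M)
    rwa [aeval_X, ← hE] at this
  have hE'M : Commute E' M := by
    have := (Commute.all (((v * h).map σ.toRingHom).comp g) X).map (aeval M)
    rwa [aeval_X, ← hE'] at this
  have h0 : E ≠ 0 := by
    intro h0
    have hd : f ∣ v * h := (dvd_pow_self f ha1).trans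
      (Dvd.intro h ha.symm |>.trans (minpoly.dvd F M (hE ▸ h0)))
    exact hf.not_isUnit
      (isUnit_of_dvd_one (huv ▸ dvd_add ((dvd_pow_self f ha1).mul_left u) hd))
  have h1 : E ≠ 1 := by
    intro h1
    have h0 : aeval M (u * f ^ a) = 0 := by
      have := congrArg (aeval M) huv
      rw [map_add, map_one, ← hE, h1] at this
      simpa using this
    have hd : h ∣ u * f ^ a := (Dvd.intro_left (f ^ a) ha.symm).trans (minpoly.dvd F M h0)
    exact hhu (isUnit_of_dvd_one (huv ▸ dvd_add hd (dvd_mul_left h v)))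
  have hP : E * E' * (E * E') = E * E' := by
    rw [mul_assoc, ← mul_assoc E' E E', ← hcomm, mul_assoc E E' E', hE'E', ← mul_assoc, hEE]
  have hPa : adj σ (E * E') = E * E' := by rw [adj_mul, hEa, hE'a]
  by_cases hP0 : E * E' ≠ 0
  · refine Or.inl ⟨E * E', hP, hPa, hP0, fun hh => h1 ?_, hM ▸ hEM.mul_left hE'M⟩
    calc E = E * (E * E') := by rw [hh, mul_one]
      _ = 1 := by rw [← mul_assoc, hEE, hh]
  push Not at hP0
  have hQ : (E + E') * (E + E') = E + E' := by
    rw [mul_add, add_mul, add_mul, hEE, hE'E', hP0, ← hcomm, hP0, add_zero, zero_add]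
  by_cases hQ1 : E + E' ≠ 1
  · refine Or.inl ⟨E + E', hQ, by rw [adj_add, hEa, hE'a, add_comm], fun hh => h0 ?_, hQ1,
      hM ▸ hEM.add_left hE'M⟩
    have h' := congrArg (E * ·) hh
    simpa [mul_add, hEE, hP0] using h'
  push Not at hQ1
  -- now the adjoint of `E` is `1 - E`
  right
  have hEf : E * aeval M (f ^ a) = 0 := by
    rw [hE, ← map_mul, show v * h * f ^ a = v * (f ^ a * h) by ring, ← ha, map_mul,
      minpoly.aeval, mul_zero]
  have hadjE : adj σ E = 1 - E := by rw [hEa, ← hQ1, add_sub_cancel_left]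
  have hE'1 : E' = 1 - E := hEa.symm.trans hadjE
  obtain ⟨e, hed, hdet⟩ := det_block σ M E hEE hadjE hEM hfm hEf
  obtain ⟨G, hG⟩ : ∃ G, M * E + (1 - E) = G := ⟨_, rfl⟩
  rw [hG] at hdet
  have hGa : σ G.det = G.det := by
    obtain ⟨H, hH⟩ : ∃ H, M * E' + E = H := ⟨_, rfl⟩
    have e1 : M = G * H := by
      rw [← hG, ← hH, ← hE'1]
      simp only [add_mul, mul_add, mul_assoc]
      rw [← mul_assoc E M E', hEM.eq, mul_assoc M E E', ← mul_assoc E' M E', hE'M.eq,
        mul_assoc M E' E', hP0, hE'E', hEE, ← hcomm, hP0]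
      simp [← mul_add, add_comm E', hQ1]
    have e2 : adj σ G * H = 1 := by
      rw [← hG, ← hH, ← hE'1, adj_add, adj_mul, hEa, hE'a]
      have hc1 : Commute E (adj σ M) := by
        rw [hMadj, hE, ← hMadj]
        have := (Commute.all (v * h) g).map (aeval M)
        rwa [← hMadj] at this
      simp only [add_mul, mul_add, mul_assoc]
      rw [← mul_assoc (adj σ M) M E', hMu, one_mul, hE'E', ← mul_assoc E M E', hEM.eq,
        mul_assoc M E E', hP0, mul_zero, hEE, ← hc1.eq, ← mul_assoc, ← hcomm, hP0, zero_mul,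
        add_zero, zero_add, add_comm, hQ1]
    have d1 := congrArg Matrix.det e1
    rw [Matrix.det_mul, hMdet] at d1
    have d2 := congrArg Matrix.det e2
    rw [Matrix.det_mul, det_adj, Matrix.det_one] at d2
    linear_combination (G.det) * d2 + (σ G.det) * d1
  obtain ⟨d, hdd⟩ : ∃ d, f.natDegree = d := ⟨_, rfl⟩
  rw [hdd] at hed
  have hd1 : 1 ≤ d := hdd ▸ hf.natDegree_pos
  obtain ⟨A, hA⟩ : ∃ A, A = (∑ i ∈ Finset.range d, (q ^ 2) ^ i) * (q - 1) := ⟨_, rfl⟩
  have hA' : ((q : ℤ) + 1) * A = ((q : ℤ) ^ 2) ^ d - 1 := by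
    rw [hA]
    push_cast [Nat.cast_sub hq1.le]
    linear_combination geom_sum_mul ((q : ℤ) ^ 2) d
  have hA0 : 0 < A := by
    have : (1 : ℤ) < ((q : ℤ) ^ 2) ^ d := one_lt_pow₀ (by nlinarith) (by omega)
    rcases Nat.eq_zero_or_pos A with rfl | h
    · simp at hA'; omega
    · exact h
  obtain ⟨B, hB, hgB⟩ := exists_factor (e := e) (((q : ℤ) ^ 2) ^ d) 1 hA' hA0
    (by rw [hN0, ← hed, (even_two_mul (e * d)).neg_one_pow, one_pow, ← pow_mul, ← pow_mul,
      mul_comm e d])
    (fun k hk => by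
      have h := (ZMod.natCast_eq_zero_iff (q + 1) k).2 hk
      push_cast at h ⊢
      rw [eq_neg_of_add_eq_zero_left h, neg_one_sq, one_pow])
  have hθ0 : AdjoinRoot.root f ≠ 0 := by
    intro h
    rw [h, zero_pow (by omega : N ≠ 0)] at hθN
    exact zero_ne_one hθN
  have : Module.Finite F (AdjoinRoot f) := hfm.finite_adjoinRoot
  have hθA : AdjoinRoot.root f ^ (A * (q + 1)) = 1 := by
    have h := hroot.1 (AdjoinRoot.root f)
    rw [hF, hdd] at h
    have e : (q ^ 2) ^ d = A * (q + 1) + 1 := by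
      have : (((q ^ 2) ^ d : ℕ) : ℤ) = ((A * (q + 1) + 1 : ℕ) : ℤ) := by
        push_cast; linear_combination -hA'
      exact_mod_cast this
    rw [e, pow_succ] at h
    exact mul_right_cancel₀ hθ0 (by rw [h, one_mul])
  have hG0 : G.det ≠ 0 := hdet ▸ pow_ne_zero _ (Algebra.norm_ne_zero_iff.2 hθ0)
  have hθe : AdjoinRoot.root f ^ (A * e) = 1 := by
    have hN := hroot.2 (AdjoinRoot.root f)
    rw [hdd, hF] at hN
    have h : G.det ^ (q - 1) = 1 := by
      refine mul_right_cancel₀ hG0 ?_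
      rw [← pow_succ, Nat.sub_add_cancel hq1.le, ← hσ, hGa, one_mul]
    have h' := congrArg (algebraMap F (AdjoinRoot f)) h
    rw [hdet, map_pow, map_pow, hN, map_one, ← pow_mul, ← pow_mul] at h'
    rwa [hA, mul_assoc, mul_comm (q - 1) e]
  obtain ⟨c, hc, hfc⟩ := exists_scalar_dvd hF σ hσ
    (hD ▸ pow_quot_eq_one hB hgN0 (Nat.gcd_dvd_right n _) hgB hθA hθe :
      AdjoinRoot.root f ^ (D * (q + 1)) = 1)
  have haT : a ≤ p ^ T := by
    refine le_trans ?_ hnT
    have h4 := natDegree_le_of_dvd M.minpoly_dvd_charpoly M.charpoly_monic.ne_zero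
    rw [ha, natDegree_mul (pow_ne_zero _ hf.ne_zero) hh0, natDegree_pow,
      Matrix.charpoly_natDegree_eq_dim, Fintype.card_fin, hdd] at h4
    exact le_trans (Nat.le_mul_of_pos_right a hd1) (by omega)
  obtain ⟨r, hr⟩ := hpow a c haT hfc
  refine hsign _ (c ^ p ^ T) ?_
  obtain ⟨m, hm⟩ : ∃ m, m = D * p ^ T := ⟨_, rfl⟩
  obtain ⟨c', hc'⟩ : ∃ c', c' = c ^ p ^ T := ⟨_, rfl⟩
  rw [← hm, ← hc'] at hr ⊢
  have hcc : σ c' * c' = 1 := by rw [hc', map_pow, ← mul_pow, hc, one_pow]
  have e1 : E * (M ^ m - c' • (1 : Mn)) = 0 := by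
    have h := congrArg (aeval M) hr
    rw [map_mul, map_sub, map_pow, aeval_X, aeval_C, Algebra.algebraMap_eq_smul_one] at h
    rw [h, ← mul_assoc, hEf, zero_mul]
  have e2 : (M ^ m - c' • (1 : Mn)) * E' = 0 := by
    have h : (adj σ (M ^ m) - σ c' • (1 : Mn)) * E' = 0 := by
      rw [← adj_one (n := n) σ, ← adj_smul, ← adj_sub, ← hEa, ← adj_mul, e1, adj_zero]
    have hinv : M ^ m * adj σ (M ^ m) = 1 := by
      rw [adj_pow, ← (show Commute M (adj σ M) from (mul_eq_one_comm.1 hMu).trans hMu.symm).mul_pow,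
        mul_eq_one_comm.1 hMu, one_pow]
    have h' := congrArg (M ^ m * ·) h
    simp only [mul_zero, ← mul_assoc, mul_sub, mul_smul_comm, mul_one, hinv] at h'
    calc (M ^ m - c' • (1 : Mn)) * E' = (-c') • ((1 - σ c' • M ^ m) * E') := by
          rw [← Matrix.smul_mul]
          congr 1
          rw [smul_sub, smul_smul, show -c' * σ c' = -1 by linear_combination -hcc]
          module
      _ = 0 := by rw [h', smul_zero]
  have hc2 : Commute (M ^ m - c' • (1 : Mn)) E :=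
    (((hEM.pow_right m).sub_right ((Commute.one_right E).smul_right c'))).symm
  have : M ^ m - c' • (1 : Mn) = 0 := by
    calc M ^ m - c' • (1 : Mn) = (M ^ m - c' • (1 : Mn)) * (E + E') := by rw [hQ1, mul_one]
      _ = 0 := by rw [mul_add, hc2.eq, e1, e2, add_zero]
  exact sub_eq_zero.1 this

end Cfsg.Agent.UnitarySpectra
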