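import Cfsg.Agent.Lib.Spectra.UnitaryModels
import Cfsg.Agent.Lib.Spectra.SympModels
import Mathlib.FieldTheory.Finite.Extension
import Mathlib.Algebra.Ring.GeomSum
import Mathlib.LinearAlgebra.Determinant
import Mathlib.Data.ZMod.Basic

/-!
Maximal tori and regular unipotent elements of `PSU n`.
-/

set_option autoImplicit false

namespace Cfsg.Agent.UnitarySpectra

open Polynomial Matrix

variable {F : Type*} [Field F] {n q : ℕ}

/-! ### arithmetic -/

/-- A quotient `(x ^ e - y ^ e) / (x - y)` with `x ≡ y ≡ ± 1` modulo `d` is `± e` modulo `d`. -/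
theorem cast_quot {d e : ℕ} {x y B : ℤ} (hxy : (x : ZMod d) = (y : ZMod d)) (hne : x ≠ y)
    (hB : B * (x - y) = x ^ e - y ^ e) : (B : ZMod d) = (e : ZMod d) * (y : ZMod d) ^ (e - 1) := by
  rw [← geom_sum₂_mul x y e] at hB
  rw [mul_right_cancel₀ (sub_ne_zero.2 hne) hB]
  push_cast
  rw [hxy, geom_sum₂_self]

theorem neg_one_pow_isUnit {d : ℕ} (k : ℕ) : IsUnit (((-1 : ℤ) : ZMod d) ^ k) := by
  push_cast
  exact (isUnit_one.neg).pow k

theorem gcd_quot (hn : 1 ≤ n) {N0 : ℕ}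
    (hN0 : ((q : ℤ) + 1) * N0 = (q : ℤ) ^ n - (-1) ^ n) : Nat.gcd N0 (q + 1) = Nat.gcd n (q + 1) := by
  have key : ∀ d, d ∣ q + 1 → (d ∣ N0 ↔ d ∣ n) := by
    intro d hd
    have hq : ((q : ℤ) : ZMod d) = ((-1 : ℤ) : ZMod d) := by
      have h := (ZMod.natCast_eq_zero_iff (q + 1) d).2 hd
      push_cast at h ⊢
      linear_combination h
    have h := cast_quot (B := (N0 : ℤ)) (e := n) hq (by omega) (by linear_combination hN0)
    simp only [Int.cast_natCast] at h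
    rw [← ZMod.natCast_eq_zero_iff, ← ZMod.natCast_eq_zero_iff, h,
      (neg_one_pow_isUnit _).mul_left_eq_zero]
  refine Nat.dvd_antisymm (Nat.dvd_gcd ?_ (Nat.gcd_dvd_right _ _))
    (Nat.dvd_gcd ?_ (Nat.gcd_dvd_right _ _))
  · exact (key _ (Nat.gcd_dvd_right _ _)).1 (Nat.gcd_dvd_left _ _)
  · exact (key _ (Nat.gcd_dvd_right _ _)).2 (Nat.gcd_dvd_left _ _)

theorem quot_dvd_of_dvd_mul (hn : 1 ≤ n) {N0 : ℕ}
    (hN0 : ((q : ℤ) + 1) * N0 = (q : ℤ) ^ n - (-1) ^ n) {k : ℕ} (h : N0 ∣ k * (q + 1)) :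
    N0 / Nat.gcd n (q + 1) ∣ k := by
  rw [← gcd_quot hn hN0]
  refine (Nat.div_dvd_iff_dvd_mul (Nat.gcd_dvd_left _ _)
    (Nat.gcd_pos_of_pos_right _ (by omega))).2 ?_
  rw [mul_comm (Nat.gcd N0 (q + 1)), ← Nat.gcd_mul_left]
  exact Nat.dvd_gcd (dvd_mul_left _ _) h

/-! ### semilinearity of trace and norm -/

theorem trace_map [Fintype F] {K : Type*} [Field K] [Finite K] [Algebra F K] (σ : F ≃+* F)
    (φ : K →+* K) (hφ : ∀ c, φ (algebraMap F K c) = algebraMap F K (σ c)) (x : K) :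
    Algebra.trace F K (φ x) = σ (Algebra.trace F K x) := by
  apply (algebraMap F K).injective
  rw [← hφ, FiniteField.algebraMap_trace_eq_sum_pow, FiniteField.algebraMap_trace_eq_sum_pow,
    map_sum]
  simp only [map_pow]

theorem norm_map [Fintype F] {K : Type*} [Field K] [Finite K] [Algebra F K] (σ : F ≃+* F)
    (φ : K →+* K) (hφ : ∀ c, φ (algebraMap F K c) = algebraMap F K (σ c)) (x : K) :
    Algebra.norm F (φ x) = σ (Algebra.norm F x) := by
  apply (algebraMap F K).injective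
  rw [← hφ, FiniteField.algebraMap_norm_eq_pow_sum, FiniteField.algebraMap_norm_eq_pow_sum,
    map_pow]

theorem norm_prod_eq {A B : Type*} [CommRing A] [CommRing B] [Algebra F A] [Algebra F B]
    [Module.Finite F A] [Module.Finite F B] (x : A × B) :
    Algebra.norm F x = Algebra.norm F x.1 * Algebra.norm F x.2 := by
  rw [Algebra.norm_apply, Algebra.norm_apply, Algebra.norm_apply, ← LinearMap.det_prodMap]
  rfl

theorem pow_odd_pow [Fintype F] (hF : Fintype.card F = q ^ 2) {N : ℕ} (hN : Odd N) (c : F) :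
    c ^ q ^ N = c ^ q := by
  obtain ⟨j, rfl⟩ := hN
  rw [pow_succ' q, pow_mul q, ← hF, pow_mul, FiniteField.pow_card_pow]

variable [Fintype F]

/-! ### the torus of order `(q ^ n - (-1) ^ n) / (q + 1)` -/

theorem exists_torus_odd_aux (K : Type*) [Field K] [Finite K] [Algebra F K] (p a : ℕ)
    [Fact p.Prime] [CharP F p] (hq : q = p ^ a) (hF : Fintype.card F = q ^ 2) (σ : F ≃+* F)
    (hσ : ∀ x, σ x = x ^ q) (hσ2 : orderOf σ = 2) (hn : 3 ≤ n) {ζ : F} (hζ : σ ζ * ζ = 1)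
    (hζ1 : ζ ≠ 1) (hK : Module.finrank F K = n) (hodd : Odd n) (N0 : ℕ)
    (hN0 : ((q : ℤ) + 1) * N0 = (q : ℤ) ^ n - (-1) ^ n) :
    ∃ g : Cfsg.PSU n F q, N0 / Nat.gcd n (q + 1) ∣ orderOf g ∧ orderOf g ∣ N0 := by
  have : FiniteDimensional F K := Module.Finite.of_finite
  have : CharP K p := charP_of_injective_algebraMap (algebraMap F K).injective p
  have : ExpChar K p := ExpChar.prime Fact.out
  have hcard : Nat.card K = (q ^ 2) ^ n := by
    rw [SympSpectra.card_ext (F := F), hF, hK]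
  obtain ⟨τ, hτd⟩ : ∃ τ : K →+* K, ∀ x, τ x = x ^ q ^ n :=
    ⟨iterateFrobenius K p (a * n), fun x => by rw [iterateFrobenius_def, pow_mul, ← hq]⟩
  have hτ : ∀ x, τ (τ x) = x := fun x => by
    rw [hτd, hτd, ← pow_mul, ← sq, ← pow_mul, mul_comm n, pow_mul, ← hcard]
    have : Fintype K := Fintype.ofFinite K
    rw [Nat.card_eq_fintype_card, FiniteField.pow_card]
  have hτl : ∀ c, τ (algebraMap F K c) = algebraMap F K (σ c) := fun c => by
    rw [hτd, ← map_pow, pow_odd_pow hF hodd, hσ]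
  have hq1 : 1 < q := by
    have := Fintype.one_lt_card (α := F)
    rw [hF] at this
    by_contra h
    interval_cases q <;> simp at this
  have hN0' : (q + 1) * N0 = q ^ n + 1 := by
    rw [hodd.neg_one_pow] at hN0
    exact_mod_cast (by linear_combination hN0 : ((q : ℤ) + 1) * N0 = (q : ℤ) ^ n + 1)
  obtain ⟨t, ht⟩ := SympSpectra.exists_field_unit (K := K) (N := N0) (by
    refine (Dvd.intro_left (q + 1) rfl : N0 ∣ (q + 1) * N0).trans ?_
    rw [hN0', hcard, ← pow_mul, mul_comm 2 n, pow_mul]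
    exact ⟨q ^ n - 1, by simpa using Nat.sq_sub_sq (q ^ n) 1⟩)
  have htk : ∀ k, N0 ∣ k → (t : K) ^ k = 1 := fun k hk => by
    rw [← Units.val_pow_eq_pow_val, orderOf_dvd_iff_pow_eq_one.1 (ht.symm ▸ hk), Units.val_one]
  obtain ⟨-, s, -, -, hs⟩ := exists_psu_of_alg σ hσ hσ2 hn hζ hζ1 hK τ hτ hτl (Algebra.trace F K)
    (trace_map σ τ hτl) (fun x hx => (traceForm_nondegenerate F K).1 _ fun y => hx y) (t : K)
    (by rw [hτd, ← pow_succ]; exact htk _ (Dvd.intro_left _ hN0'))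
    (by
      apply (algebraMap F K).injective
      rw [map_one, FiniteField.algebraMap_norm_eq_pow_sum]
      refine htk _ ?_
      rw [Nat.card_eq_fintype_card, hF, hK]
      refine ⟨∑ i ∈ Finset.range n, q ^ i, ?_⟩
      have e : ((∑ i ∈ Finset.range n, (q ^ 2) ^ i : ℕ) : ℤ) * ((q : ℤ) ^ 2 - 1) =
          ((N0 * ∑ i ∈ Finset.range n, q ^ i : ℕ) : ℤ) * ((q : ℤ) ^ 2 - 1) := by
        push_cast
        rw [geom_sum_mul]
        have hz : ((q : ℤ) + 1) * N0 = (q : ℤ) ^ n + 1 := by exact_mod_cast hN0'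
        linear_combination (-(∑ i ∈ Finset.range n, (q : ℤ) ^ i) * ((q : ℤ) - 1)) * hz -
          ((q : ℤ) ^ n + 1) * geom_sum_mul (q : ℤ) n
      exact_mod_cast mul_right_cancel₀ (by nlinarith) e)
  refine ⟨QuotientGroup.mk s, ?_, orderOf_dvd_of_pow_eq_one ((hs _).2 ⟨1, ?_⟩)⟩
  · obtain ⟨c, hc⟩ := (hs _).1 (pow_orderOf_eq_one _)
    refine quot_dvd_of_dvd_mul (by omega) hN0 (ht ▸ orderOf_dvd_of_pow_eq_one (Units.ext ?_))
    rw [Units.val_pow_eq_pow_val, pow_mul, Units.val_one]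
    have e : τ ((t : K) ^ orderOf (QuotientGroup.mk s : Cfsg.PSU n F q)) *
        (t : K) ^ orderOf (QuotientGroup.mk s : Cfsg.PSU n F q) = 1 := by
      rw [map_pow, ← mul_pow, hτd, ← pow_succ, htk _ (Dvd.intro_left _ hN0'), one_pow]
    rw [hc, hτl, ← map_mul, hσ, ← pow_succ] at e
    rw [hc, ← map_pow, e]
  · rw [map_one, htk _ dvd_rfl]

theorem exists_torus_even_aux (K : Type*) [Field K] [Finite K] [Algebra F K] (p a : ℕ)
    [Fact p.Prime] [CharP F p] (hq : q = p ^ a) (hF : Fintype.card F = q ^ 2) (σ : F ≃+* F)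
    (hσ : ∀ x, σ x = x ^ q) (hσ2 : orderOf σ = 2) (hn : 3 ≤ n) {ζ : F} (hζ : σ ζ * ζ = 1)
    (hζ1 : ζ ≠ 1) {k : ℕ} (hK : Module.finrank F K = k) (hk : n = 2 * k) (N0 : ℕ)
    (hN0 : ((q : ℤ) + 1) * N0 = (q : ℤ) ^ n - (-1) ^ n) :
    ∃ g : Cfsg.PSU n F q, N0 / Nat.gcd n (q + 1) ∣ orderOf g ∧ orderOf g ∣ N0 := by
  have : FiniteDimensional F K := Module.Finite.of_finite
  have : CharP K p := charP_of_injective_algebraMap (algebraMap F K).injective p
  have : ExpChar K p := ExpChar.prime Fact.out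
  have hcard : Nat.card K = q ^ n := by
    rw [SympSpectra.card_ext (F := F), hF, hK, ← pow_mul, hk]
  have hid : ∀ x : K, x ^ q ^ n = x := fun x => by
    have : Fintype K := Fintype.ofFinite K
    rw [← hcard, Nat.card_eq_fintype_card, FiniteField.pow_card]
  obtain ⟨φ, hφd⟩ : ∃ φ : K →+* K, ∀ x, φ x = x ^ q :=
    ⟨iterateFrobenius K p a, fun x => by rw [iterateFrobenius_def, ← hq]⟩
  obtain ⟨ψ, hψd⟩ : ∃ ψ : K →+* K, ∀ x, ψ x = x ^ q ^ (n - 1) :=
    ⟨iterateFrobenius K p (a * (n - 1)), fun x => by rw [iterateFrobenius_def, pow_mul, ← hq]⟩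
  have hφψ : ∀ x, φ (ψ x) = x := fun x => by
    rw [hφd, hψd, ← pow_mul, ← pow_succ, Nat.sub_add_cancel (by omega : 1 ≤ n), hid]
  have hψφ : ∀ x, ψ (φ x) = x := fun x => by
    rw [hφd, hψd, ← pow_mul, ← pow_succ', Nat.sub_add_cancel (by omega : 1 ≤ n), hid]
  have hφl : ∀ c, φ (algebraMap F K c) = algebraMap F K (σ c) := fun c => by
    rw [hφd, ← map_pow, hσ]
  have hψl : ∀ c, ψ (algebraMap F K c) = algebraMap F K (σ c) := fun c => by
    rw [hψd, ← map_pow, pow_odd_pow hF (⟨k - 1, by omega⟩ : Odd (n - 1)), hσ]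
  obtain ⟨τ, hτd⟩ : ∃ τ : K × K →+* K × K, ∀ x, τ x = (φ x.2, ψ x.1) :=
    ⟨(φ.comp (RingHom.snd K K)).prod (ψ.comp (RingHom.fst K K)), fun x => rfl⟩
  have hN0' : ((q : ℤ) + 1) * N0 = ((q : ℤ) ^ 2) ^ k - 1 := by
    rw [← pow_mul, ← hk, hN0, (show Even n from ⟨k, by omega⟩).neg_one_pow]
  have hsum : (∑ i ∈ Finset.range k, (q ^ 2) ^ i) * (q - 1) = N0 := by
    have hq1 : 1 ≤ q := hq ▸ Nat.one_le_pow _ _ (Fact.out : p.Prime).pos
    have e : (((∑ i ∈ Finset.range k, (q ^ 2) ^ i) * (q - 1) : ℕ) : ℤ) * ((q : ℤ) + 1) =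
        (N0 : ℤ) * ((q : ℤ) + 1) := by
      push_cast [Nat.cast_sub hq1]
      linear_combination geom_sum_mul ((q : ℤ) ^ 2) k - hN0'
    exact_mod_cast mul_right_cancel₀ (by omega) e
  obtain ⟨t, ht⟩ := SympSpectra.exists_field_unit (K := K) (N := N0) (by
    refine ⟨q + 1, ?_⟩
    have : ((q ^ n : ℕ) : ℤ) = ((N0 * (q + 1) + 1 : ℕ) : ℤ) := by
      push_cast
      rw [hk, pow_mul]
      linear_combination -hN0'
    rw [hcard, (by exact_mod_cast this : q ^ n = N0 * (q + 1) + 1), Nat.add_sub_cancel])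
  have htk : ∀ j, N0 ∣ j → (t : K) ^ j = 1 := fun j hj => by
    rw [← Units.val_pow_eq_pow_val, orderOf_dvd_iff_pow_eq_one.1 (ht.symm ▸ hj), Units.val_one]
  have ht0 : (t : K) ≠ 0 := t.ne_zero
  obtain ⟨u, hud⟩ : ∃ u : K × K, u = ((t : K), ψ ((t : K)⁻¹)) := ⟨_, rfl⟩
  have hNt : σ (Algebra.norm F (t : K)) = Algebra.norm F (t : K) := by
    apply (algebraMap F K).injective
    rw [hσ, map_pow, FiniteField.algebraMap_norm_eq_pow_sum, Nat.card_eq_fintype_card, hF, hK]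
    have hq1 : q = q - 1 + 1 := by
      have : 1 ≤ q := hq ▸ Nat.one_le_pow _ _ (Fact.out : p.Prime).pos
      omega
    rw [← pow_mul, hq1, Nat.mul_succ, ← hq1, pow_add, htk _ (dvd_of_eq hsum.symm), one_mul]
  have hτu : τ u * u = 1 := by
    rw [hτd, hud]
    exact Prod.ext (show φ (ψ (t : K)⁻¹) * (t : K) = 1 by rw [hφψ, inv_mul_cancel₀ ht0])
      (show ψ (t : K) * ψ (t : K)⁻¹ = 1 by rw [← map_mul, mul_inv_cancel₀ ht0, map_one])
  obtain ⟨-, s, -, -, hs⟩ := exists_psu_of_alg σ hσ hσ2 hn hζ hζ1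
    (by rw [Module.finrank_prod, hK]; omega : Module.finrank F (K × K) = n) τ
    (fun x => by simp [hτd, hφψ, hψφ])
    (fun c => by
      rw [hτd]
      exact Prod.ext (hφl c) (hψl c))
    ((Algebra.trace F K).coprod (Algebra.trace F K))
    (fun x => by simp [hτd, trace_map σ φ hφl, trace_map σ ψ hψl, add_comm])
    (fun x hx => Prod.ext ((traceForm_nondegenerate F K).1 _ fun z => by simpa using hx (z, 0))
      ((traceForm_nondegenerate F K).1 _ fun z => by simpa using hx (0, z))) u hτu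
    (by rw [norm_prod_eq, hud, norm_map σ ψ hψl, ← hNt, ← map_mul, ← map_mul,
      mul_inv_cancel₀ ht0, map_one, map_one])
  refine ⟨QuotientGroup.mk s, ?_, orderOf_dvd_of_pow_eq_one ((hs _).2 ⟨1, ?_⟩)⟩
  · obtain ⟨c, hc⟩ := (hs _).1 (pow_orderOf_eq_one _)
    refine quot_dvd_of_dvd_mul (by omega) hN0 (ht ▸ orderOf_dvd_of_pow_eq_one (Units.ext ?_))
    rw [Units.val_pow_eq_pow_val, pow_mul, Units.val_one]
    have e : τ (u ^ orderOf (QuotientGroup.mk s : Cfsg.PSU n F q)) *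
        u ^ orderOf (QuotientGroup.mk s : Cfsg.PSU n F q) = 1 := by
      rw [map_pow, ← mul_pow, hτu, one_pow]
    rw [hc, hτd] at e
    have e1 := congrArg Prod.fst e
    have h1 := congrArg Prod.fst hc
    rw [hud] at h1
    simp only [Prod.pow_fst, Prod.algebraMap_apply] at h1
    simp only [Prod.fst_mul, Prod.algebraMap_apply, Prod.fst_one, hφl] at e1
    rw [← map_mul, hσ, ← pow_succ] at e1
    rw [h1, ← map_pow, e1]
  · rw [map_one, hud]
    refine Prod.ext (htk _ dvd_rfl) ?_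
    show ψ (t : K)⁻¹ ^ N0 = 1
    rw [← map_pow, inv_pow, htk _ dvd_rfl, inv_one, map_one]

/-- An element of the torus of order `(q ^ n - (-1) ^ n) / (q + 1)`. -/
theorem exists_torus (p a : ℕ) [Fact p.Prime] [CharP F p] (hq : q = p ^ a)
    (hF : Fintype.card F = q ^ 2) (σ : F ≃+* F) (hσ : ∀ x, σ x = x ^ q) (hσ2 : orderOf σ = 2)
    (hn : 3 ≤ n) {ζ : F} (hζ : σ ζ * ζ = 1) (hζ1 : ζ ≠ 1) (N0 : ℕ)
    (hN0 : ((q : ℤ) + 1) * N0 = (q : ℤ) ^ n - (-1) ^ n) :
    ∃ g : Cfsg.PSU n F q, N0 / Nat.gcd n (q + 1) ∣ orderOf g ∧ orderOf g ∣ N0 := by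
  rcases Nat.even_or_odd' n with ⟨k, hk | hk⟩
  · have : NeZero k := ⟨by omega⟩
    exact exists_torus_even_aux (FiniteField.Extension F p k) p a hq hF σ hσ hσ2 hn hζ hζ1
      (FiniteField.finrank_extension F p k) hk N0 hN0
  · have : NeZero n := ⟨by omega⟩
    exact exists_torus_odd_aux (FiniteField.Extension F p n) p a hq hF σ hσ hσ2 hn hζ hζ1
      (FiniteField.finrank_extension F p n) ⟨k, hk⟩ N0 hN0

/-! ### regular unipotent elements -/

omit [Fintype F] in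
theorem exists_unipotent_block (p : ℕ) [Fact p.Prime] [CharP F p] (σ : F ≃+* F)
    (hσσ : ∀ x, σ (σ x) = x) {μ : F} (hμ : σ μ ≠ μ) {m : ℕ} (hm : 1 ≤ m) :
    ∃ (τ : AdjoinRoot (X ^ m : F[X]) →+* AdjoinRoot (X ^ m : F[X]))
      (ℓ : AdjoinRoot (X ^ m : F[X]) →ₗ[F] F) (u : (AdjoinRoot (X ^ m : F[X]))ˣ),
      (∀ x, τ (τ x) = x) ∧
      (∀ c, τ (algebraMap F _ c) = algebraMap F (AdjoinRoot (X ^ m : F[X])) (σ c)) ∧
      (∀ x, ℓ (τ x) = σ (ℓ x)) ∧ (∀ x, (∀ y, ℓ (x * y) = 0) → x = 0) ∧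
      τ (u : AdjoinRoot (X ^ m : F[X])) * u = 1 ∧ orderOf u = p ^ Nat.clog p m := by
  have hp : p.Prime := Fact.out
  obtain ⟨R, hR⟩ : ∃ R : F[X], R = X ^ m := ⟨_, rfl⟩
  rw [← hR]
  have hmon : R.Monic := hR ▸ monic_X_pow _
  have : Nontrivial (AdjoinRoot R) := AdjoinRoot.nontrivial _ (by
    rw [hR, degree_X_pow]; exact_mod_cast (by omega : m ≠ 0))
  have : CharP (AdjoinRoot R) p :=
    charP_of_injective_algebraMap (algebraMap F (AdjoinRoot R)).injective p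
  have hη : (AdjoinRoot.root R) ^ m = 0 := by
    have h := AdjoinRoot.mk_self (f := R)
    conv_lhs at h => arg 2; rw [hR]
    simpa using h
  have hdv : R ∣ R.map σ.toRingHom := by rw [hR]; simp
  obtain ⟨τ, hτd⟩ : ∃ τ : AdjoinRoot R →+* AdjoinRoot R,
      τ = AdjoinRoot.map σ.toRingHom R R hdv := ⟨_, rfl⟩
  have hτr : τ (AdjoinRoot.root R) = AdjoinRoot.root R := by simp [hτd]
  have hτl : ∀ c, τ (algebraMap F _ c) = algebraMap F (AdjoinRoot R) (σ c) := fun c => by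
    rw [AdjoinRoot.algebraMap_eq]; simp [hτd]
  have hτmk : ∀ P : F[X], τ (AdjoinRoot.mk R P) = AdjoinRoot.mk R (P.map σ.toRingHom) := by
    intro P
    induction P using Polynomial.induction_on' with
    | add a b ha hb => rw [map_add, map_add, Polynomial.map_add, map_add, ha, hb]
    | monomial i c =>
      rw [Polynomial.map_monomial, ← C_mul_X_pow_eq_monomial, ← C_mul_X_pow_eq_monomial]
      simp only [map_mul, map_pow, AdjoinRoot.mk_C, AdjoinRoot.mk_X, hτr]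
      rw [← AdjoinRoot.algebraMap_eq, hτl]
      rfl
  have hττ : ∀ x, τ (τ x) = x := by
    intro x
    induction x using AdjoinRoot.induction_on with
    | ih P =>
      rw [hτmk, hτmk, Polynomial.map_map]
      congr 1
      rw [show σ.toRingHom.comp σ.toRingHom = RingHom.id F from RingHom.ext hσσ, Polynomial.map_id]
  let ℓ : AdjoinRoot R →ₗ[F] F := (lcoeff F (m - 1)).comp (AdjoinRoot.modByMonicHom hmon)
  have hℓmk : ∀ P : F[X], ℓ (AdjoinRoot.mk R P) = P.coeff (m - 1) := by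
    intro P
    show (AdjoinRoot.modByMonicHom hmon (AdjoinRoot.mk R P)).coeff (m - 1) = _
    rw [AdjoinRoot.modByMonicHom_mk, modByMonic_eq_sub_mul_div, coeff_sub]
    have : (R * (P /ₘ R)).coeff (m - 1) = 0 := by
      conv_lhs => arg 1; arg 1; rw [hR]
      rw [mul_comm, coeff_mul_X_pow']
      simp; omega
    rw [this, sub_zero]
  have hunit : ∀ c : F, IsUnit (1 + algebraMap F (AdjoinRoot R) c * AdjoinRoot.root R) := fun c =>
    IsNilpotent.isUnit_one_add ⟨m, by rw [mul_pow, hη, mul_zero]⟩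
  obtain ⟨v, hv⟩ := hunit μ
  obtain ⟨w, hw⟩ := hunit (σ μ)
  refine ⟨τ, ℓ, v * w⁻¹, hττ, hτl, ?_, ?_, ?_, ?_⟩
  · intro x
    induction x using AdjoinRoot.induction_on with
    | ih P => rw [hτmk, hℓmk, hℓmk, coeff_map]; rfl
  · intro x hx
    induction x using AdjoinRoot.induction_on with
    | ih P =>
      rw [AdjoinRoot.mk_eq_zero, hR, X_pow_dvd_iff]
      intro i hi
      have h := hx (AdjoinRoot.mk R (X ^ (m - 1 - i)))
      rw [← map_mul, hℓmk, coeff_mul_X_pow', if_pos (by omega)] at h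
      rwa [show m - 1 - (m - 1 - i) = i by omega] at h
  · have e1 : τ (v : AdjoinRoot R) = w := by rw [hv, map_add, map_one, map_mul, hτl, hτr, hw]
    have e2 : τ (w : AdjoinRoot R) = v := by
      rw [hw, map_add, map_one, map_mul, hτl, hτr, hσσ, hv]
    have e3 : τ ((w⁻¹ : (AdjoinRoot R)ˣ) : AdjoinRoot R) = (v⁻¹ : (AdjoinRoot R)ˣ) := by
      apply v.isUnit.mul_left_cancel
      rw [Units.mul_inv, ← e2, ← map_mul, Units.mul_inv, map_one]
    rw [Units.val_mul, map_mul, e1, e3]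
    rw [show (w : AdjoinRoot R) * ↑v⁻¹ * (↑v * ↑w⁻¹) = (↑v * ↑v⁻¹) * (↑w * ↑w⁻¹) by ring,
      Units.mul_inv, Units.mul_inv, one_mul]
  · have hiff : ∀ j, (v * w⁻¹) ^ p ^ j = 1 ↔ m ≤ p ^ j := by
      intro j
      rw [mul_pow, inv_pow, mul_inv_eq_one, ← Units.val_inj, Units.val_pow_eq_pow_val,
        Units.val_pow_eq_pow_val, hv, hw, ← sub_eq_zero, ← sub_pow_char_pow]
      rw [show ∀ x : AdjoinRoot R, 1 + algebraMap F _ μ * x - (1 + algebraMap F _ (σ μ) * x) =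
        algebraMap F _ (μ - σ μ) * x from fun x => by rw [map_sub]; ring, mul_pow, ← map_pow,
        (IsUnit.map (algebraMap F (AdjoinRoot R))
          (Ne.isUnit (pow_ne_zero _ (sub_ne_zero.2 (Ne.symm hμ))))).mul_right_eq_zero,
        show AdjoinRoot.root R = AdjoinRoot.mk R X from rfl, ← map_pow, AdjoinRoot.mk_eq_zero]
      conv_lhs => arg 1; rw [hR]
      refine ⟨fun h => ?_, fun h => pow_dvd_pow X h⟩
      simpa using natDegree_le_of_dvd h (pow_ne_zero _ X_ne_zero)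
    obtain ⟨j, hj, hord⟩ := (Nat.dvd_prime_pow hp).mp
      (orderOf_dvd_of_pow_eq_one ((hiff _).mpr (Nat.le_pow_clog hp.one_lt m)))
    have hmj := (hiff j).mp (hord ▸ pow_orderOf_eq_one (v * w⁻¹))
    rw [hord, le_antisymm hj (Nat.clog_le_of_le_pow hmj)]

/-- The class of a unit of `p`-power order has the same order. -/
theorem exists_psu_unipotent_of_alg (p : ℕ) [Fact p.Prime] [CharP F p] (σ : F ≃+* F)
    (hσ : ∀ x, σ x = x ^ q) (hσ2 : orderOf σ = 2) (hn : 3 ≤ n) {ζ : F} (hζ : σ ζ * ζ = 1)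
    (hζ1 : ζ ≠ 1) {A : Type*} [CommRing A] [Nontrivial A] [Algebra F A] [Module.Finite F A]
    (hd : Module.finrank F A = n) (τ : A →+* A) (hτ : ∀ x, τ (τ x) = x)
    (hτl : ∀ c, τ (algebraMap F A c) = algebraMap F A (σ c)) (ℓ : A →ₗ[F] F)
    (hℓ : ∀ x, ℓ (τ x) = σ (ℓ x)) (hnd : ∀ x, (∀ y, ℓ (x * y) = 0) → x = 0) (u : Aˣ)
    (hu : τ (u : A) * u = 1) {T : ℕ} (hord : orderOf u = p ^ T) :
    ∃ (b : Module.Basis (Fin n) F A) (s : Cfsg.SU n F q),
      ((s : Matrix.SpecialLinearGroup (Fin n) F) : Matrix (Fin n) (Fin n) F) =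
        Algebra.leftMulMatrix b (u : A) ∧
      (∀ x, adj σ (Algebra.leftMulMatrix b x) = Algebra.leftMulMatrix b (τ x)) ∧
      orderOf (QuotientGroup.mk s : Cfsg.PSU n F q) = p ^ T := by
  have hu1 : (u : A) ^ p ^ T = 1 := by
    rw [← hord, ← Units.val_pow_eq_pow_val, pow_orderOf_eq_one, Units.val_one]
  obtain ⟨b, s, hs, hb, hk⟩ := exists_psu_of_alg σ hσ hσ2 hn hζ hζ1 hd τ hτ hτl ℓ hℓ hnd (u : A)
    hu (Spectra.eq_one_of_pow_char_pow p (T := T) (by rw [← map_pow, hu1, map_one]))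
  refine ⟨b, s, hs, hb, SympSpectra.orderOf_eq_of_forall fun k => ?_⟩
  rw [hk, ← hord, orderOf_dvd_iff_pow_eq_one, ← Units.val_inj, Units.val_pow_eq_pow_val,
    Units.val_one]
  refine ⟨?_, fun h => ⟨1, by rw [h, map_one]⟩⟩
  rintro ⟨c, hc⟩
  have : c = 1 := Spectra.eq_one_of_pow_char_pow p (T := T) ((algebraMap F A).injective (by
    rw [map_pow, ← hc, ← pow_mul, mul_comm, pow_mul, hu1, one_pow, map_one]))
  rw [hc, this, map_one]

/-- A regular unipotent element. -/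
theorem exists_unipotent (p : ℕ) [Fact p.Prime] [CharP F p] (σ : F ≃+* F)
    (hσ : ∀ x, σ x = x ^ q) (hσ2 : orderOf σ = 2) (hσσ : ∀ x, σ (σ x) = x) {μ : F} (hμ : σ μ ≠ μ)
    (hn : 3 ≤ n) {ζ : F} (hζ : σ ζ * ζ = 1) (hζ1 : ζ ≠ 1) :
    ∃ g : Cfsg.PSU n F q, orderOf g = p ^ Nat.clog p n := by
  obtain ⟨τ, ℓ, u, hτ, hτl, hℓ, hnd, hu, hord⟩ :=
    exists_unipotent_block p σ hσσ hμ (m := n) (by omega)
  have : Module.Finite F (AdjoinRoot (X ^ n : F[X])) := (monic_X_pow _).finite_adjoinRoot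
  have : Nontrivial (AdjoinRoot (X ^ n : F[X])) := AdjoinRoot.nontrivial _ (by
    rw [degree_X_pow]; exact_mod_cast (by omega : n ≠ 0))
  obtain ⟨-, s, -, -, hs⟩ := exists_psu_unipotent_of_alg p σ hσ hσ2 hn hζ hζ1
    (Spectra.finrank_adjoinRoot_X_pow n) τ hτ hτl ℓ hℓ hnd u hu hord
  exact ⟨_, hs⟩

/-- A unipotent element of order `p ^ ⌈log_p (n - 1)⌉` times an element of order `r`. -/
theorem exists_mixed (p : ℕ) [Fact p.Prime] [CharP F p] (σ : F ≃+* F)
    (hσ : ∀ x, σ x = x ^ q) (hσ2 : orderOf σ = 2) (hσσ : ∀ x, σ (σ x) = x) {μ : F} (hμ : σ μ ≠ μ)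
    (hn : 3 ≤ n) {ζ : F} (hζ : σ ζ * ζ = 1) (hζ1 : ζ ≠ 1) {r : ℕ} (hr : r.Prime)
    (hrq : r ∣ q + 1) (hζr : ζ ^ r = 1) (hrn : ¬ r ∣ n) (hrp : r.Coprime p) :
    ∃ g : Cfsg.PSU n F q, orderOf g = r * p ^ Nat.clog p (n - 1) := by
  obtain ⟨τ, ℓ, w, hτ, hτl, hℓ, hnd, hw, hord⟩ :=
    exists_unipotent_block p σ hσσ hμ (m := n - 1) (by omega)
  have : Module.Finite F (AdjoinRoot (X ^ (n - 1) : F[X])) := (monic_X_pow _).finite_adjoinRoot
  have : Nontrivial (AdjoinRoot (X ^ (n - 1) : F[X])) := AdjoinRoot.nontrivial _ (by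
    rw [degree_X_pow]; exact_mod_cast (by omega : n - 1 ≠ 0))
  obtain ⟨T, hTd⟩ : ∃ T : AdjoinRoot (X ^ (n - 1) : F[X]) × F →+*
      AdjoinRoot (X ^ (n - 1) : F[X]) × F, ∀ x, T x = (τ x.1, σ x.2) :=
    ⟨(τ.comp (RingHom.fst _ F)).prod (σ.toRingHom.comp (RingHom.snd _ F)), fun x => rfl⟩
  obtain ⟨b, s, hs, hb, hso⟩ := exists_psu_unipotent_of_alg p σ hσ hσ2 hn hζ hζ1
    (by rw [Module.finrank_prod, Spectra.finrank_adjoinRoot_X_pow, Module.finrank_self]; omega :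
      Module.finrank F (AdjoinRoot (X ^ (n - 1) : F[X]) × F) = n) T
    (fun x => by simp [hTd, hτ, hσσ]) (fun c => by rw [hTd]; exact Prod.ext (hτl c) rfl)
    (ℓ.coprod LinearMap.id) (fun x => by simp [hTd, hℓ])
    (fun x hx => Prod.ext (hnd _ fun y => by simpa using hx (y, 0)) (by simpa using hx (0, 1)))
    (MulEquiv.prodUnits.symm (w, 1))
    (by rw [hTd]; exact Prod.ext hw (by simp [MulEquiv.prodUnits]))
    (T := Nat.clog p (n - 1))
    (by rw [MulEquiv.orderOf_eq, Prod.orderOf, orderOf_one, Nat.lcm_one_right, hord])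
  obtain ⟨E, hE⟩ : ∃ E, E = Algebra.leftMulMatrix b ((0, 1) : AdjoinRoot (X ^ (n - 1) : F[X]) × F) :=
    ⟨_, rfl⟩
  obtain ⟨z, hzs, hz⟩ := exists_commute_orderOf σ hσ hn hζ hζ1 hr hrq hζr hrn s E
    (by rw [hE, ← map_mul]; simp) (by rw [hE, hb, hTd]; simp)
    (by
      intro h
      have := Algebra.leftMulMatrix_injective b
        ((hE ▸ h).trans (map_zero (Algebra.leftMulMatrix b)).symm)
      exact one_ne_zero (congrArg Prod.snd this))
    (by
      intro h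
      have := Algebra.leftMulMatrix_injective b
        ((hE ▸ h).trans (map_one (Algebra.leftMulMatrix b)).symm)
      exact zero_ne_one (congrArg Prod.fst this))
    (by rw [hs, hE]; exact (Commute.all _ _).map (Algebra.leftMulMatrix b))
  refine ⟨z * QuotientGroup.mk s, ?_⟩
  have hcop : (orderOf z).Coprime (orderOf (QuotientGroup.mk s : Cfsg.PSU n F q)) := by
    rw [hz, hso]; exact Nat.Coprime.pow_right _ hrp
  rw [hzs.orderOf_mul_eq_mul_orderOf_of_coprime hcop, hz, hso]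

end Cfsg.Agent.UnitarySpectra
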