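import Cfsg.Agent.Lib.Spectra.SkewTransfer
import Cfsg.Agent.Lib.Orthogonal.POmega

/-!
The prime graphs of the simple groups of types `B_n` and `C_n` over a field of odd order coincide.
-/

set_option autoImplicit false

namespace Cfsg.Agent.PrimeGraphBC

open Module QuadraticMap SkewTransfer
open Cfsg.Agent.Orth (oGroup qOdd qSq SpinVal reflVal)
open Cfsg.Agent.Transvec (mv)
open LinearMap (BilinForm)

theorem finite_aut (R V : Type*) [Semiring R] [AddCommMonoid V] [Module R V] [Finite V] : Finite (V ≃ₗ[R] V) :=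
  Finite.of_injective (fun g : V ≃ₗ[R] V => (g : V → V)) DFunLike.coe_injective

theorem orderOf_two_mul {G : Type*} [Monoid G] {x : G} {s : ℕ} (hs : s.Prime) (h : x ^ (2 * s) = 1)
    (h2 : x ^ 2 ≠ 1) (hx : x ^ s ≠ 1) : orderOf x = 2 * s := by
  obtain ⟨a, b, ha, hb, hab⟩ := Nat.dvd_mul.1 (orderOf_dvd_of_pow_eq_one h)
  rcases (Nat.dvd_prime Nat.prime_two).1 ha with rfl | rfl
  · exact absurd (orderOf_dvd_iff_pow_eq_one.1 (by rw [← hab, one_mul]; exact hb)) hx
  · rcases (Nat.dvd_prime hs).1 hb with rfl | rfl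
    · exact absurd (orderOf_dvd_iff_pow_eq_one.1 (by rw [← hab])) h2
    · exact hab.symm

theorem pow_eq_self_of_odd {G : Type*} [Monoid G] {x : G} (h : x * x = 1) {m : ℕ} (hm : Odd m) : x ^ m = x := by
  obtain ⟨k, rfl⟩ := hm
  rw [pow_succ, pow_mul, pow_two, h, one_pow, one_mul]

variable {F : Type*} [Field F]

theorem spin_mul_self (x : SpinVal F) : x * x = 1 := by
  obtain ⟨a, b⟩ := x
  refine Prod.ext ?_ ?_
  · show a * a = 1
    revert a
    decide
  · show b * b = 1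
    induction b using QuotientGroup.induction_on with
    | H u => rw [← QuotientGroup.mk_mul, QuotientGroup.eq_one_iff]; exact ⟨u, pow_two u⟩

theorem spin_eq_one_of_odd {G : Type*} [Group G] (χ : G →* SpinVal F) {g : G} (h : Odd (orderOf g)) : χ g = 1 := by
  rw [← pow_eq_self_of_odd (x := χ g) (spin_mul_self _) h, ← map_pow, pow_orderOf_eq_one, map_one]

section Forms

variable {V : Type*} [AddCommGroup V] [Module F V] [FiniteDimensional F V]

theorem href_alt {B : BilinForm F V} (hA : B.IsAlt) (x y : V) (h : B x y = 0) : B y x = 0 := by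
  rw [AltForm.swap hA, h, neg_zero]

theorem symm_of_alt {B : BilinForm F V} (hA : B.IsAlt) {t : V ≃ₗ[F] V} (ht : t ∈ AltForm.isoGroup B) (u v : V) :
    skew B t v u = skew B t u v := by
  rw [skew_swap (ε := (-1 : F)) (fun u v => by rw [AltForm.swap hA, neg_one_mul]) ht u v, neg_neg, one_mul]

theorem exists_half [Fintype F] {B : BilinForm F V} (hA : B.IsAlt) (hB : ∀ x, (∀ y, B x y = 0) → x = 0) :
    ∃ a, finrank F V = 2 * a := by
  have h := PrimeGraphSp.even_finrank hA (W := (⊤ : Submodule F V)) fun w _ h => hB w fun v => h v trivial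
  rwa [finrank_top] at h

theorem neg_mul_neg : (LinearEquiv.neg F : V ≃ₗ[F] V) * LinearEquiv.neg F = 1 :=
  LinearEquiv.ext fun v => neg_neg v

theorem neg_pow_odd {m : ℕ} (hm : Odd m) : (LinearEquiv.neg F : V ≃ₗ[F] V) ^ m = LinearEquiv.neg F :=
  pow_eq_self_of_odd neg_mul_neg hm

theorem neg_ne_one (h2 : (2 : F) ≠ 0) (h : 0 < finrank F V) : (LinearEquiv.neg F : V ≃ₗ[F] V) ≠ 1 := by
  intro e
  haveI : Nontrivial V := Module.finrank_pos_iff.1 h
  obtain ⟨v, hv⟩ := exists_ne (0 : V)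
  have h' : -v = v := LinearEquiv.congr_fun e v
  have : (2 : F) • v = 0 := by rw [two_smul]; exact eq_neg_iff_add_eq_zero.1 h'.symm
  exact hv ((smul_eq_zero.1 this).resolve_left h2)

theorem free_of_fix {t : V ≃ₗ[F] V} {r : ℕ} (hro : Odd r) (htr : t ^ r = 1) (hfix : ∀ x, t x = x → x = 0) :
    ∀ x, t x = t.symm x → x = 0 := by
  intro x hx
  have h2 : t (t x) = x := by rw [hx, LinearEquiv.apply_symm_apply]
  have key : ∀ j : ℕ, (t ^ (2 * j)) x = x := fun j => by
    induction j with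
    | zero => rfl
    | succ j ih => rw [mul_add, mul_one, pow_add, LinearEquiv.mul_apply, pow_two, LinearEquiv.mul_apply, h2, ih]
  obtain ⟨j, rfl⟩ := hro
  refine hfix x ?_
  have := LinearEquiv.congr_fun htr x
  rwa [pow_succ', LinearEquiv.mul_apply, key] at this

variable [Fintype F]

/-- An element of an isometry group of an alternating form of small dimension divides a smaller group. -/
theorem dvd_of_alt {B : BilinForm F V} (hA : B.IsAlt) (hB : ∀ x, (∀ y, B x y = 0) → x = 0) {g : V ≃ₗ[F] V}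
    (hg : g ∈ AltForm.isoGroup B) {m : ℕ} (hm : finrank F V ≤ 2 * m) :
    orderOf g ∣ Nat.card (Matrix.symplecticGroup (Fin m) F) := by
  obtain ⟨a, ha⟩ := exists_half hA hB
  obtain ⟨A, hA'⟩ := PrimeGraphSp.exists_sp_of_isometry hA hB ha g hg
  obtain ⟨C, hC⟩ := PrimeGraphSp.exists_sp_lcm (a := a) (b := m - a) (m := m) (by omega) A
    (1 : Matrix.symplecticGroup (Fin (m - a)) F)
  rw [orderOf_one, Nat.lcm_one_right, hA'] at hC
  exact hC ▸ orderOf_dvd_natCard C

/-- An involution commuting with a fixed-point-free element of a large prime order is scalar. -/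
theorem invol_eq (h2 : (2 : F) ≠ 0) {B : BilinForm F V} (hA : B.IsAlt) (hB : ∀ x, (∀ y, B x y = 0) → x = 0)
    {t z : V ≃ₗ[F] V} (ht : t ∈ AltForm.isoGroup B) {s n : ℕ} (hn : finrank F V ≤ 2 * n) (hs : s.Prime)
    (hts : t ^ s = 1) (hfix : ∀ x, t x = x → x = 0)
    (hnd : ¬ s ∣ Nat.card (Matrix.symplecticGroup (Fin (n - 1)) F)) (hz : z ∈ AltForm.isoGroup B)
    (hc : Commute z t) (hz2 : z * z = 1) : z = 1 ∨ z = LinearEquiv.neg F := by
  obtain ⟨hcompl, hX, hW⟩ := split hB (href_alt hA) hz (r := 2) (by exact_mod_cast h2) (by rw [pow_two, hz2])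
  by_cases hW0 : movW z = ⊥
  · left
    refine LinearEquiv.ext fun v => ?_
    have h : ((z : Module.End F V) - 1) v ∈ movW z := ⟨v, rfl⟩
    rw [hW0, Submodule.mem_bot, LinearMap.sub_apply, Module.End.one_apply, sub_eq_zero] at h
    exact h
  by_cases hX0 : fixX z = ⊥
  · right
    refine LinearEquiv.ext fun v => ?_
    have hv : v ∈ movW z := by
      have := hcompl.sup_eq_top
      rw [hX0, bot_sup_eq] at this
      exact this.symm ▸ Submodule.mem_top
    obtain ⟨y, rfl⟩ := hv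
    show z (z y - y) = -(z y - y)
    rw [map_sub, ← LinearEquiv.mul_apply, hz2]
    show y - z y = _
    abel
  exfalso
  have hsum := Submodule.finrank_add_eq_of_isCompl hcompl
  have hW1 : finrank F (movW z) ≠ 0 := fun h => hW0 (Submodule.finrank_eq_zero.1 h)
  obtain ⟨a, ha⟩ := exists_half (B := formOn B (fixX z)) (fun x => hA x) hX
  obtain ⟨b, hb⟩ := exists_half (B := formOn B (movW z)) (fun x => hA x) hW
  have htU := presX hc.symm
  refine hnd ?_
  have hord : orderOf (restrE (fixX z) t htU) = s := by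
    haveI : Fact s.Prime := ⟨hs⟩
    refine orderOf_eq_prime (LinearEquiv.ext fun u => Subtype.ext (by rw [restrE_pow, hts]; rfl)) fun h => ?_
    obtain ⟨x, hx, hx0⟩ := Submodule.exists_mem_ne_zero_of_ne_bot hX0
    exact hx0 (hfix x (congrArg Subtype.val (LinearEquiv.congr_fun h ⟨x, hx⟩)))
  rw [← hord]
  exact dvd_of_alt (B := formOn B (fixX z)) (fun x => hA x) hX (restrE_mem ht htU) (by omega)

end Forms

section PSp

variable [Fintype F] {V : Type*} [AddCommGroup V] [Module F V] [FiniteDimensional F V]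

/-- An element of order `2 s` of the projective symplectic group. -/
theorem exists_psp_two_mul {B : BilinForm F V} (hA : B.IsAlt) (hB : ∀ x, (∀ y, B x y = 0) → x = 0) {n s : ℕ}
    (hn : 1 ≤ n) (hV : finrank F V = 2 * n) (hs : s.Prime) {g : V ≃ₗ[F] V} (hg : g ∈ AltForm.isoGroup B)
    (h : g ^ (2 * s) = 1 ∨ g ^ (2 * s) = LinearEquiv.neg F) (h2' : g ^ 2 ≠ 1 ∧ g ^ 2 ≠ LinearEquiv.neg F)
    (hgs : g ^ s ≠ 1 ∧ g ^ s ≠ LinearEquiv.neg F) : ∃ x : Cfsg.PSp n F, orderOf x = 2 * s := by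
  obtain ⟨Ψ, hΨ⟩ := exists_equiv_sp hA hB hV
  have key : ∀ k : ℕ, (QuotientGroup.mk (Ψ ⟨g, hg⟩) : Cfsg.PSp n F) ^ k = 1 ↔
      g ^ k = 1 ∨ g ^ k = LinearEquiv.neg F := fun k => by
    rw [← QuotientGroup.mk_pow, SympSpectra.mk_eq_one_iff hn, ← map_pow, hΨ]
    refine or_congr ?_ ⟨fun h => LinearEquiv.ext fun v => h v, fun h v => LinearEquiv.congr_fun h v⟩
    rw [show (1 : Matrix (Fin n ⊕ Fin n) (Fin n ⊕ Fin n) F) = ((1 : Matrix.symplecticGroup (Fin n) F) :
      Matrix (Fin n ⊕ Fin n) (Fin n ⊕ Fin n) F) from rfl, SetLike.coe_eq_coe, map_eq_one_iff _ Ψ.injective]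
    exact Subtype.ext_iff
  refine ⟨_, orderOf_two_mul hs ((key _).2 h) (fun e => ?_) fun e => ?_⟩
  · rcases (key _).1 e with e | e
    · exact h2'.1 e
    · exact h2'.2 e
  · rcases (key _).1 e with e | e
    · exact hgs.1 e
    · exact hgs.2 e

end PSp

variable [Fintype F]

theorem card_oGroup_qOdd_eq (h2 : (2 : F) ≠ 0) (m : ℕ) :
    Nat.card (oGroup (qOdd F m)) = 2 * Nat.card (Matrix.symplecticGroup (Fin m) F) := by
  rw [Orth.card_oGroup_qOdd h2 m, ClassicalSp.card_sp, mul_assoc]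

/-- Odd orders: from the symplectic to the orthogonal group. -/
theorem sp_to_odd (h2 : (2 : F) ≠ 0) {n r s : ℕ} (hr : r.Prime) (hro : Odd r) (hrF : (r : F) ≠ 0) (hs : s.Prime)
    (A : Matrix.symplecticGroup (Fin n) F) (hA : orderOf A = r * s) :
    ∃ g : Cfsg.isometryGroup F (⇑(qOdd F n)), orderOf g = r * s := by
  haveI : Fact s.Prime := ⟨hs⟩
  obtain ⟨g₀, hg₀⟩ : ∃ g, ClassicalSp.toEquiv A = g := ⟨_, rfl⟩
  have hg : g₀ ∈ AltForm.isoGroup (ClassicalSp.spBilin n F) := hg₀ ▸ ClassicalSp.toEquiv_mem A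
  have hord : orderOf g₀ = r * s := by rw [← hg₀, orderOf_injective _ ClassicalSp.toEquiv_injective, hA]
  obtain ⟨t, ht⟩ : ∃ t, g₀ ^ s = t := ⟨_, rfl⟩
  have htr : t ^ r = 1 := by rw [← ht, ← pow_mul, mul_comm, ← hord, pow_orderOf_eq_one]
  have htm : t ∈ AltForm.isoGroup (ClassicalSp.spBilin n F) := ht ▸ pow_mem hg s
  have hgt : Commute g₀ t := ht ▸ Commute.self_pow g₀ s
  obtain ⟨hc, hX, hW⟩ := split (B := ClassicalSp.spBilin n F) ClassicalSp.spBilin_nondeg.1 (href_alt ClassicalSp.spBilin_isAlt) htm hrF htr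
  obtain ⟨b, hb⟩ := exists_half (B := formOn (ClassicalSp.spBilin n F) (fixX t))
    (fun x => ClassicalSp.spBilin_isAlt (m := n) (F := F) x.1) hX
  obtain ⟨kX, hkX⟩ : ∃ k, restrE (fixX t) g₀ (presX hgt) = k := ⟨_, rfl⟩
  have hkXs : kX ^ s = 1 := LinearEquiv.ext fun u => Subtype.ext (by
    rw [← hkX, restrE_pow, ht]; exact mem_fixX.1 u.2)
  obtain ⟨h, hh⟩ : ∃ h : oGroup (qOdd F b), orderOf h = orderOf kX := by
    rcases (Nat.dvd_prime hs).1 (orderOf_dvd_of_pow_eq_one hkXs) with e | e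
    · exact ⟨1, by rw [e, orderOf_one]⟩
    · haveI := finite_aut F (Unit ⊕ (Fin b ⊕ Fin b) → F)
      rw [e]
      refine exists_prime_orderOf_dvd_card' s ?_
      rw [card_oGroup_qOdd_eq h2]
      refine Dvd.dvd.mul_left ?_ 2
      rw [← e]
      exact dvd_of_alt (B := formOn (ClassicalSp.spBilin n F) (fixX t)) (fun x => ClassicalSp.spBilin_isAlt (m := n) (F := F) x.1) hX
        (hkX ▸ restrE_mem hg (presX hgt)) hb.le
  have htW := restrE_mem htm (presW (Commute.refl t))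
  have hkW := skew_iso (restrE_mem hg (presW hgt)) (restrE_comm hgt (presW hgt) (presW (Commute.refl t)))
  have hsym := symm_of_alt (B := formOn (ClassicalSp.spBilin n F) (movW t))
    (fun x => ClassicalSp.spBilin_isAlt (m := n) (F := F) x.1) htW
  have hnd := quadOf_nondeg h2 hsym (skew_nondeg hW (free_movW hro htr hc))
  obtain ⟨Φ, -, -, -, -, -⟩ := exists_equiv_odd h2 (prod_nondeg hnd (Orth.qOdd_nondeg h2 b)) (n := n) (by
    have e := Submodule.finrank_add_eq_of_isCompl hc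
    rw [hb, ClassicalSp.finrank_space] at e
    rw [Module.finrank_prod, Module.finrank_fintype_fun_eq_card]
    simp
    omega)
  refine ⟨Φ (prodO _ _ (⟨_, mem_oGroup_quadOf hkW⟩, h)), ?_⟩
  rw [MulEquiv.orderOf_eq, orderOf_injective _ (prodO_injective _ _), Prod.orderOf_mk, hh, Subgroup.orderOf_mk,
    ← hord, orderOf_split hc g₀ (presX hgt) (presW hgt), hkX, Nat.lcm_comm]

/-- Odd orders: from the orthogonal to the symplectic group. -/
theorem odd_to_sp (h2 : (2 : F) ≠ 0) {n r s : ℕ} (hr : r.Prime) (hro : Odd r) (hrF : (r : F) ≠ 0) (hs : s.Prime)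
    (hs2 : s ≠ 2) (g : Cfsg.isometryGroup F (⇑(qOdd F n))) (hg : orderOf g = r * s) :
    ∃ A : Matrix.symplecticGroup (Fin n) F, orderOf A = r * s := by
  haveI : Fact s.Prime := ⟨hs⟩
  obtain ⟨g₀, hg₀⟩ : ∃ g', (Orth.isoEquiv (qOdd F n) g).1 = g' := ⟨_, rfl⟩
  have hmem : g₀ ∈ oGroup (qOdd F n) := hg₀ ▸ (Orth.isoEquiv (qOdd F n) g).2
  have hord : orderOf g₀ = r * s := by rw [← hg₀, Subgroup.orderOf_coe, MulEquiv.orderOf_eq, hg]
  obtain ⟨t, ht⟩ : ∃ t, g₀ ^ s = t := ⟨_, rfl⟩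
  have htr : t ^ r = 1 := by rw [← ht, ← pow_mul, mul_comm, ← hord, pow_orderOf_eq_one]
  have htm : t ∈ AltForm.isoGroup (polarBilin (qOdd F n)) := mem_iso_polar (ht ▸ pow_mem hmem s)
  have hgt : Commute g₀ t := ht ▸ Commute.self_pow g₀ s
  obtain ⟨hc, hX, hW⟩ := split (B := polarBilin (qOdd F n)) (Orth.qOdd_nondeg h2 n).1
    (fun x y h => by rw [polar_symm]; exact h) htm hrF htr
  have htW := restrE_mem htm (presW (Commute.refl t))
  have halt := skew_alt (B := formOn (polarBilin (qOdd F n)) (movW t)) h2 (fun u v => polar_symm _ _ _) htW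
  have hnd := skew_nondeg (B := formOn (polarBilin (qOdd F n)) (movW t)) hW (free_movW hro htr hc)
  obtain ⟨a, ha⟩ := exists_half halt hnd
  have hdim := Submodule.finrank_add_eq_of_isCompl hc
  rw [ha, Module.finrank_fintype_fun_eq_card] at hdim
  simp at hdim
  obtain ⟨b, hb⟩ : ∃ b, finrank F (fixX t) = 2 * b + 1 := ⟨n - a, by omega⟩
  obtain ⟨kX, hkX⟩ : ∃ k, restrE (fixX t) g₀ (presX hgt) = k := ⟨_, rfl⟩
  have hkXs : kX ^ s = 1 := LinearEquiv.ext fun u => Subtype.ext (by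
    rw [← hkX, restrE_pow, ht]; exact mem_fixX.1 u.2)
  obtain ⟨y, hy⟩ : ∃ y : Matrix.symplecticGroup (Fin b) F, orderOf y = orderOf kX := by
    rcases (Nat.dvd_prime hs).1 (orderOf_dvd_of_pow_eq_one hkXs) with e | e
    · exact ⟨1, by rw [e, orderOf_one]⟩
    · rw [e]
      refine exists_prime_orderOf_dvd_card' s ?_
      have hXQ : (polarBilin (Orth.restr (qOdd F n) (fixX t))).Nondegenerate :=
        Orth.nondeg_of fun x hx => hX x fun y => hx y
      obtain ⟨Φ, -, -, -, -, -⟩ := exists_equiv_odd h2 hXQ hb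
      have h1 : s ∣ 2 * Nat.card (Matrix.symplecticGroup (Fin b) F) := by
        rw [← card_oGroup_qOdd_eq h2, ← Nat.card_congr (Orth.isoEquiv (qOdd F b)).toEquiv,
          ← Nat.card_congr Φ.toEquiv, ← e]
        have hk : kX ∈ oGroup (Orth.restr (qOdd F n) (fixX t)) := hkX ▸ fun x => hmem x
        rw [← Subgroup.orderOf_mk _ hk]
        exact orderOf_dvd_natCard _
      exact ((Nat.coprime_primes hs Nat.prime_two).2 hs2).dvd_of_dvd_mul_left h1
  have hkW := skew_iso (restrE_mem (mem_iso_polar hmem) (presW hgt))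
    (restrE_comm hgt (presW hgt) (presW (Commute.refl t)))
  obtain ⟨Ψ, -⟩ := exists_equiv_sp (prodB_alt halt (ClassicalSp.spBilin_isAlt (m := b) (F := F)))
    (prodB_nondeg hnd ClassicalSp.spBilin_nondeg.1) (m := n) (by
      rw [Module.finrank_prod, ha, ClassicalSp.finrank_space]; omega)
  refine ⟨Ψ (prodI _ _ (⟨_, hkW⟩, ⟨ClassicalSp.toEquiv y, ClassicalSp.toEquiv_mem y⟩)), ?_⟩
  rw [MulEquiv.orderOf_eq, orderOf_injective _ (prodI_injective _ _), Prod.orderOf_mk, Subgroup.orderOf_mk,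
    Subgroup.orderOf_mk, orderOf_injective _ ClassicalSp.toEquiv_injective, hy, ← hord,
    orderOf_split hc g₀ (presX hgt) (presW hgt), hkX, Nat.lcm_comm]

set_option maxHeartbeats 1600000 in
/-- Both groups have elements of order `2 s` when `s` divides a smaller symplectic group. -/
theorem even_small (h2 : (2 : F) ≠ 0) {n s : ℕ} (hn : 3 ≤ n) (hs : s.Prime) (hs2 : s ≠ 2)
    (hd : s ∣ Nat.card (Matrix.symplecticGroup (Fin (n - 1)) F)) :
    (∃ x : Cfsg.PSp n F, orderOf x = 2 * s) ∧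
      ∃ g : Cfsg.isometryGroup F (⇑(qOdd F n)), g ∈ Cfsg.Omega F (⇑(qOdd F n)) ∧ orderOf g = 2 * s := by
  haveI : Fact s.Prime := ⟨hs⟩
  have hso : Odd s := hs.odd_of_ne_two hs2
  constructor
  · obtain ⟨y, hy⟩ := exists_prime_orderOf_dvd_card' s hd
    obtain ⟨e, he⟩ : ∃ e, prodI (ClassicalSp.spBilin (n - 1) F) (ClassicalSp.spBilin 1 F)
        (⟨ClassicalSp.toEquiv y, ClassicalSp.toEquiv_mem y⟩,
          ⟨LinearEquiv.neg F, fun u v => by simp⟩) = e := ⟨_, rfl⟩
    obtain ⟨k, hk⟩ : ∃ k, ClassicalSp.toEquiv y = k := ⟨_, rfl⟩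
    have hks : orderOf k = s := by rw [← hk, orderOf_injective _ ClassicalSp.toEquiv_injective, hy]
    have hk0 : k ^ s = 1 := by rw [← hks, pow_orderOf_eq_one]
    have happ : ∀ (i : ℕ) u w, (e.1 ^ i) (u, w) = ((k ^ i) u, ((LinearEquiv.neg F) ^ i : _ ≃ₗ[F] _) w) := fun i => by
      induction i with
      | zero => intro u w; rfl
      | succ i ih =>
        intro u w
        rw [pow_succ, LinearEquiv.mul_apply, pow_succ k, LinearEquiv.mul_apply, pow_succ, LinearEquiv.mul_apply,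
          ← ih, ← he, ← hk]
        rfl
    have hpos1 : 0 < finrank F (Fin 1 ⊕ Fin 1 → F) := by rw [ClassicalSp.finrank_space]; norm_num
    refine exists_psp_two_mul (prodB_alt (ClassicalSp.spBilin_isAlt (m := n - 1) (F := F))
      (ClassicalSp.spBilin_isAlt (m := 1) (F := F)))
      (prodB_nondeg ClassicalSp.spBilin_nondeg.1 ClassicalSp.spBilin_nondeg.1) (n := n) (by omega)
      (by rw [Module.finrank_prod, ClassicalSp.finrank_space, ClassicalSp.finrank_space]; omega) hs e.2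
      (Or.inl (LinearEquiv.ext fun x => ?_)) ⟨fun h => ?_, fun h => ?_⟩ ⟨fun h => ?_, fun h => ?_⟩
    · rw [happ, mul_comm 2 s, pow_mul k, hk0, one_pow, mul_comm s 2, pow_mul, pow_two, neg_mul_neg, one_pow]
      rfl
    · have h1 : k ^ 2 = 1 := LinearEquiv.ext fun u => by
        have := congrArg Prod.fst (LinearEquiv.congr_fun h (u, 0))
        rw [happ] at this
        exact this
      have := Nat.le_of_dvd two_pos (hks ▸ orderOf_dvd_of_pow_eq_one h1)
      have := hs.two_le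
      omega
    · refine neg_ne_one h2 hpos1 (LinearEquiv.ext fun w => ?_)
      have := congrArg Prod.snd (LinearEquiv.congr_fun h (0, w))
      rw [happ, pow_two (LinearEquiv.neg F : (Fin 1 ⊕ Fin 1 → F) ≃ₗ[F] _), neg_mul_neg] at this
      exact this.symm
    · refine neg_ne_one h2 hpos1 (LinearEquiv.ext fun w => ?_)
      have := congrArg Prod.snd (LinearEquiv.congr_fun h (0, w))
      rw [happ, neg_pow_odd hso] at this
      exact this
    · refine neg_ne_one (V := Fin (n - 1) ⊕ Fin (n - 1) → F) h2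
        (by rw [ClassicalSp.finrank_space]; omega) (LinearEquiv.ext fun u => ?_)
      have := congrArg Prod.fst (LinearEquiv.congr_fun h (u, 0))
      rw [happ, hk0] at this
      exact this.symm
  · haveI := finite_aut F (Unit ⊕ (Fin (n - 1) ⊕ Fin (n - 1)) → F)
    obtain ⟨k, hk⟩ := exists_prime_orderOf_dvd_card' (G := oGroup (qOdd F (n - 1))) s
      (card_oGroup_qOdd_eq h2 (n - 1) ▸ hd.mul_left 2)
    obtain ⟨q₂, hq₂⟩ : ∃ q : QuadraticForm F ((Unit → F) × (Unit → F)), q = (qSq F).prod (qSq F) := ⟨_, rfl⟩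
    obtain ⟨Φ, c, L, hc, hL, hΦ⟩ := exists_equiv_odd h2 (n := n)
      (prod_nondeg (Orth.qOdd_nondeg h2 (n - 1)) (hq₂ ▸ prod_nondeg (Orth.qSq_nondeg h2) (Orth.qSq_nondeg h2)))
      (by
        rw [Module.finrank_prod, Module.finrank_prod, Module.finrank_fintype_fun_eq_card]
        simp
        omega)
    obtain ⟨va, hva⟩ : ∃ v : (Unit → F) × (Unit → F), v = (fun _ => 1, 0) := ⟨_, rfl⟩
    obtain ⟨vb, hvb⟩ : ∃ v : (Unit → F) × (Unit → F), v = (0, fun _ => 1) := ⟨_, rfl⟩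
    have hqa : q₂ va = 1 := by
      rw [hq₂, hva]; show qSq F _ + qSq F _ = 1; simp [Orth.qSq_apply]
    have hqb : q₂ vb = 1 := by
      rw [hq₂, hvb]; show qSq F _ + qSq F _ = 1; simp [Orth.qSq_apply]
    have hab : polar q₂ va vb = 0 := by
      rw [hq₂, SkewTransfer.polar_prod, hva, hvb]; simp [polar]
    obtain ⟨ra, hra, hra'⟩ := Orth.exists_isRefl (Q := q₂) (a := va) (by rw [hqa]; exact one_ne_zero)
    obtain ⟨rb, hrb, hrb'⟩ := Orth.exists_isRefl (Q := q₂) (a := vb) (by rw [hqb]; exact one_ne_zero)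
    obtain ⟨χ, hker, -, hrefl⟩ := Orth.exists_matrix_spinor (qOdd F n) (Orth.qOdd_nondeg h2 n)
      (by simp; omega) (Or.inr (by simp; omega))
    obtain ⟨P, hP⟩ : ∃ P, Φ.toMonoidHom.comp (prodO (qOdd F (n - 1)) q₂) = P := ⟨_, rfl⟩
    have hPi : Function.Injective P := hP ▸ Φ.injective.comp (prodO_injective _ _)
    have hval : ∀ (r : oGroup q₂) (v : (Unit → F) × (Unit → F)), Orth.IsRefl r.1 q₂ v → q₂ v = 1 →
        χ (P (1, r)) = reflVal (qOdd F n) (L (0, va)) := fun r v hr hv => by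
      have hvL : qOdd F n (L (0, v)) = c := by
        rw [hL]; show c * (qOdd F (n - 1) 0 + q₂ v) = c; rw [hv, map_zero, zero_add, mul_one]
      have haL : qOdd F n (L (0, va)) = c := by
        rw [hL]; show c * (qOdd F (n - 1) 0 + q₂ va) = c; rw [hqa, map_zero, zero_add, mul_one]
      rw [show reflVal (qOdd F n) (L (0, va)) = reflVal (qOdd F n) (L (0, v)) by rw [reflVal, reflVal, hvL, haL]]
      refine hrefl _ _ (by rw [hvL]; exact hc) (Matrix.ext_iff_mulVec.2 fun x => ?_)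
      obtain ⟨⟨u, w⟩, rfl⟩ := L.surjective x
      rw [Orth.reflectionMatrix_mulVec, hvL]
      show mv _ (L (u, w)) = _
      rw [← hP, MonoidHom.comp_apply, MulEquiv.coe_toMonoidHom, hΦ, prodO_apply]
      have hpol : polar (⇑(qOdd F n)) (L (u, w)) (L (0, v)) = c * polar q₂ w v := by
        simp only [polar, ← map_add, hL]
        show c * (qOdd F (n - 1) (u + 0) + q₂ (w + v)) - c * (qOdd F (n - 1) u + q₂ w) -
          c * (qOdd F (n - 1) 0 + q₂ v) = _
        rw [add_zero, map_zero]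
        ring
      rw [hpol, mul_div_cancel_left₀ _ hc, ← map_smul, ← map_sub]
      congr 1
      show ((1 : oGroup (qOdd F (n - 1))).1 u, r.1 w) = _
      rw [hr.2 w, hv, div_one]
      exact Prod.ext (by simp) rfl
    obtain ⟨z, hz⟩ : ∃ z : oGroup q₂, z = ⟨ra, hra⟩ * ⟨rb, hrb⟩ := ⟨_, rfl⟩
    refine ⟨P (k, z), ?_, ?_⟩
    · rw [← hker, MonoidHom.mem_ker,
        show ((k, z) : oGroup (qOdd F (n - 1)) × oGroup q₂) = (k, 1) * ((1, ⟨ra, hra⟩) * (1, ⟨rb, hrb⟩)) from
          Prod.ext (by simp) (by simp [hz]),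
        map_mul, map_mul, map_mul, map_mul, hval _ va hra' hqa, hval _ vb hrb' hqb, spin_mul_self, mul_one]
      refine spin_eq_one_of_odd χ ?_
      rw [orderOf_injective P hPi, Prod.orderOf_mk, orderOf_one, Nat.lcm_one_right, hk]
      exact hso
    · have hz2 : orderOf z = 2 := by
        have hcomm : ra * rb = rb * ra := LinearEquiv.ext fun x => by
          simp only [LinearEquiv.mul_apply, hra'.2, hrb'.2, hqa, hqb, div_one, Orth.b_sub_left, Orth.b_smul_left,
            Orth.b_comm vb va, hab, mul_zero, sub_zero]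
          abel
        refine orderOf_eq_prime ?_ fun h1 => ?_
        · refine Subtype.ext ?_
          rw [pow_two, hz, Subgroup.coe_mul, Subgroup.coe_mul, Subgroup.coe_one]
          show ra * rb * (ra * rb) = 1
          conv_lhs => arg 2; rw [hcomm]
          rw [mul_assoc, ← mul_assoc rb rb ra, hrb'.mul_self, one_mul, hra'.mul_self]
        · have h1' : ra (rb va) = va := LinearEquiv.congr_fun (congrArg Subtype.val (hz.symm.trans h1)) va
          rw [hrb'.fix (by rw [hab]), hra'.2, Orth.b_self, hqa, div_one, mul_one] at h1'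
          have h3 : (2 : F) • va = 0 := sub_eq_self.1 h1'
          have := congrArg (fun v => v.1 ()) h3
          simp [hva, h2] at this
      rw [orderOf_injective P hPi, Prod.orderOf_mk, hk, hz2,
        ((Nat.coprime_primes hs Nat.prime_two).2 hs2).lcm_eq_mul, mul_comm]

set_option maxHeartbeats 1600000 in
/-- Order `2 s`, `s` not dividing a smaller group: from the symplectic to the orthogonal group. -/
theorem even_sp_to_odd (h2 : (2 : F) ≠ 0) {n s : ℕ} (hn : 3 ≤ n) (hs : s.Prime) (hs2 : s ≠ 2) (hsF : (s : F) ≠ 0)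
    (hnd : ¬ s ∣ Nat.card (Matrix.symplecticGroup (Fin (n - 1)) F)) {x : Cfsg.PSp n F} (hx : orderOf x = 2 * s) :
    ∃ g : Cfsg.isometryGroup F (⇑(qOdd F n)), g ∈ Cfsg.Omega F (⇑(qOdd F n)) ∧ orderOf g = 2 * s := by
  haveI : Fact s.Prime := ⟨hs⟩
  have hso : Odd s := hs.odd_of_ne_two hs2
  have h2s := hs.two_le
  obtain ⟨A, rfl⟩ := QuotientGroup.mk_surjective x
  obtain ⟨g₀, hg₀⟩ : ∃ g, ClassicalSp.toEquiv A = g := ⟨_, rfl⟩
  have hg : g₀ ∈ AltForm.isoGroup (ClassicalSp.spBilin n F) := hg₀ ▸ ClassicalSp.toEquiv_mem A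
  have key : ∀ k : ℕ, (QuotientGroup.mk A : Cfsg.PSp n F) ^ k = 1 ↔
      g₀ ^ k = 1 ∨ g₀ ^ k = LinearEquiv.neg F := fun k => by
    rw [← QuotientGroup.mk_pow, SympSpectra.mk_eq_one_iff (by omega), ← hg₀, ← map_pow]
    constructor
    · rintro (e | e)
      · exact Or.inl (LinearEquiv.ext fun v => by rw [ClassicalSp.toEquiv_apply, e, Matrix.one_mulVec]; rfl)
      · exact Or.inr (LinearEquiv.ext fun v => by
          rw [ClassicalSp.toEquiv_apply, e, Matrix.neg_mulVec, Matrix.one_mulVec]; rfl)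
    · rintro (e | e)
      · exact Or.inl (Matrix.ext_iff_mulVec.2 fun v => by
          rw [← ClassicalSp.toEquiv_apply, e, Matrix.one_mulVec]; rfl)
      · exact Or.inr (Matrix.ext_iff_mulVec.2 fun v => by
          rw [← ClassicalSp.toEquiv_apply, e, Matrix.neg_mulVec, Matrix.one_mulVec]; rfl)
  obtain ⟨t, htd⟩ : ∃ t, g₀ ^ 4 = t := ⟨_, rfl⟩
  obtain ⟨z, hzd⟩ : ∃ z, g₀ ^ s = z := ⟨_, rfl⟩
  have hpowne : ∀ k : ℕ, ¬ 2 * s ∣ k → g₀ ^ k ≠ 1 ∧ g₀ ^ k ≠ LinearEquiv.neg F := fun k hk =>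
    ⟨fun e => hk (hx ▸ orderOf_dvd_of_pow_eq_one ((key k).2 (Or.inl e))),
      fun e => hk (hx ▸ orderOf_dvd_of_pow_eq_one ((key k).2 (Or.inr e)))⟩
  have h2spow := (key (2 * s)).1 (by rw [← hx, pow_orderOf_eq_one])
  have htr : t ^ s = 1 := by
    rw [← htd, ← pow_mul, show 4 * s = 2 * s * 2 by ring, pow_mul]
    rcases h2spow with e | e <;> rw [e]
    · exact one_pow 2
    · rw [pow_two, neg_mul_neg]
  have ht1 : t ≠ 1 := htd ▸ (hpowne 4 fun hd => by
    have hd4 : s ∣ 2 * 2 := (dvd_mul_left s 2).trans hd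
    rcases hs.dvd_mul.1 hd4 with h | h <;> exact hs2 ((Nat.prime_dvd_prime_iff_eq hs Nat.prime_two).1 h)).1
  have hts : orderOf t = s := orderOf_eq_prime htr ht1
  have htm : t ∈ AltForm.isoGroup (ClassicalSp.spBilin n F) := htd ▸ pow_mem hg 4
  have hzm : z ∈ AltForm.isoGroup (ClassicalSp.spBilin n F) := hzd ▸ pow_mem hg s
  have hzt : Commute z t := hzd ▸ htd ▸ Commute.pow_pow (Commute.refl g₀) s 4
  have hz0 : z ≠ 1 ∧ z ≠ LinearEquiv.neg F := hzd ▸ hpowne s fun hd => by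
    have := Nat.le_of_dvd (by omega) hd; omega
  have hzz : z * z = 1 ∨ z * z = LinearEquiv.neg F := by rw [← hzd, ← pow_add, ← two_mul]; exact h2spow
  obtain ⟨hc, hX, hW⟩ := split (B := ClassicalSp.spBilin n F) ClassicalSp.spBilin_nondeg.1 (href_alt ClassicalSp.spBilin_isAlt) htm hsF htr
  have hfix : ∀ v, t v = v → v = 0 := by
    intro v hv
    have hWdim : finrank F (movW t) = 2 * n := by
      obtain ⟨a, ha⟩ := exists_half (B := formOn (ClassicalSp.spBilin n F) (movW t))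
        (fun x => ClassicalSp.spBilin_isAlt (m := n) (F := F) x.1) hW
      have hle := (movW t).finrank_le
      rw [ClassicalSp.finrank_space] at hle
      by_contra hne
      refine hnd ?_
      have hord := orderOf_split hc t (presX (Commute.refl t)) (presW (Commute.refl t))
      rw [show restrE (fixX t) t (presX (Commute.refl t)) = 1 from LinearEquiv.ext fun u =>
        Subtype.ext (mem_fixX.1 u.2), orderOf_one, Nat.lcm_one_left, hts] at hord
      rw [hord]
      exact dvd_of_alt (B := formOn (ClassicalSp.spBilin n F) (movW t)) (fun x => ClassicalSp.spBilin_isAlt (m := n) (F := F) x.1) hW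
        (restrE_mem htm (presW (Commute.refl t))) (by omega)
    have hX0 : fixX t = ⊥ := by
      have := Submodule.finrank_add_eq_of_isCompl hc
      rw [hWdim, ClassicalSp.finrank_space] at this
      exact Submodule.finrank_eq_zero.1 (by omega)
    have := mem_fixX.2 hv
    rwa [hX0, Submodule.mem_bot] at this
  have hz2 : z * z = LinearEquiv.neg F := hzz.resolve_left fun e => by
    rcases invol_eq h2 ClassicalSp.spBilin_isAlt ClassicalSp.spBilin_nondeg.1 htm (ClassicalSp.finrank_space.le)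
      hs htr hfix hnd hzm hzt e with e | e
    · exact hz0.1 e
    · exact hz0.2 e
  have hsym := symm_of_alt (ClassicalSp.spBilin_isAlt (m := n) (F := F)) htm
  have hnd' := quadOf_nondeg h2 hsym (skew_nondeg (B := ClassicalSp.spBilin n F) ClassicalSp.spBilin_nondeg.1 (free_of_fix hso htr hfix))
  obtain ⟨Φ, -, -, -, -, -⟩ := exists_equiv_odd h2 (prod_nondeg hnd' (Orth.qSq_nondeg h2)) (n := n) (by
    rw [Module.finrank_prod, ClassicalSp.finrank_space]; simp)
  obtain ⟨χ, hker, -, -⟩ := Orth.exists_matrix_spinor (qOdd F n) (Orth.qOdd_nondeg h2 n)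
    (by simp; omega) (Or.inr (by simp; omega))
  obtain ⟨T, hT⟩ : ∃ T, Φ (prodO (quadOf _) (qSq F) (⟨t, mem_oGroup_quadOf (skew_iso htm (Commute.refl t))⟩, 1)) = T :=
    ⟨_, rfl⟩
  obtain ⟨Y, hY⟩ : ∃ Y, Φ (prodO (quadOf _) (qSq F) (⟨z, mem_oGroup_quadOf (skew_iso hzm hzt)⟩, 1)) = Y :=
    ⟨_, rfl⟩
  refine ⟨T * (Y * Y), ?_, ?_⟩
  · rw [← hker, MonoidHom.mem_ker, map_mul, map_mul, spin_mul_self, mul_one]
    refine spin_eq_one_of_odd χ ?_
    rw [← hT, MulEquiv.orderOf_eq, orderOf_injective _ (prodO_injective _ _), Prod.orderOf_mk, orderOf_one,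
      Nat.lcm_one_right, Subgroup.orderOf_mk, hts]
    exact hso
  · rw [← hT, ← hY, ← map_mul, ← map_mul, ← map_mul, ← map_mul, MulEquiv.orderOf_eq,
      orderOf_injective _ (prodO_injective _ _), Prod.mk_mul_mk, Prod.mk_mul_mk, mul_one, mul_one, Prod.orderOf_mk,
      orderOf_one, Nat.lcm_one_right, ← Subgroup.orderOf_coe, Subgroup.coe_mul, Subgroup.coe_mul]
    show orderOf (t * (z * z)) = 2 * s
    rw [hz2]
    have hcn : Commute t (LinearEquiv.neg F) := LinearEquiv.ext fun v => map_neg t v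
    have hn2 : (LinearEquiv.neg F : (Fin n ⊕ Fin n → F) ≃ₗ[F] _) ^ 2 = 1 := by rw [pow_two, neg_mul_neg]
    refine orderOf_two_mul hs ?_ ?_ ?_
    · rw [hcn.mul_pow, mul_comm 2 s, pow_mul t, htr, one_pow, mul_comm s 2, pow_mul, hn2, one_pow, mul_one]
    · rw [hcn.mul_pow, hn2, mul_one]
      intro e
      have := Nat.le_of_dvd two_pos (hts ▸ orderOf_dvd_of_pow_eq_one e)
      have := hso
      interval_cases s
      simp at hs2
    · rw [hcn.mul_pow, htr, one_mul, neg_pow_odd hso]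
      exact neg_ne_one h2 (by rw [ClassicalSp.finrank_space]; omega)

set_option maxHeartbeats 1600000 in
/-- Order `2 s`, `s` not dividing a smaller group: from the orthogonal to the symplectic group. -/
theorem even_odd_to_sp (h2 : (2 : F) ≠ 0) {n s : ℕ} (hn : 3 ≤ n) (hs : s.Prime) (hs2 : s ≠ 2) (hsF : (s : F) ≠ 0)
    (hnd : ¬ s ∣ Nat.card (Matrix.symplecticGroup (Fin (n - 1)) F)) {g : Cfsg.isometryGroup F (⇑(qOdd F n))}
    (hgΩ : g ∈ Cfsg.Omega F (⇑(qOdd F n))) (hg : orderOf g = 2 * s) :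
    ∃ x : Cfsg.PSp n F, orderOf x = 2 * s := by
  classical
  haveI : Fact s.Prime := ⟨hs⟩
  have hso : Odd s := hs.odd_of_ne_two hs2
  obtain ⟨q, hq⟩ : ∃ q, qOdd F n = q := ⟨_, rfl⟩
  have hqnd : (polarBilin q).Nondegenerate := hq ▸ Orth.qOdd_nondeg h2 n
  obtain ⟨ρ, hρ⟩ : ∃ ρ : Cfsg.isometryGroup F (⇑(qOdd F n)) →* ((Unit ⊕ (Fin n ⊕ Fin n) → F) ≃ₗ[F] _),
      ρ = (oGroup (qOdd F n)).subtype.comp (Orth.isoEquiv (qOdd F n)).toMonoidHom := ⟨_, rfl⟩
  have hρi : Function.Injective ρ := hρ ▸ Subtype.val_injective.comp (Orth.isoEquiv (qOdd F n)).injective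
  have hρm : ∀ k, ρ k ∈ oGroup (qOdd F n) := fun k => by rw [hρ]; exact (Orth.isoEquiv (qOdd F n) k).2
  have hρv : ∀ k v, ρ k v = mv (k : GL (Unit ⊕ (Fin n ⊕ Fin n)) F) v := fun k v => by rw [hρ]; rfl
  obtain ⟨t, htd⟩ : ∃ t, ρ (g ^ 2) = t := ⟨_, rfl⟩
  obtain ⟨z, hzd⟩ : ∃ z, ρ (g ^ s) = z := ⟨_, rfl⟩
  have hts : orderOf t = s := by
    rw [← htd, orderOf_injective ρ hρi, orderOf_pow_of_dvd two_ne_zero (hg ▸ dvd_mul_right 2 s), hg,
      Nat.mul_div_cancel_left _ two_pos]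
  have htr : t ^ s = 1 := by rw [← hts, pow_orderOf_eq_one]
  have hz2 : orderOf z = 2 := by
    rw [← hzd, orderOf_injective ρ hρi, orderOf_pow_of_dvd hs.ne_zero (hg ▸ dvd_mul_left s 2), hg,
      Nat.mul_div_cancel _ hs.pos]
  have htm : t ∈ AltForm.isoGroup (polarBilin (qOdd F n)) := mem_iso_polar (htd ▸ hρm _)
  have hzt : Commute z t := hzd ▸ htd ▸ ((Commute.refl g).pow_pow s 2).map ρ
  obtain ⟨hc, hX, hW⟩ := split (B := polarBilin (qOdd F n)) (Orth.qOdd_nondeg h2 n).1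
    (fun x y h => by rw [polar_symm]; exact h) htm hsF htr
  have htW := restrE_mem htm (presW (Commute.refl t))
  have halt := skew_alt (B := formOn (polarBilin (qOdd F n)) (movW t)) h2 (fun u v => polar_symm _ _ _) htW
  have hnd' := skew_nondeg (B := formOn (polarBilin (qOdd F n)) (movW t)) hW (free_movW hso htr hc)
  obtain ⟨tW, htWd⟩ : ∃ k, restrE (movW t) t (presW (Commute.refl t)) = k := ⟨_, rfl⟩
  rw [htWd] at htW halt hnd'
  obtain ⟨a, ha⟩ := exists_half halt hnd'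
  have hdim := Submodule.finrank_add_eq_of_isCompl hc
  rw [ha, Module.finrank_fintype_fun_eq_card] at hdim
  simp at hdim
  have htWs : orderOf tW = s := by
    have hord := orderOf_split hc t (presX (Commute.refl t)) (presW (Commute.refl t))
    rw [show restrE (fixX t) t (presX (Commute.refl t)) = 1 from LinearEquiv.ext fun u =>
      Subtype.ext (mem_fixX.1 u.2), orderOf_one, Nat.lcm_one_left, hts, htWd] at hord
    exact hord.symm
  have hskew : ∀ {k : (Unit ⊕ (Fin n ⊕ Fin n) → F) ≃ₗ[F] _} (_ : k ∈ oGroup (qOdd F n)) (hkt : Commute k t),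
      restrE (movW t) k (presW hkt) ∈ AltForm.isoGroup (skew (formOn (polarBilin (qOdd F n)) (movW t)) tW) ∧
        Commute (restrE (movW t) k (presW hkt)) tW := fun {k} hk hkt => by
    have hcm := restrE_comm hkt (presW hkt) (presW (Commute.refl t))
    rw [htWd] at hcm
    exact ⟨skew_iso (restrE_mem (mem_iso_polar hk) (presW hkt)) hcm, hcm⟩
  have han : a = n := by
    by_contra hne
    refine hnd ?_
    rw [← htWs]
    exact dvd_of_alt halt hnd' (skew_iso htW (Commute.refl tW)) (by omega)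
  subst han
  have hX1 : finrank F (fixX t) = 1 := by omega
  have hWfix : ∀ x, tW x = x → x = 0 := fun x hx => by
    have h : t (x : Unit ⊕ (Fin a ⊕ Fin a) → F) = x := by
      have := congrArg Subtype.val hx
      rwa [← htWd, restrE_apply] at this
    exact Subtype.ext (Submodule.disjoint_def.1 hc.disjoint _ (mem_fixX.2 h) x.2)
  have hinvol : ∀ {k : (Unit ⊕ (Fin a ⊕ Fin a) → F) ≃ₗ[F] _} (_ : k ∈ oGroup (qOdd F a)) (hkt : Commute k t),
      k * k = 1 → (∀ w ∈ movW t, k w = w) ∨ ∀ w ∈ movW t, k w = -w := fun {k} hk hkt hkk => by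
    have hk2 : restrE (movW t) k (presW hkt) * restrE (movW t) k (presW hkt) = 1 :=
      LinearEquiv.ext fun u => Subtype.ext (LinearEquiv.congr_fun hkk (u : Unit ⊕ (Fin a ⊕ Fin a) → F))
    rcases invol_eq h2 halt hnd' (skew_iso htW (Commute.refl tW)) ha.le hs (by rw [← htWs, pow_orderOf_eq_one])
      hWfix hnd (hskew hk hkt).1 (hskew hk hkt).2 hk2 with e | e
    · exact Or.inl fun w hw => congrArg Subtype.val (LinearEquiv.congr_fun e ⟨w, hw⟩)
    · exact Or.inr fun w hw => congrArg Subtype.val (LinearEquiv.congr_fun e ⟨w, hw⟩)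
  have hdec : ∀ v, ∃ x ∈ fixX t, ∃ w ∈ movW t, v = x + w := fun v => by
    obtain ⟨x, hx, w, hw, rfl⟩ := Submodule.mem_sup.1 (hc.sup_eq_top.symm.le (Submodule.mem_top : v ∈ ⊤))
    exact ⟨x, hx, w, hw, rfl⟩
  obtain ⟨χ, hker, -, hrefl⟩ := Orth.exists_matrix_spinor (qOdd F a) (Orth.qOdd_nondeg h2 a)
    (by simp; omega) (Or.inr (by simp; omega))
  have hχz : χ (g ^ s) = 1 := by rw [← MonoidHom.mem_ker, hker]; exact pow_mem hgΩ s
  have hzsq : z * z = 1 := by rw [← pow_two, ← hz2, pow_orderOf_eq_one]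
  have hzX : (∀ x ∈ fixX t, z x = x) ∧ ∀ w ∈ movW t, z w = -w := by
    obtain ⟨x₀, hx₀, hspan⟩ := finrank_eq_one_iff'.1 hX1
    have hq0 : qOdd F a x₀ ≠ 0 := fun e => hx₀ (hX x₀ fun y => by
      obtain ⟨c, rfl⟩ := hspan y
      show polar _ (x₀ : Unit ⊕ (Fin a ⊕ Fin a) → F) ((c • x₀ : fixX t) : Unit ⊕ (Fin a ⊕ Fin a) → F) = 0
      rw [Submodule.coe_smul, Orth.b_smul_right, Orth.b_self, e, mul_zero, mul_zero])
    obtain ⟨c, hcz⟩ := hspan ⟨z x₀, presX hzt _ x₀.2⟩
    have hcz' : z (x₀ : Unit ⊕ (Fin a ⊕ Fin a) → F) = c • (x₀ : Unit ⊕ (Fin a ⊕ Fin a) → F) :=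
      (congrArg Subtype.val hcz).symm
    have hc2 : c * c = 1 := by
      have h := (hzd ▸ hρm (g ^ s) : z ∈ oGroup (qOdd F a)) x₀
      rw [hcz', Orth.q_smul] at h
      exact mul_right_cancel₀ hq0 (h.trans (one_mul _).symm)
    have hXc : ∀ x ∈ fixX t, z x = c • x := fun x hx => by
      obtain ⟨d, hd⟩ := hspan ⟨x, hx⟩
      have hd' : d • (x₀ : Unit ⊕ (Fin a ⊕ Fin a) → F) = x := congrArg Subtype.val hd
      rw [← hd', map_smul, hcz', smul_comm]
    rcases hinvol (hzd ▸ hρm _) hzt hzsq with hw | hw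
    · exfalso
      rcases mul_self_eq_one_iff.1 hc2 with rfl | rfl
      · rw [show z = 1 from LinearEquiv.ext fun v => by
          obtain ⟨x, hx, w, hw', rfl⟩ := hdec v
          rw [map_add, hXc x hx, hw w hw', one_smul]; rfl, orderOf_one] at hz2
        exact absurd hz2 (by norm_num)
      · have hmat : ((g ^ s : Cfsg.isometryGroup F (⇑(qOdd F a))) : GL (Unit ⊕ (Fin a ⊕ Fin a)) F).1 =
            Cfsg.reflectionMatrix (⇑(qOdd F a)) (x₀ : Unit ⊕ (Fin a ⊕ Fin a) → F) := by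
          refine Matrix.ext_iff_mulVec.2 fun v => ?_
          rw [Orth.reflectionMatrix_mulVec]
          show mv _ v = _
          rw [← hρv, hzd]
          obtain ⟨x, hx, w, hw', rfl⟩ := hdec v
          obtain ⟨d, hd⟩ := hspan ⟨x, hx⟩
          have hd' : d • (x₀ : Unit ⊕ (Fin a ⊕ Fin a) → F) = x := congrArg Subtype.val hd
          have horth : polar (qOdd F a) w (x₀ : Unit ⊕ (Fin a ⊕ Fin a) → F) = 0 := by
            obtain ⟨y, rfl⟩ := hw'
            have h1 := htm y x₀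
            rw [mem_fixX.1 x₀.2] at h1
            show polar _ (t y - y) _ = 0
            rw [Orth.b_sub_left, sub_eq_zero]
            exact h1
          rw [map_add, hXc x hx, hw w hw', Orth.b_add_left, horth, add_zero, ← hd', Orth.b_smul_left, Orth.b_self,
            smul_smul, mul_div_assoc, mul_div_assoc, div_self hq0]
          module
        have := congrArg Prod.fst (hrefl _ _ hq0 hmat)
        rw [hχz] at this
        exact absurd this.symm (show Multiplicative.ofAdd (1 : ZMod 2) ≠ 1 by decide)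
    · refine ⟨fun x hx => ?_, hw⟩
      rcases mul_self_eq_one_iff.1 hc2 with rfl | rfl
      · rw [hXc x hx, one_smul]
      · exfalso
        have hd1 := Orth.det_eq_sgn (qOdd F a) (Orth.qOdd_nondeg h2 a) (Or.inr (by simp; omega)) χ hrefl (g ^ s)
        have hneg : ((g ^ s : Cfsg.isometryGroup F (⇑(qOdd F a))) : GL (Unit ⊕ (Fin a ⊕ Fin a)) F).1 = -1 := by
          refine Matrix.ext_iff_mulVec.2 fun v => ?_
          show mv _ v = _
          rw [← hρv, hzd, Matrix.neg_mulVec, Matrix.one_mulVec]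
          obtain ⟨x, hx, w, hw', rfl⟩ := hdec v
          rw [map_add, hXc x hx, hw w hw', neg_smul, one_smul]
          abel
        rw [hχz, hneg, Matrix.det_neg, Matrix.det_one, mul_one, Odd.neg_one_pow
          ⟨a, by simp; omega⟩] at hd1
        simp [Orth.sgn] at hd1
        exact h2 (by linear_combination -hd1)
  -- a commuting isometry whose square is `-1` on the moved space
  by_cases hk : ∃ (k : (Unit ⊕ (Fin a ⊕ Fin a) → F) ≃ₗ[F] _) (_ : k ∈ oGroup (qOdd F a)) (_ : Commute k t),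
      ∀ w ∈ movW t, k (k w) = -w
  · obtain ⟨k, hkm, hkt, hkk⟩ := hk
    obtain ⟨K, hKd⟩ : ∃ K, restrE (movW t) k (presW hkt) = K := ⟨_, rfl⟩
    obtain ⟨hKs, hKc⟩ := hskew hkm hkt
    rw [hKd] at hKs hKc
    have hK2 : K ^ 2 = LinearEquiv.neg F := LinearEquiv.ext fun u => Subtype.ext (by
      rw [pow_two, LinearEquiv.mul_apply, ← hKd, restrE_apply, restrE_apply]
      exact hkk u u.2)
    have hpos : 0 < finrank F (movW t) := by omega
    have htne : ∀ e : ℕ, tW ^ e = 1 → s ∣ e := fun e h => htWs ▸ orderOf_dvd_of_pow_eq_one h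
    refine exists_psp_two_mul halt hnd' (by omega) ha hs (g := tW * K)
      (mul_mem (skew_iso htW (Commute.refl tW)) hKs) (Or.inr ?_) ⟨fun e => ?_, fun e => ?_⟩ ⟨fun e => ?_, fun e => ?_⟩
    · rw [hKc.symm.mul_pow, mul_comm 2 s, pow_mul tW, ← htWs, pow_orderOf_eq_one, one_pow, one_mul, htWs,
        mul_comm s 2, pow_mul, hK2, neg_pow_odd hso]
    · rw [hKc.symm.mul_pow, hK2] at e
      have h4 : tW ^ (2 * 2) = 1 := by
        rw [pow_mul, show tW ^ 2 = LinearEquiv.neg F from LinearEquiv.ext fun u => by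
          have h' := LinearEquiv.congr_fun e u
          rw [LinearEquiv.mul_apply] at h'
          show _ = -u
          have h'' : (tW ^ 2) (-u) = u := h'
          rw [map_neg, neg_eq_iff_eq_neg] at h''
          exact h'', pow_two, neg_mul_neg]
      rcases hs.dvd_mul.1 (htne _ h4) with h | h <;> exact hs2 ((Nat.prime_dvd_prime_iff_eq hs Nat.prime_two).1 h)
    · rw [hKc.symm.mul_pow, hK2, mul_eq_right] at e
      exact hs2 ((Nat.prime_dvd_prime_iff_eq hs Nat.prime_two).1 (htne 2 e))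
    all_goals
      rw [hKc.symm.mul_pow, ← htWs, pow_orderOf_eq_one, one_mul, htWs] at e
      have h' : (K ^ s) ^ 2 = LinearEquiv.neg F := by rw [← pow_mul, mul_comm, pow_mul, hK2, neg_pow_odd hso]
      rw [e] at h'
      first
        | exact neg_ne_one h2 hpos (h'.symm.trans (one_pow 2))
        | exact neg_ne_one h2 hpos (h'.symm.trans (by rw [pow_two, neg_mul_neg]))
  exfalso
  push Not at hk
  obtain ⟨R, _, _, _, _, ⟨TT⟩⟩ := Cfsg.Agent.AutPOmega.exists_torus (qOdd F a) h2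
    (G := OddOrthMixed.toEnd (qOdd F a) (g ^ 2)) hs hso
    (by rw [← map_pow, ← pow_mul, ← hg, pow_orderOf_eq_one, map_one])
    (by
      rw [hs.coprime_iff_not_dvd]
      intro hd
      obtain ⟨p, hp⟩ := CharP.exists F
      obtain ⟨e, hpp, he⟩ := FiniteField.card F p
      rw [he] at hd
      exact hsF (by rw [(Nat.prime_dvd_prime_iff_eq hs hpp).1 (hs.dvd_of_dvd_pow hd), CharP.cast_eq_zero]))
    (OddOrthMixed.toEnd_iso _)
  obtain ⟨h, -, hχ, hfix, hcomm⟩ := TT.exists_rot_fix (Orth.qOdd_nondeg h2 a) h2 hrefl (fun e => by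
    have h' := OddOrthMixed.toEnd_injective (q := qOdd F a) (e.trans (map_one (OddOrthMixed.toEnd _)).symm)
    have := hts
    rw [← htd, h', map_one, orderOf_one] at this
    exact hs.one_lt.ne' this.symm)
  have hTv : ∀ v, OddOrthMixed.toEnd (qOdd F a) (g ^ 2) v = t v := fun v => by
    rw [OddOrthMixed.toEnd_apply, ← hρv, htd]
  have hht : Commute (ρ h) t := LinearEquiv.ext fun v => by
    rw [LinearEquiv.mul_apply, LinearEquiv.mul_apply, hρv h, hρv h, ← hTv, ← hTv]
    exact (hcomm v).symm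
  have hhX : ∀ x ∈ fixX t, ρ h x = x := fun x hx => by
    rw [hρv]; exact hfix x (by rw [hTv]; exact mem_fixX.1 hx)
  obtain ⟨e, m, hm, he⟩ := Nat.exists_eq_pow_mul_and_not_dvd (orderOf_pos h).ne' 2 (by norm_num)
  have hmo : Odd m := by rwa [Nat.odd_iff, ← Nat.two_dvd_ne_zero]
  obtain ⟨j, hj⟩ : ∃ j, h ^ m = j := ⟨_, rfl⟩
  have hχj : χ h = χ j := by rw [← hj, map_pow, pow_eq_self_of_odd (spin_mul_self _) hmo]
  have hjo : orderOf j = 2 ^ e := by
    rw [← hj, orderOf_pow_of_dvd hmo.pos.ne' (he ▸ dvd_mul_left m _), he, Nat.mul_div_cancel _ hmo.pos]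
  have hall : ∀ i : ℕ, Commute (ρ (h ^ i)) t ∧ ∀ x ∈ fixX t, ρ (h ^ i) x = x := fun i => by
    induction i with
    | zero => rw [pow_zero, map_one]; exact ⟨Commute.one_left t, fun x _ => rfl⟩
    | succ i ih =>
      rw [pow_succ, map_mul]
      exact ⟨ih.1.mul_left hht, fun x hx => by rw [LinearEquiv.mul_apply, hhX x hx, ih.2 x hx]⟩
  have hj2 : ρ j * ρ j = 1 := by
    rcases e with _ | _ | e
    · rw [pow_zero, orderOf_eq_one_iff] at hjo
      rw [hjo, map_one, one_mul]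
    · rw [← map_mul, ← pow_two, show 2 = orderOf j by rw [hjo]; rfl, pow_orderOf_eq_one, map_one]
    · exfalso
      obtain ⟨k, hkd⟩ : ∃ k, ρ (h ^ (m * 2 ^ e)) = k := ⟨_, rfl⟩
      have hk4 : orderOf k = 4 := by
        rw [← hkd, orderOf_injective ρ hρi, pow_mul, hj, orderOf_pow_of_dvd (by positivity)
          (hjo ▸ pow_dvd_pow 2 (by omega)), hjo, Nat.pow_div (by omega) two_pos]
        rw [show e + 1 + 1 - e = 2 by omega]
        rfl
      have hkk : ρ (h ^ (m * 2 ^ e * 2)) = k * k := by rw [pow_mul, ← hkd, map_pow, pow_two]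
      obtain ⟨w, hw, hwne⟩ := hk k (hkd ▸ hρm _) (hkd ▸ (hall _).1)
      have hsq : k * k * (k * k) = 1 := by
        rw [← pow_two k, ← pow_add, show 2 + 2 = orderOf k by rw [hk4], pow_orderOf_eq_one]
      rcases hinvol (hkk ▸ hρm _) (hkk ▸ (hall _).1) hsq with h1 | h1
      · have : k ^ 2 = 1 := by
          rw [pow_two]
          refine LinearEquiv.ext fun v => ?_
          obtain ⟨x, hx, w', hw', rfl⟩ := hdec v
          rw [map_add, h1 w' hw', show (k * k) x = x by rw [← hkk]; exact (hall _).2 x hx]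
          rfl
        have := Nat.le_of_dvd two_pos (orderOf_dvd_of_pow_eq_one this)
        omega
      · exact hwne (by rw [← LinearEquiv.mul_apply]; exact h1 w hw)
  refine hχ ?_
  rw [hχj]
  have hjX : ∀ x ∈ fixX t, ρ j x = x := hj ▸ (hall m).2
  rcases hinvol (hρm j) (hj ▸ (hall m).1) hj2 with h1 | h1
  · rw [show j = 1 from hρi (by
      rw [map_one]
      refine LinearEquiv.ext fun v => ?_
      obtain ⟨x, hx, w, hw, rfl⟩ := hdec v
      rw [map_add, hjX x hx, h1 w hw]; rfl), map_one]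
  · rw [show j = g ^ s from hρi (by
      rw [hzd]
      refine LinearEquiv.ext fun v => ?_
      obtain ⟨x, hx, w, hw, rfl⟩ := hdec v
      rw [map_add, map_add, hjX x hx, h1 w hw, hzX.1 x hx, hzX.2 w hw]), hχz]

/-- An element of odd order in `PSp` lifts. -/
theorem exists_lift {n N : ℕ} (hn : 1 ≤ n) (hN : Odd N) :
    (∃ x : Cfsg.PSp n F, orderOf x = N) ↔ ∃ A : Matrix.symplecticGroup (Fin n) F, orderOf A = N := by
  obtain ⟨p, hp⟩ := CharP.exists F
  obtain ⟨e, hpp, -⟩ := FiniteField.card F p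
  haveI : Fact p.Prime := ⟨hpp⟩
  constructor
  · rintro ⟨x, hx⟩
    obtain ⟨A, rfl⟩ := QuotientGroup.mk_surjective x
    have hx2 : orderOf ((QuotientGroup.mk A : Cfsg.PSp n F) ^ 2) = N := by
      rw [Nat.Coprime.orderOf_pow (hx ▸ Nat.coprime_two_right.2 hN), hx]
    refine ⟨A ^ 2, Nat.dvd_antisymm (orderOf_dvd_of_pow_eq_one ?_) ?_⟩
    · have h1 := pow_orderOf_eq_one (QuotientGroup.mk A : Cfsg.PSp n F)
      rw [hx, ← QuotientGroup.mk_pow, SympSpectra.mk_eq_one_iff hn] at h1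
      rw [← pow_mul, mul_comm, pow_mul]
      refine Subtype.ext ?_
      rw [SubmonoidClass.coe_pow]
      rcases h1 with h1 | h1 <;> rw [h1] <;> simp
    · conv_lhs => rw [← hx2, ← QuotientGroup.mk_pow]
      exact orderOf_map_dvd (QuotientGroup.mk' _) (A ^ 2)
  · rintro ⟨A, hA⟩
    exact ⟨_, (PrimeGraphSp.orderOf_mk p hn A (Or.inl (hA.symm ▸ hN))).trans hA⟩

/-- Elements of `POmega` in odd dimension. -/
theorem exists_omega (h2 : (2 : F) ≠ 0) {n N : ℕ} (hn : 3 ≤ n) :
    (∃ x : Cfsg.POmega F (⇑(qOdd F n)), orderOf x = N) ↔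
      ∃ g : Cfsg.isometryGroup F (⇑(qOdd F n)), g ∈ Cfsg.Omega F (⇑(qOdd F n)) ∧ orderOf g = N := by
  have hZ := Orth.card_center_one (Q := qOdd F n) (Orth.qOdd_nondeg h2 n) (by simp; omega)
    (Or.inr ⟨n, by simp; omega⟩)
  have hinj : Function.Injective (QuotientGroup.mk' (Subgroup.center ↥(Cfsg.Omega F (⇑(qOdd F n))))) :=
    (MonoidHom.ker_eq_bot_iff _).1 (by rw [QuotientGroup.ker_mk']; exact Subgroup.card_eq_one.1 hZ)
  constructor
  · rintro ⟨x, rfl⟩
    obtain ⟨y, rfl⟩ := QuotientGroup.mk_surjective x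
    exact ⟨y, y.2, by rw [Subgroup.orderOf_coe, ← orderOf_injective _ hinj y]; rfl⟩
  · rintro ⟨g, hg, rfl⟩
    exact ⟨_, (orderOf_injective _ hinj ⟨g, hg⟩).trans (Subgroup.orderOf_mk g hg)⟩

/-- The case of the prime two. -/
theorem even_iff (h2 : (2 : F) ≠ 0) {n s : ℕ} (hn : 3 ≤ n) (hs : s.Prime) (hs2 : s ≠ 2) :
    (∃ g : Cfsg.isometryGroup F (⇑(qOdd F n)), g ∈ Cfsg.Omega F (⇑(qOdd F n)) ∧ orderOf g = 2 * s) ↔
      ∃ x : Cfsg.PSp n F, orderOf x = 2 * s := by
  by_cases hd : s ∣ Nat.card (Matrix.symplecticGroup (Fin (n - 1)) F)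
  · obtain ⟨h1, h1'⟩ := even_small h2 hn hs hs2 hd
    exact ⟨fun _ => h1, fun _ => h1'⟩
  have hsF : (s : F) ≠ 0 := fun h => by
    obtain ⟨p, hp⟩ := CharP.exists F
    obtain ⟨e, hpp, -⟩ := FiniteField.card F p
    haveI : Fact p.Prime := ⟨hpp⟩
    obtain rfl : p = s := (Nat.prime_dvd_prime_iff_eq hpp hs).1 ((CharP.cast_eq_zero_iff F p s).1 h)
    exact hd (PrimeGraphSp.char_dvd_card_sp p (by omega))
  exact ⟨fun ⟨g, hg, hgo⟩ => even_odd_to_sp h2 hn hs hs2 hsF hd hg hgo,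
    fun ⟨x, hx⟩ => even_sp_to_odd h2 hn hs hs2 hsF hd hx⟩

/-- The prime graphs coincide. -/
theorem adjacent_iff (h2 : (2 : F) ≠ 0) {n r s : ℕ} (hn : 3 ≤ n) (hr : r.Prime) (hs : s.Prime) (hrs : r ≠ s) :
    (∃ x : Cfsg.POmega F (⇑(qOdd F n)), orderOf x = r * s) ↔ ∃ x : Cfsg.PSp n F, orderOf x = r * s := by
  rw [exists_omega h2 hn]
  rcases eq_or_ne r 2 with rfl | hr2
  · exact even_iff h2 hn hs hrs.symm
  rcases eq_or_ne s 2 with rfl | hs2
  · rw [mul_comm]; exact even_iff h2 hn hr hr2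
  have hodd : Odd (r * s) := (hr.odd_of_ne_two hr2).mul (hs.odd_of_ne_two hs2)
  rw [exists_lift (by omega) hodd]
  have key : ∀ {r s : ℕ}, r.Prime → r ≠ 2 → (r : F) ≠ 0 → s.Prime → s ≠ 2 →
      ((∃ g : Cfsg.isometryGroup F (⇑(qOdd F n)), g ∈ Cfsg.Omega F (⇑(qOdd F n)) ∧ orderOf g = r * s) ↔
        ∃ A : Matrix.symplecticGroup (Fin n) F, orderOf A = r * s) := by
    intro r s hr hr2 hrF hs hs2
    refine ⟨fun ⟨g, _, hg⟩ => odd_to_sp h2 hr (hr.odd_of_ne_two hr2) hrF hs hs2 g hg, fun ⟨A, hA⟩ => ?_⟩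
    obtain ⟨g, hg⟩ := sp_to_odd h2 hr (hr.odd_of_ne_two hr2) hrF hs A hA
    obtain ⟨χ, hker, -, -⟩ := Orth.exists_matrix_spinor (qOdd F n) (Orth.qOdd_nondeg h2 n)
      (by simp; omega) (Or.inr (by simp; omega))
    refine ⟨g, ?_, hg⟩
    rw [← hker, MonoidHom.mem_ker]
    exact spin_eq_one_of_odd χ (hg ▸ (hr.odd_of_ne_two hr2).mul (hs.odd_of_ne_two hs2))
  by_cases hrF : (r : F) = 0
  · rw [mul_comm]
    refine key hs hs2 (fun hsF => ?_) hr hr2
    obtain ⟨p, hp⟩ := CharP.exists F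
    obtain ⟨e, hpp, -⟩ := FiniteField.card F p
    exact hrs (((Nat.prime_dvd_prime_iff_eq hpp hr).1 ((CharP.cast_eq_zero_iff F p r).1 hrF)).symm.trans
      ((Nat.prime_dvd_prime_iff_eq hpp hs).1 ((CharP.cast_eq_zero_iff F p s).1 hsF)))
  · exact key hr hr2 hrF hs hs2

end Cfsg.Agent.PrimeGraphBC
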