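/-
Elements of order `q^(n/2) ± 1` in `PSL_n(q)` and `PSU_n(q)`, `n` even.
-/
import Cfsg.Agent.Lib.Spectra.UnitaryOrders
import Cfsg.Agent.Lib.Classical.PrimeGraphPSL
import Cfsg.Agent.Lib.LocalEven.Zsigmondy
import Mathlib.FieldTheory.IsAlgClosed.AlgebraicClosure
import Mathlib.NumberTheory.Padics.PadicVal.Basic

set_option autoImplicit false

namespace Cfsg.Agent.HalfTorus

open Polynomial Module

theorem gcd_dvd_half_iff {n m k : ℕ} (hn : n = 2 * m) (hm : m ≠ 0) (hk : k ≠ 0) :
    Nat.gcd n k ∣ m ↔ padicValNat 2 k < padicValNat 2 n := by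
  haveI : Fact (Nat.Prime 2) := ⟨Nat.prime_two⟩
  have h2 : padicValNat 2 n = padicValNat 2 m + 1 := by
    rw [hn, padicValNat.mul (by norm_num) hm, padicValNat_self, add_comm]
  obtain ⟨a, ha⟩ : ∃ a, padicValNat 2 n = a := ⟨_, rfl⟩
  have hn0 : n ≠ 0 := by omega
  rw [ha, ← not_le, ← padicValNat_dvd_iff_le hk]
  constructor
  · intro h hdk
    have h1 : 2 ^ a ∣ m := (Nat.dvd_gcd ((padicValNat_dvd_iff_le hn0).2 ha.ge) hdk).trans h
    have h3 := (padicValNat_dvd_iff_le hm).1 h1
    omega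
  · intro h
    obtain ⟨t, ht⟩ := Nat.gcd_dvd_left n k
    rcases Nat.even_or_odd t with ⟨u, hu⟩ | ho
    · refine ⟨u, ?_⟩
      have : 2 * m = 2 * (Nat.gcd n k * u) := by rw [← hn]; conv_lhs => rw [ht, hu]
                                                 ring
      omega
    · refine absurd ?_ h
      refine dvd_trans ?_ (Nat.gcd_dvd_right n k)
      have h1 : 2 ^ a ∣ Nat.gcd n k * t := by rw [← ht]; exact (padicValNat_dvd_iff_le hn0).2 ha.ge
      exact (Nat.Coprime.pow_left a (Nat.prime_two.coprime_iff_not_dvd.2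
        (Nat.not_even_iff_odd.2 ho ∘ even_iff_two_dvd.2))).dvd_of_dvd_mul_right h1

section Orbit

variable {F : Type*} [Field F] {n : ℕ}

local notation "Mn" => Matrix (Fin n) (Fin n) F

/-- roots of the characteristic polynomial in an algebraic closure -/
def Root (M : Mn) (η : AlgebraicClosure F) : Prop :=
  (M.map (algebraMap F (AlgebraicClosure F))).charpoly.IsRoot η

theorem root_iff {M : Mn} {η : AlgebraicClosure F} :
    Root M η ↔ η ∈ spectrum (AlgebraicClosure F) (M.map (algebraMap F (AlgebraicClosure F))) :=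
  Matrix.mem_spectrum_iff_isRoot_charpoly.symm

theorem root_pow {M : Mn} {η : AlgebraicClosure F} (h : Root M η) (k : ℕ) : Root (M ^ k) (η ^ k) := by
  rw [root_iff] at h ⊢
  rw [show (M ^ k).map (algebraMap F (AlgebraicClosure F)) =
      (M.map (algebraMap F (AlgebraicClosure F))) ^ k from map_pow (algebraMap F _).mapMatrix M k]
  exact spectrum.pow_mem_pow _ k h

theorem pow_eq_one_of_root {r : ℕ} {M : Mn} (hn : n ≠ 0) (hM : M ^ r = 1) {η : AlgebraicClosure F}
    (h : Root M η) : η ^ r = 1 := by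
  haveI : Nonempty (Fin n) := ⟨⟨0, by omega⟩⟩
  have h1 := root_iff.1 (root_pow h r)
  rw [hM, Matrix.map_one _ (map_zero _) (map_one _), spectrum.one_eq, Set.mem_singleton_iff] at h1
  exact h1

theorem eq_one_of_nilpotent {r : ℕ} (hr : (r : F) ≠ 0) {M : Mn} (hM : M ^ r = 1)
    (hN : IsNilpotent (M - 1)) : M = 1 := by
  obtain ⟨S, hS⟩ : ∃ S, ∑ i ∈ Finset.range r, M ^ i = S := ⟨_, rfl⟩
  have h0 : (M - 1) * S = 0 := by rw [← hS, mul_geom_sum, hM, sub_self]
  have hunit : IsUnit S := by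
    have e : S = algebraMap F Mn (r : F) + ∑ i ∈ Finset.range r, (M ^ i - 1) := by
      rw [← hS, Finset.sum_sub_distrib]
      simp [Algebra.algebraMap_eq_smul_one, Finset.card_range]
    obtain ⟨c, hc⟩ : ∃ c, ∑ i ∈ Finset.range r, ∑ j ∈ Finset.range i, M ^ j = c := ⟨_, rfl⟩
    have e2 : ∑ i ∈ Finset.range r, (M ^ i - 1) = (M - 1) * c := by
      rw [← hc, Finset.mul_sum]
      exact Finset.sum_congr rfl fun i _ => (mul_geom_sum M i).symm
    have hcomm : Commute (M - 1) c := by
      rw [← hc]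
      exact Commute.sum_right _ _ _ fun i _ => Commute.sum_right _ _ _ fun j _ =>
        ((Commute.refl M).pow_right j).sub_left (Commute.one_left _)
    have hnil : IsNilpotent ((M - 1) * c) := hcomm.isNilpotent_mul_right hN
    rw [e, e2]
    exact hnil.isUnit_add_left_of_commute ((isUnit_iff_ne_zero.2 hr).map (algebraMap F Mn))
      ((Algebra.commute_algebraMap_left _ _).symm)
  exact sub_eq_zero.1 (hunit.mul_left_eq_zero.1 h0)

/-- A fixed vector and a long orbit of eigenvalues are incompatible. -/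
theorem eq_one_of_orbit {r e : ℕ} [Fact r.Prime] (hr : (r : F) ≠ 0)
    (he : orderOf (e : ZMod r) = n) (hn : n ≠ 0) {M : Mn} (hM : M ^ r = 1) (hdet : (M - 1).det = 0)
    (hcl : ∀ η, Root M η → Root M (η ^ e)) : M = 1 := by
  classical
  refine eq_one_of_nilpotent hr hM ?_
  by_cases hall : ∀ η, Root M η → η = 1
  · have h1 : M.charpoly = (X - C 1) ^ n := by
      refine Polynomial.map_injective _ (algebraMap F (AlgebraicClosure F)).injective ?_
      rw [Polynomial.map_pow, Polynomial.map_sub, map_X, map_C, map_one, ← Matrix.charpoly_map,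
        (IsAlgClosed.splits (M.map (algebraMap F (AlgebraicClosure F))).charpoly).eq_prod_roots_of_monic
          (Matrix.charpoly_monic _)]
      rw [Multiset.map_congr rfl (g := fun _ => (X - C (1 : AlgebraicClosure F))) fun a ha => by
          rw [hall a (Polynomial.isRoot_of_mem_roots ha)],
        Multiset.map_const', Multiset.prod_replicate, ← (IsAlgClosed.splits
          (M.map (algebraMap F (AlgebraicClosure F))).charpoly).natDegree_eq_card_roots,
        Matrix.charpoly_natDegree_eq_dim, Fintype.card_fin]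
    refine ⟨n, ?_⟩
    have := M.aeval_self_charpoly
    rwa [h1, map_pow, map_sub, aeval_X, aeval_C, map_one] at this
  push Not at hall
  obtain ⟨η, hη, hη1⟩ := hall
  exfalso
  have hηr := pow_eq_one_of_root hn hM hη
  have hord : orderOf η = r := orderOf_eq_prime hηr hη1
  have horb : ∀ i, Root M (η ^ e ^ i) := by
    intro i
    induction i with
    | zero => simpa using hη
    | succ i ih => rw [pow_succ, pow_mul]; exact hcl _ ih
  have hne : ∀ i, η ^ e ^ i ≠ 1 := fun i h => by
    have h1 := orderOf_dvd_of_pow_eq_one h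
    rw [hord, ← ZMod.natCast_eq_zero_iff, Nat.cast_pow] at h1
    have h2 := pow_orderOf_eq_one (e : ZMod r)
    rw [he, (pow_eq_zero_iff').1 h1 |>.1, zero_pow hn] at h2
    exact zero_ne_one h2
  have hinj : Set.InjOn (fun i => η ^ e ^ i) ↑(Finset.range n) := by
    intro i hi j hj h
    have hfin : IsOfFinOrder η := isOfFinOrder_iff_pow_eq_one.2 ⟨r, (Fact.out : r.Prime).pos, hηr⟩
    have h1 := hfin.pow_eq_pow_iff_modEq.1 h
    rw [hord, ← ZMod.natCast_eq_natCast_iff, Nat.cast_pow, Nat.cast_pow] at h1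
    rw [Finset.coe_range, Set.mem_Iio] at hi hj
    exact pow_injOn_Iio_orderOf (Set.mem_Iio.2 (he.symm ▸ hi)) (Set.mem_Iio.2 (he.symm ▸ hj)) h1
  have h1 : Root M 1 := by
    rw [Root, IsRoot.def, Matrix.eval_charpoly, map_one]
    have h2 : ((M - 1).map (algebraMap F (AlgebraicClosure F))).det = 0 := by
      have h3 := (algebraMap F (AlgebraicClosure F)).map_det (M - 1)
      rw [hdet, map_zero] at h3
      exact h3.symm
    rw [Matrix.map_sub _ (map_sub _), Matrix.map_one _ (map_zero _) (map_one _)] at h2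
    rw [← neg_sub, Matrix.det_neg, h2, mul_zero]
  have hsub : insert 1 ((Finset.range n).image fun i => η ^ e ^ i) ⊆
      (M.map (algebraMap F (AlgebraicClosure F))).charpoly.roots.toFinset := by
    intro x hx
    rw [Multiset.mem_toFinset, mem_roots (Matrix.charpoly_monic _).ne_zero]
    rcases Finset.mem_insert.1 hx with rfl | hx
    · exact h1
    · obtain ⟨i, -, rfl⟩ := Finset.mem_image.1 hx
      exact horb i
  have hc := (Finset.card_le_card hsub).trans ((Multiset.toFinset_card_le _).trans (card_roots' _))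
  rw [Finset.card_insert_of_notMem (by
    intro h; obtain ⟨i, -, hi⟩ := Finset.mem_image.1 h; exact hne i hi),
    Finset.card_image_of_injOn hinj, Finset.card_range, Matrix.charpoly_natDegree_eq_dim,
    Fintype.card_fin] at hc
  omega

/-- splitting off an idempotent -/
theorem split_props {y E : Mn} {r : ℕ} (hE : E * E = E) (hE1 : E ≠ 1) (hy : y ^ r = 1)
    (hc : Commute E y) :
    (1 + (y - 1) * E) ^ r = 1 ∧ ((1 + (y - 1) * E) - 1).det = 0 := by
  refine ⟨?_, ?_⟩
  · have h : ∀ i : ℕ, (1 + (y - 1) * E) ^ i = 1 + (y ^ i - 1) * E := by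
      intro i
      induction i with
      | zero => simp
      | succ i ih =>
        have hcy : E * (y - 1) = (y - 1) * E := (hc.sub_right (Commute.one_right E)).eq
        rw [pow_succ, ih, pow_succ, mul_add, mul_one, add_mul, one_mul, mul_assoc, ← mul_assoc E,
          hcy, mul_assoc (y - 1), hE, ← mul_assoc]
        noncomm_ring
    rw [h, hy, sub_self, zero_mul, add_zero]
  · rw [add_sub_cancel_left, Matrix.det_mul]
    refine mul_eq_zero_of_right _ ?_
    by_contra h
    exact hE1 ((Matrix.isUnit_iff_isUnit_det E).2 (isUnit_iff_ne_zero.2 h) |>.mul_left_cancel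
      (by rw [hE, mul_one]))

end Orbit

section Linear

variable {F : Type*} [Field F] [Fintype F] {n : ℕ}

local notation "Mn" => Matrix (Fin n) (Fin n) F

theorem root_frob {M : Mn} {η : AlgebraicClosure F} (h : Root M η) :
    Root M (η ^ Fintype.card F) := by
  rw [Root, Matrix.charpoly_map, IsRoot.def, eval_map_algebraMap] at h ⊢
  rw [← expand_aeval, FiniteField.expand_card, map_pow, h, zero_pow Fintype.card_ne_zero]

theorem eq_one_of_idem {r : ℕ} [Fact r.Prime] (hr : (r : F) ≠ 0)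
    (hord : orderOf ((Fintype.card F : ℕ) : ZMod r) = n) (hn : n ≠ 0) {y E : Mn} (hy : y ^ r = 1)
    (hE : E * E = E) (h0 : E ≠ 0) (h1 : E ≠ 1) (hc : Commute E y) : y = 1 := by
  obtain ⟨a1, a2⟩ := split_props hE h1 hy hc
  obtain ⟨b1, b2⟩ := split_props (E := 1 - E) (by rw [mul_sub, sub_mul, sub_mul, hE]; simp)
    (fun h => h0 (by simpa using h)) hy ((Commute.one_left y).sub_left hc)
  have e1 := eq_one_of_orbit hr hord hn a1 a2 fun η => root_frob
  have e2 := eq_one_of_orbit hr hord hn b1 b2 fun η => root_frob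
  rw [add_eq_left] at e1 e2
  have : y - 1 = 0 := by
    calc y - 1 = (y - 1) * E + (y - 1) * (1 - E) := by rw [← mul_add, add_sub_cancel, mul_one]
      _ = 0 := by rw [e1, e2, add_zero]
  exact sub_eq_zero.1 this

end Linear

theorem exists_primitive (q j : ℕ) (hq : Odd q) (hq1 : 1 < q) (hj : 3 ≤ j) :
    ∃ r : ℕ, r.Prime ∧ r ≠ 2 ∧ orderOf (q : ZMod r) = j := by
  obtain ⟨r, hr, hd, hmin⟩ := LEZsig.zsigmondy q j hq1 (by omega)
    (fun h => by rw [h.1] at hq; exact absurd hq (by decide)) (fun h => by omega)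
  refine ⟨r, hr, fun h => hmin 1 one_pos (by omega) ?_, ?_⟩
  · obtain ⟨t, ht⟩ := hq
    rw [h, pow_one, ht, Nat.add_sub_cancel]
    exact dvd_mul_right 2 t
  · refine Nat.dvd_antisymm ((PrimeGraphPSL.orderOf_zmod_dvd_iff hq1.le).2 hd) ?_
    have h1 := (PrimeGraphPSL.orderOf_zmod_dvd_iff hq1.le).2 hd
    obtain ⟨o, ho⟩ : ∃ o, orderOf (q : ZMod r) = o := ⟨_, rfl⟩
    rw [ho] at h1 ⊢
    have hpos : 0 < o := Nat.pos_of_ne_zero fun h => by rw [h] at h1; have := Nat.eq_zero_of_zero_dvd h1; omega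
    have : o = j := by
      by_contra hne
      have hlt := lt_of_le_of_ne (Nat.le_of_dvd (by omega) h1) hne
      exact hmin o hpos hlt ((PrimeGraphPSL.orderOf_zmod_dvd_iff hq1.le).1 (ho ▸ dvd_rfl))
    rw [this]

section PSL

open Spectra

variable {F : Type*} [Field F] [Fintype F] {n : ℕ}

local notation "SLn" => Matrix.SpecialLinearGroup (Fin n) F
local notation "PSLn" => Matrix.ProjectiveSpecialLinearGroup (Fin n) F

theorem exists_singer_div (p : ℕ) [Fact p.Prime] [CharP F p] (hn : 1 ≤ n) {L : ℕ}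
    (hL : L * Nat.gcd n (Fintype.card F - 1) = ∑ i ∈ Finset.range n, Fintype.card F ^ i) :
    ∃ x : PSLn, L ∣ orderOf x := by
  haveI : NeZero n := ⟨by omega⟩
  obtain ⟨u, hu⟩ := PrimeGraphPSL.exists_unit_extension (F := F) p (k := n)
    (m := ∑ i ∈ Finset.range n, Fintype.card F ^ i)
    ⟨Fintype.card F - 1, by rw [← geom_sum_mul_of_one_le Fintype.card_pos]⟩
  haveI : Fintype (FiniteField.Extension F p n) := Fintype.ofFinite _
  haveI : Module.Finite F (FiniteField.Extension F p n) := Module.Finite.of_finite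
  let b : Basis (Fin n) F (FiniteField.Extension F p n) :=
    Module.finBasisOfFinrankEq F _ (FiniteField.finrank_extension F p n)
  have hnorm : Algebra.norm F (u : FiniteField.Extension F p n) = 1 := by
    apply (algebraMap F (FiniteField.Extension F p n)).injective
    rw [map_one, FiniteField.algebraMap_norm_eq_pow_sum, FiniteField.finrank_extension,
      Nat.card_eq_fintype_card, ← Units.val_pow_eq_pow_val, ← hu, pow_orderOf_eq_one, Units.val_one]
  let S : SLn := ⟨unitsGL b u, (det_unitsGL b u).trans hnorm⟩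
  refine ⟨QuotientGroup.mk S, ?_⟩
  obtain ⟨D, hD⟩ : ∃ D, orderOf (QuotientGroup.mk S : PSLn) = D := ⟨_, rfl⟩
  have h1 := pow_orderOf_eq_one (QuotientGroup.mk S : PSLn)
  rw [hD, ← QuotientGroup.mk_pow, mk_eq_one_iff] at h1
  obtain ⟨c, hc⟩ := h1
  have hcn : c ^ n = 1 := by
    have h2 := (S ^ D).2
    rw [hc, Matrix.det_smul, Matrix.det_one, mul_one, Fintype.card_fin] at h2
    exact h2
  rw [Matrix.SpecialLinearGroup.coe_pow] at hc
  change (Algebra.leftMulMatrix b (u : FiniteField.Extension F p n)) ^ D = _ at hc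
  have huD : (u : FiniteField.Extension F p n) ^ D = algebraMap F _ c := by
    apply Algebra.leftMulMatrix_injective b
    rw [map_pow, hc, AlgHom.commutes, Algebra.algebraMap_eq_smul_one]
  have hc0 : c ≠ 0 := by
    rintro rfl
    rw [map_zero] at huD
    exact pow_ne_zero _ u.ne_zero huD
  have hcd : c ^ Nat.gcd n (Fintype.card F - 1) = 1 :=
    pow_gcd_eq_one.2 ⟨hcn, FiniteField.pow_card_sub_one_eq_one c hc0⟩
  have h2 : u ^ (D * Nat.gcd n (Fintype.card F - 1)) = 1 := Units.ext (by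
    rw [Units.val_pow_eq_pow_val, Units.val_one, pow_mul, huD, ← map_pow, hcd, map_one])
  have h3 := orderOf_dvd_of_pow_eq_one h2
  rw [hu, ← hL] at h3
  rw [hD]
  exact Nat.dvd_of_mul_dvd_mul_right (Nat.gcd_pos_of_pos_left _ hn) h3

theorem order_dvd (p : ℕ) [Fact p.Prime] [CharP F p] (hn : 1 ≤ n) {r : ℕ} [Fact r.Prime]
    (hr : (r : F) ≠ 0) (hord : orderOf ((Fintype.card F : ℕ) : ZMod r) = n) (s : SLn)
    (hrs : r ∣ orderOf s) {L : ℕ}
    (hL : L * Nat.gcd n (Fintype.card F - 1) = ∑ i ∈ Finset.range n, Fintype.card F ^ i) :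
    orderOf (QuotientGroup.mk s : PSLn) ∣ L := by
  classical
  haveI : Nonempty (Fin n) := ⟨⟨0, hn⟩⟩
  obtain ⟨M, hM⟩ : ∃ M, (s : Matrix (Fin n) (Fin n) F) = M := ⟨_, rfl⟩
  obtain ⟨k, hk⟩ : ∃ k, orderOf s / r = k := ⟨_, rfl⟩
  have hkr : k * r = orderOf s := by rw [← hk]; exact Nat.div_mul_cancel hrs
  have hy : (M ^ k) ^ r = 1 := by
    rw [← pow_mul, hkr, ← hM, ← Matrix.SpecialLinearGroup.coe_pow, pow_orderOf_eq_one,
      Matrix.SpecialLinearGroup.coe_one]
  have hy1 : M ^ k ≠ 1 := by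
    intro h
    rw [← hM, ← Matrix.SpecialLinearGroup.coe_pow] at h
    have h1 : s ^ k = 1 := Subtype.ext h
    have h2 := orderOf_pow_orderOf_div (orderOf_pos s).ne' hrs
    rw [hk, h1, orderOf_one] at h2
    exact (Fact.out : r.Prime).ne_one h2.symm
  rcases idempotent_or_primary M with ⟨f, hfm, hf, hnil, e, he⟩ | ⟨E, hE, h0, h1, hc⟩
  swap
  · exact absurd (eq_one_of_idem hr hord (by omega) hy hE h0 h1 (hc.pow_right k)) hy1
  haveI : Fact (Irreducible f) := ⟨hf⟩
  haveI : Module.Finite F (AdjoinRoot f) := hfm.finite_adjoinRoot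
  obtain ⟨hdet, hed⟩ := UnitarySpectra.det_eq_norm_pow M hfm he
  rw [Fintype.card_fin] at hed
  obtain ⟨hfix, hnorm⟩ := UnitarySpectra.root_pow_card (F := F) hfm
  obtain ⟨θ, hθ⟩ : ∃ θ, AdjoinRoot.root f = θ := ⟨_, rfl⟩
  have hθ0 : θ ≠ 0 := by
    intro h
    rw [← hM, s.det_coe, hθ, h, Algebra.norm_zero] at hdet
    rcases Nat.eq_zero_or_pos e with he0 | he0
    · rw [he0, zero_mul] at hed; omega
    · rw [zero_pow he0.ne'] at hdet; exact one_ne_zero hdet
  have hθq : θ ^ (Fintype.card F ^ f.natDegree - 1) = 1 := by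
    have h1 := hfix θ
    rw [← Nat.sub_add_cancel (Nat.one_le_pow f.natDegree _ (Fintype.card_pos (α := F))), pow_succ,
      mul_eq_right₀ hθ0] at h1
    exact h1
  have haev : ∀ P : F[X], f ∣ P ↔ aeval θ P = 0 := fun P => by
    rw [← hθ, AdjoinRoot.aeval_eq, AdjoinRoot.mk_eq_zero]
  have hnilP : ∀ P : F[X], f ∣ P → IsNilpotent (aeval M P) := by
    rintro P ⟨g, rfl⟩
    rw [map_mul]
    exact ((Commute.all f g).map (aeval M)).isNilpotent_mul_right hnil
  have hdeg : f.natDegree = n := by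
    by_contra hne
    have hle : f.natDegree ≤ n := hed ▸ Nat.le_mul_of_pos_left _ (Nat.pos_of_ne_zero fun h => by
      rw [h, zero_mul] at hed; omega)
    have hlt : f.natDegree < n := lt_of_le_of_ne hle hne
    have hθN : θ ^ (k * r) = 1 := by
      have h1 := minpoly.dvd F M (p := X ^ (k * r) - 1) (by
        rw [map_sub, map_pow, aeval_X, map_one, pow_mul, hy, sub_self])
      have h2 := (Spectra.dvd_minpoly_of_dvd_charpoly M hf (by
        rw [he]; exact dvd_pow_self f fun h => by rw [h, zero_mul] at hed; omega)).trans h1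
      rw [haev, map_sub, map_pow, aeval_X, map_one, sub_eq_zero] at h2
      exact h2
    have hg : θ ^ k = 1 := by
      have h1 := pow_gcd_eq_one.2 ⟨hθN, hθq⟩
      have hco : Nat.Coprime (Fintype.card F ^ f.natDegree - 1) r := by
        rw [Nat.coprime_comm, (Fact.out : r.Prime).coprime_iff_not_dvd]
        intro h
        have h2 := Nat.le_of_dvd hf.natDegree_pos
          ((PrimeGraphPSL.orderOf_zmod_dvd_iff Fintype.card_pos).2 h)
        omega
      rw [Nat.gcd_comm, Nat.Coprime.gcd_mul_right_cancel_right k hco.symm] at h1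
      obtain ⟨t, ht⟩ := Nat.gcd_dvd_right (Fintype.card F ^ f.natDegree - 1) k
      rw [ht, pow_mul, h1, one_pow]
    have h3 := hnilP (X ^ k - 1) ((haev _).2 (by simp [hg]))
    rw [map_sub, map_pow, aeval_X, map_one] at h3
    exact hy1 (eq_one_of_nilpotent hr hy h3)
  have he1 : e = 1 := by
    rw [hdeg] at hed
    exact Nat.eq_of_mul_eq_mul_right hn (hed.trans (one_mul n).symm)
  rw [he1, pow_one, ← hM, s.det_coe, hθ] at hdet
  have hθS : θ ^ (∑ i ∈ Finset.range n, Fintype.card F ^ i) = 1 := by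
    rw [← hdeg, ← hnorm θ, ← hdet, map_one]
  have hθL : (θ ^ L) ^ Fintype.card F = θ ^ L := by
    obtain ⟨t, ht⟩ := Nat.gcd_dvd_right n (Fintype.card F - 1)
    have h1 : (θ ^ L) ^ (Fintype.card F - 1) = 1 := by
      rw [ht, ← pow_mul, ← mul_assoc, hL, pow_mul, hθS, one_pow]
    rw [← Nat.sub_add_cancel (Fintype.card_pos (α := F)), pow_succ, h1, one_mul]
  obtain ⟨c, hc⟩ := UnitarySpectra.mem_range_of_pow_card hθL
  refine orderOf_dvd_of_pow_eq_one ?_
  rw [← QuotientGroup.mk_pow, mk_eq_one_iff]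
  refine ⟨c, ?_⟩
  obtain ⟨g, hg⟩ := (haev (X ^ L - C c)).2 (by rw [map_sub, map_pow, aeval_X, aeval_C, hc, sub_self])
  have h1 := congrArg (aeval M) hg
  rw [map_mul, show f = M.charpoly by rw [he, he1, pow_one], M.aeval_self_charpoly, zero_mul, map_sub,
    map_pow, aeval_X, aeval_C, sub_eq_zero, Algebra.algebraMap_eq_smul_one] at h1
  rw [Matrix.SpecialLinearGroup.coe_pow, hM]
  exact h1

theorem psl_half {q : ℕ} (hF : Fintype.card F = q) (hodd : Odd q) (hn : 4 ≤ n) (heven : Even n) :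
    (∃ g : PSLn, orderOf g = q ^ (n / 2) + 1) ↔ padicValNat 2 (q - 1) < padicValNat 2 n := by
  classical
  obtain ⟨p, hp⟩ := CharP.exists F
  haveI : Fact p.Prime := ⟨by obtain ⟨-, hpp, -⟩ := FiniteField.card F p; exact hpp⟩
  subst hF
  obtain ⟨m, rfl⟩ := heven
  have hhalf : (m + m) / 2 = m := by omega
  have hq1 : 1 < Fintype.card F := Fintype.one_lt_card
  rw [hhalf, ← gcd_dvd_half_iff (two_mul m).symm (by omega) (by omega)]
  obtain ⟨d, hd⟩ : ∃ d, Nat.gcd (m + m) (Fintype.card F - 1) = d := ⟨_, rfl⟩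
  have hqd : ((Fintype.card F : ℕ) : ZMod d) = 1 := by
    have h := (ZMod.natCast_eq_zero_iff _ _).2 (hd ▸ Nat.gcd_dvd_right (m + m) (Fintype.card F - 1))
    rwa [Nat.cast_sub hq1.le, Nat.cast_one, sub_eq_zero] at h
  have hmod : d ∣ ∑ i ∈ Finset.range m, Fintype.card F ^ i ↔ d ∣ m := by
    rw [← ZMod.natCast_eq_zero_iff, ← ZMod.natCast_eq_zero_iff]
    simp [hqd]
  have hsum : ∑ i ∈ Finset.range (m + m), Fintype.card F ^ i =
      (Fintype.card F ^ m + 1) * ∑ i ∈ Finset.range m, Fintype.card F ^ i := by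
    rw [Finset.sum_range_add, add_mul, one_mul, Finset.mul_sum, add_comm]
    simp [pow_add]
  obtain ⟨L, hL⟩ : d ∣ ∑ i ∈ Finset.range (m + m), Fintype.card F ^ i := by
    rw [← ZMod.natCast_eq_zero_iff]
    have h := (ZMod.natCast_eq_zero_iff (m + m) d).2 (hd ▸ Nat.gcd_dvd_left (m + m) (Fintype.card F - 1))
    simp [hqd]
    simpa using h
  have hL' : L * Nat.gcd (m + m) (Fintype.card F - 1) = ∑ i ∈ Finset.range (m + m), Fintype.card F ^ i := by
    rw [hd, hL, mul_comm]
  rw [hd, ← hmod]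
  constructor
  · rintro ⟨g, hg⟩
    obtain ⟨r, hr, -, hro⟩ := exists_primitive (Fintype.card F) (m + m) hodd hq1 (by omega)
    haveI : Fact r.Prime := ⟨hr⟩
    have hrO : r ∣ Fintype.card F ^ m + 1 := by
      have h1 := (PrimeGraphPSL.orderOf_zmod_dvd_iff hq1.le).1 (dvd_of_eq hro)
      rw [show Fintype.card F ^ (m + m) - 1 = (Fintype.card F ^ m + 1) * (Fintype.card F ^ m - 1) by
        simpa [pow_add, sq] using Nat.sq_sub_sq (Fintype.card F ^ m) 1] at h1
      refine (hr.dvd_mul.1 h1).resolve_right fun h => ?_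
      have h2 := (PrimeGraphPSL.orderOf_zmod_dvd_iff hq1.le).2 h
      rw [hro] at h2
      have := Nat.le_of_dvd (by omega) h2
      omega
    have hrp : (r : F) ≠ 0 := by
      rw [Ne, CharP.cast_eq_zero_iff F p, Nat.prime_dvd_prime_iff_eq Fact.out hr]
      rintro rfl
      obtain ⟨a, -, ha⟩ := FiniteField.card F p
      have h1 : p ∣ Fintype.card F ^ m := dvd_pow (ha ▸ dvd_pow_self p a.ne_zero) (by omega)
      exact hr.not_dvd_one ((Nat.dvd_add_right h1).1 hrO)
    obtain ⟨s, rfl⟩ := QuotientGroup.mk_surjective g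
    have hrs : r ∣ orderOf s := hrO.trans (hg ▸ orderOf_map_dvd (QuotientGroup.mk' _) s)
    obtain ⟨t, ht⟩ := hg ▸ order_dvd p (by omega) hrp hro s hrs hL'
    rw [hsum, ht, ← mul_assoc, mul_comm d, mul_assoc] at hL
    exact ⟨t, Nat.eq_of_mul_eq_mul_left (by omega) hL⟩
  · rintro ⟨t, ht⟩
    have hLt : L = (Fintype.card F ^ m + 1) * t := by
      rw [hsum, ht, ← mul_assoc, mul_comm _ d, mul_assoc] at hL
      exact (Nat.eq_of_mul_eq_mul_left (hd ▸ Nat.gcd_pos_of_pos_left _ (by omega)) hL).symm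
    obtain ⟨x, hx⟩ := exists_singer_div (n := m + m) p (by omega) hL'
    exact ⟨_, orderOf_pow_orderOf_div (orderOf_pos x).ne' ((hLt ▸ dvd_mul_right _ t).trans hx)⟩

end PSL

section PSU

open UnitarySpectra

variable {F : Type*} [Field F] [Fintype F] {n q : ℕ}

local notation "Mn" => Matrix (Fin n) (Fin n) F

theorem root_unitary (p a : ℕ) [Fact p.Prime] [CharP F p] (hq : q = p ^ a) {σ : F ≃+* F}
    (hσ : ∀ x, σ x = x ^ q) {r : ℕ} [Fact r.Prime] (hn : n ≠ 0) {M : Mn} (hM : M ^ r = 1)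
    (hu : adj σ M * M = 1) {η : AlgebraicClosure F} (h : Root M η) : Root M (η ^ (q * (r - 1))) := by
  haveI : ExpChar (AlgebraicClosure F) p := by
    haveI := charP_of_injective_algebraMap (algebraMap F (AlgebraicClosure F)).injective p
    exact ExpChar.prime Fact.out
  have hr1 := (Fact.out : r.Prime).two_le
  have hadj : adj σ M = M ^ (r - 1) := left_inv_eq_right_inv hu (by
    rw [← pow_succ', Nat.sub_add_cancel (by omega), hM])
  have hq1 : Root (M ^ (r - 1)) (η ^ q) := by
    rw [← hadj, Root, Matrix.charpoly_map, adj, Matrix.charpoly_transpose,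
      show (M.map σ).charpoly = M.charpoly.map (σ : F →+* F) from Matrix.charpoly_map M (σ : F →+* F),
      Polynomial.map_map, IsRoot.def]
    rw [Root, Matrix.charpoly_map, IsRoot.def] at h
    obtain ⟨Φ, hΦ⟩ : ∃ Φ : AlgebraicClosure F →+* AlgebraicClosure F, ∀ x, Φ x = x ^ q :=
      ⟨iterateFrobenius (AlgebraicClosure F) p a, fun x => by rw [iterateFrobenius_def, ← hq]⟩
    have hcomp : (algebraMap F (AlgebraicClosure F)).comp (σ : F →+* F) =
        Φ.comp (algebraMap F (AlgebraicClosure F)) :=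
      RingHom.ext fun x => by simp [hΦ, hσ]
    rw [hcomp, ← Polynomial.map_map, ← hΦ, eval_map_apply, h, map_zero]
  have h2 := root_pow hq1 (r - 1)
  rwa [← pow_mul, ← pow_mul, show M ^ ((r - 1) * (r - 1)) = M by
    obtain ⟨j, hj⟩ : ∃ j, r = j + 2 := ⟨r - 2, by omega⟩
    rw [show (r - 1) * (r - 1) = r * j + 1 by subst hj; simp; ring, pow_succ, pow_mul, hM, one_pow,
      one_mul]] at h2

theorem split_unitary {σ : F ≃+* F} {r : ℕ} (hr : 1 ≤ r) {y E : Mn} (hE : E * E = E)
    (hEa : adj σ E = E) (hy : y ^ r = 1) (hu : adj σ y * y = 1) (hc : Commute E y) :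
    adj σ (1 + (y - 1) * E) * (1 + (y - 1) * E) = 1 := by
  have hadj : adj σ y = y ^ (r - 1) := left_inv_eq_right_inv hu (by
    rw [← pow_succ', Nat.sub_add_cancel hr, hy])
  have hca : Commute E (adj σ y) := hadj ▸ hc.pow_right _
  rw [adj_add, adj_one, adj_mul, adj_sub, adj_one, hEa, (hca.sub_right (Commute.one_right E)).eq]
  have e1 : (adj σ y - 1) * E * ((y - 1) * E) = (adj σ y * y - y - adj σ y + 1) * E := by
    rw [mul_assoc, ← mul_assoc E, (hc.sub_right (Commute.one_right E)).eq, mul_assoc (y - 1), hE,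
      ← mul_assoc]
    congr 1
    noncomm_ring
  rw [mul_add, mul_one, add_mul, one_mul, e1, hu]
  noncomm_ring

theorem psu_half (hF : Fintype.card F = q ^ 2) (hodd : Odd q) (hn : 4 ≤ n) (heven : Even n) :
    (∃ g : Cfsg.PSU n F q, orderOf g = if Even (n / 2) then q ^ (n / 2) + 1 else q ^ (n / 2) - 1) ↔
      padicValNat 2 (q + 1) < padicValNat 2 n := by
  classical
  obtain ⟨p, hp⟩ := CharP.exists F
  obtain ⟨a2, hpp, hcard⟩ := FiniteField.card F p
  haveI : Fact p.Prime := ⟨hpp⟩
  obtain ⟨a, -, hq⟩ : ∃ a ≤ (a2 : ℕ), q = p ^ a :=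
    (Nat.dvd_prime_pow hpp).1 (by rw [← hcard, hF, sq]; exact dvd_mul_right q q)
  haveI : ExpChar F p := ExpChar.prime hpp
  have hq2 : 2 ≤ q := by
    rcases hodd with ⟨t, rfl⟩
    rcases t with _ | t
    · have := Fintype.one_lt_card (α := F); simp [hF] at this
    · omega
  obtain ⟨σ, hσ⟩ : ∃ σ : F ≃+* F, ∀ x, σ x = x ^ q :=
    ⟨RingEquiv.ofBijective (iterateFrobenius F p a)
      (Finite.injective_iff_bijective.1 (RingHom.injective _)),
      fun x => by simp [iterateFrobenius_def, hq]⟩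
  have hσσ : ∀ x, σ (σ x) = x := fun x => by
    rw [hσ, hσ, ← pow_mul, ← sq, ← hF, FiniteField.pow_card]
  obtain ⟨w, hw⟩ := IsCyclic.exists_ofOrder_eq_natCard (α := Fˣ)
  rw [Nat.card_units, Nat.card_eq_fintype_card, hF] at hw
  have hσ2 : orderOf σ = 2 := by
    have : Fact (Nat.Prime 2) := ⟨Nat.prime_two⟩
    refine orderOf_eq_prime (RingEquiv.ext fun x => by rw [sq]; exact hσσ x) fun h => ?_
    have h1 : w ^ q = w ^ 1 := Units.ext (by rw [Units.val_pow_eq_pow_val, ← hσ, h]; simp)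
    have h4 : 2 * q ≤ q ^ 2 := by rw [sq]; exact Nat.mul_le_mul_right q hq2
    have := pow_injOn_Iio_orderOf (Set.mem_Iio.2 (by omega)) (Set.mem_Iio.2 (by omega)) h1
    omega
  obtain ⟨ζ, hζ, hζ1⟩ : ∃ ζ : F, σ ζ * ζ = 1 ∧ ζ ≠ 1 := by
    refine ⟨-1, ?_, fun h => ?_⟩
    · rw [map_neg, map_one]; ring
    · have h2 : ((2 : ℕ) : F) = 0 := by push_cast; linear_combination -h
      rw [CharP.cast_eq_zero_iff F p, Nat.prime_dvd_prime_iff_eq hpp Nat.prime_two] at h2
      rw [hq, h2] at hodd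
      rcases a with _ | a
      · rw [pow_zero] at hq; omega
      · exact Nat.not_even_iff_odd.2 hodd (even_iff_two_dvd.2 (dvd_pow_self 2 (by omega)))
  obtain ⟨m, rfl⟩ := heven
  have hhalf : (m + m) / 2 = m := by omega
  rw [hhalf, ← gcd_dvd_half_iff (two_mul m).symm (by omega) (by omega)]
  obtain ⟨d, hd⟩ : ∃ d, Nat.gcd (m + m) (q + 1) = d := ⟨_, rfl⟩
  rw [hd]
  obtain ⟨O, hO⟩ : ∃ O, (if Even m then q ^ m + 1 else q ^ m - 1) = O := ⟨_, rfl⟩
  rw [hO]
  have hqm : 1 ≤ q ^ m := Nat.one_le_pow _ _ (by omega)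
  have hOz : (O : ℤ) = (q : ℤ) ^ m + (-1) ^ m := by
    rw [← hO]
    rcases Nat.even_or_odd m with h | h
    · rw [if_pos h, h.neg_one_pow]; push_cast; ring
    · rw [if_neg (Nat.not_even_iff_odd.2 h), h.neg_one_pow, Nat.cast_sub hqm]; push_cast; ring
  have hO0 : 0 < O := by
    rw [← hO]; have : q ≤ q ^ m := Nat.le_self_pow (by omega) q
    split_ifs <;> omega
  obtain ⟨A, hA⟩ : ∃ A : ℕ, ((q : ℤ) + 1) * A = (q : ℤ) ^ m - (-1) ^ m := by
    obtain ⟨S, hS⟩ : ∃ S : ℤ, S = ∑ i ∈ Finset.range m, (q : ℤ) ^ i * (-1 : ℤ) ^ (m - 1 - i) := ⟨_, rfl⟩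
    have h : S * ((q : ℤ) + 1) = (q : ℤ) ^ m - (-1) ^ m := by
      rw [hS, ← geom_sum₂_mul, sub_neg_eq_add]
    refine ⟨S.toNat, ?_⟩
    have hnn : 0 ≤ S := by
      by_contra hneg
      push Not at hneg
      have h1 : (q : ℤ) ^ m - (-1) ^ m < 0 := h ▸ mul_neg_of_neg_of_pos hneg (by omega)
      have h2 : (1 : ℤ) ≤ (q : ℤ) ^ m := one_le_pow₀ (by omega)
      rcases Nat.even_or_odd m with he | ho
      · rw [he.neg_one_pow] at h1; omega
      · rw [ho.neg_one_pow] at h1; omega
    rw [Int.toNat_of_nonneg hnn]; linear_combination h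
  have hN0 : ((q : ℤ) + 1) * ((O * A : ℕ) : ℤ) = (q : ℤ) ^ (m + m) - (-1) ^ (m + m) := by
    push_cast
    rw [hOz, pow_add, pow_add]
    linear_combination ((q : ℤ) ^ m + (-1) ^ m) * hA
  have hdN : d ∣ O * A := by
    rw [← hd, ← gcd_quot (n := m + m) (by omega) hN0]; exact Nat.gcd_dvd_left _ _
  have hdA : d ∣ A ↔ d ∣ m := by
    have h1 := gcd_quot (n := m) (by omega) hA
    have h2 : d ∣ q + 1 := hd ▸ Nat.gcd_dvd_right _ _
    exact ⟨fun h => (h1 ▸ Nat.dvd_gcd h h2).trans (Nat.gcd_dvd_left _ _),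
      fun h => (h1.symm ▸ Nat.dvd_gcd h h2).trans (Nat.gcd_dvd_left _ _)⟩
  have hd0 : 0 < d := hd ▸ Nat.gcd_pos_of_pos_right _ (by omega)
  rw [← hdA]
  constructor
  · rintro ⟨g, hg⟩
    obtain ⟨r, hr, hr2, hrp, hrO, hre⟩ : ∃ r : ℕ, r.Prime ∧ r ≠ 2 ∧ (r : F) ≠ 0 ∧ r ∣ O ∧
        orderOf ((q * (r - 1) : ℕ) : ZMod r) = m + m := by
      obtain ⟨r, hr, hr2, hro⟩ := exists_primitive q (if Even m then m + m else m) hodd (by omega) (by
        split_ifs with h
        · omega
        · rcases Nat.not_even_iff_odd.1 h with ⟨t, rfl⟩; omega)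
      haveI : Fact r.Prime := ⟨hr⟩
      haveI : Fact (2 < r) := ⟨by have := hr.two_le; omega⟩
      have hpow : ∀ j, (q : ZMod r) ^ j = 1 ↔ orderOf (q : ZMod r) ∣ j := fun j =>
        orderOf_dvd_iff_pow_eq_one.symm
      have hrO : r ∣ O := by
        rw [← hO]
        by_cases h : Even m
        · rw [if_pos h] at hro ⊢
          have h1 := (PrimeGraphPSL.orderOf_zmod_dvd_iff (r := r) (j := m + m) (by omega : 1 ≤ q)).1
            (dvd_of_eq hro)
          rw [show q ^ (m + m) - 1 = (q ^ m + 1) * (q ^ m - 1) by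
            simpa [pow_add, sq] using Nat.sq_sub_sq (q ^ m) 1] at h1
          refine (hr.dvd_mul.1 h1).resolve_right fun h2 => ?_
          have h3 := (PrimeGraphPSL.orderOf_zmod_dvd_iff (by omega)).2 h2
          rw [hro] at h3
          have := Nat.le_of_dvd (by omega) h3
          omega
        · rw [if_neg h] at hro ⊢
          exact (PrimeGraphPSL.orderOf_zmod_dvd_iff (by omega)).1 (dvd_of_eq hro)
      refine ⟨r, hr, hr2, ?_, hrO, ?_⟩
      · rw [Ne, CharP.cast_eq_zero_iff F p, Nat.prime_dvd_prime_iff_eq hpp hr]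
        rintro rfl
        have h1 : ((q : ℕ) : ZMod p) = 0 := by
          rw [ZMod.natCast_eq_zero_iff, hq]; exact dvd_pow_self p (by rintro rfl; simp at hq; omega)
        rw [h1, orderOf_zero] at hro
        split_ifs at hro <;> omega
      · rw [show ((q * (r - 1) : ℕ) : ZMod r) = -(q : ZMod r) by
          rw [Nat.cast_mul, Nat.cast_sub (by have := hr.two_le; omega), ZMod.natCast_self]; simp]
        rw [orderOf_eq_iff (by omega)]
        refine ⟨?_, fun j hj hj0 hje => ?_⟩
        · rw [(show Even (m + m) from ⟨m, rfl⟩).neg_pow, hpow, hro]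
          split_ifs
          · exact dvd_rfl
          · exact ⟨2, by ring⟩
        · have h1 : (q : ZMod r) ^ (2 * j) = 1 := by
            rw [pow_mul, ← neg_sq, ← pow_mul, mul_comm, pow_mul, hje, one_pow]
          rw [hpow, hro] at h1
          by_cases h : Even m
          · rw [if_pos h] at hro h1
            obtain ⟨c, hc⟩ := h1
            rcases c with _ | _ | c
            · omega
            · have hjm : j = m := by omega
              rw [hjm, h.neg_pow, hpow, hro] at hje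
              have := Nat.le_of_dvd (by omega) hje
              omega
            · have := Nat.mul_le_mul_left (m + m) (show 2 ≤ c + 1 + 1 by omega)
              omega
          · rw [if_neg h] at hro h1
            have ho := Nat.not_even_iff_odd.1 h
            have h3 : m ∣ j := (Nat.Coprime.dvd_of_dvd_mul_left
              (Nat.coprime_two_right.2 ho) h1)
            obtain ⟨c, hc⟩ := h3
            rcases c with _ | _ | c
            · omega
            · have hjm : j = m := by omega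
              rw [hjm, ho.neg_pow, (hpow m).2 (dvd_of_eq hro)] at hje
              exact ZMod.neg_one_ne_one hje
            · have := Nat.mul_le_mul_left m (show 2 ≤ c + 1 + 1 by omega)
              omega
    haveI : Fact r.Prime := ⟨hr⟩
    obtain ⟨s, rfl⟩ := QuotientGroup.mk_surjective g
    have hrs : r ∣ orderOf s := hrO.trans (hg ▸ orderOf_map_dvd (QuotientGroup.mk' _) s)
    rcases bound p a hq hF σ hσ (by omega) hζ hζ1 (O * A) hN0 s with ⟨E, hE, hEa, h0, h1, hc⟩ | h
    · exfalso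
      obtain ⟨y, hy⟩ : ∃ y, ((s : Matrix.SpecialLinearGroup (Fin (m + m)) F) :
          Matrix (Fin (m + m)) (Fin (m + m)) F) ^ (orderOf s / r) = y := ⟨_, rfl⟩
      have ho := orderOf_pow_orderOf_div (orderOf_pos s).ne' hrs
      have hyr : y ^ r = 1 := by
        rw [← hy, ← pow_mul, Nat.div_mul_cancel hrs, ← coe_pow_SU, pow_orderOf_eq_one]; rfl
      have hyu : adj σ y * y = 1 := by
        rw [← hy, ← coe_pow_SU]; exact (mem_SU_iff σ hσ _).1 (s ^ (orderOf s / r)).2
      have hcy : Commute E y := hy ▸ hc.pow_right _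
      have key : ∀ E' : Matrix (Fin (m + m)) (Fin (m + m)) F, E' * E' = E' → adj σ E' = E' → E' ≠ 1 →
          Commute E' y → (y - 1) * E' = 0 := by
        intro E' hE' hEa' hE1' hc'
        obtain ⟨c1, c2⟩ := split_props hE' hE1' hyr hc'
        have := eq_one_of_orbit hrp hre (by omega) c1 c2 fun η => root_unitary p a hq hσ (by omega) c1
          (split_unitary hr.one_lt.le hE' hEa' hyr hyu hc')
        rwa [add_eq_left] at this
      have e1 := key E hE hEa h1 hcy
      have e2 := key (1 - E) (by rw [mul_sub, sub_mul, sub_mul, hE]; simp)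
        (by rw [adj_sub, adj_one, hEa]) (fun h => h0 (by simpa using h)) ((Commute.one_left y).sub_left hcy)
      rw [mul_sub, mul_one, e1, sub_zero, sub_eq_zero] at e2
      have h3 : s ^ (orderOf s / r) = 1 := by
        refine Subtype.ext (Subtype.ext ?_)
        rw [coe_pow_SU, hy, e2]; rfl
      rw [h3, orderOf_one] at ho
      exact hr.ne_one ho.symm
    · have h2 := orderOf_dvd_of_pow_eq_one h
      rw [hg, hd] at h2
      have hOp : Nat.Coprime O (p ^ Nat.clog p (m + m)) := by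
        refine Nat.Coprime.pow_right _ (Nat.coprime_comm.1 (hpp.coprime_iff_not_dvd.2 fun hdvd => ?_))
        have h4 : ((O : ℤ) : ZMod p) = 0 := by
          rw [Int.cast_natCast, ZMod.natCast_eq_zero_iff]; exact hdvd
        have h5 : ((q : ℕ) : ZMod p) = 0 := by
          rw [ZMod.natCast_eq_zero_iff, hq]; exact dvd_pow_self p (by rintro rfl; simp at hq; omega)
        rw [hOz] at h4; push_cast at h4
        rw [h5, zero_pow (by omega), zero_add] at h4
        exact pow_ne_zero m (neg_ne_zero.2 one_ne_zero) h4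
      obtain ⟨t, ht⟩ := hOp.dvd_of_dvd_mul_right h2
      refine ⟨t, ?_⟩
      have h6 := Nat.div_mul_cancel hdN
      rw [ht, mul_assoc] at h6
      rw [← Nat.eq_of_mul_eq_mul_left hO0 h6, mul_comm]
  · rintro ⟨t, ht⟩
    obtain ⟨g, hg, -⟩ := exists_torus (n := m + m) p a hq hF σ hσ hσ2 (by omega) hζ hζ1 (O * A) hN0
    refine ⟨_, orderOf_pow_orderOf_div (orderOf_pos g).ne' (dvd_trans ?_ hg)⟩
    rw [hd, ht, mul_comm d, ← mul_assoc, Nat.mul_div_cancel _ hd0]
    exact dvd_mul_right O t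

end PSU

end Cfsg.Agent.HalfTorus
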