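import Cfsg.Agent.Lib.AutPOmega.SemisimpleRot
import Cfsg.Agent.Lib.LocalEven.Zsigmondy
import Cfsg.Agent.Lib.Orthogonal.OmegaTheory
import Mathlib.LinearAlgebra.Projection
import Mathlib.LinearAlgebra.Eigenspace.Zero
import Mathlib.GroupTheory.Perm.Cycle.Type
import Mathlib.RingTheory.IntegralDomain

/-!
No element of order `p (q^m + 1)` in the Omega group of a quadratic space of dimension `2m + 3`, `q` odd.
-/

set_option autoImplicit false

namespace Cfsg.Agent.OddOrthMixed

open Module QuadraticMap Polynomial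
open Cfsg.Agent.Orth (SpinVal reflVal sgn)
open Cfsg.Agent.Transvec (mv)

section Linear

variable {F : Type*} [Field F] {V : Type*} [AddCommGroup V] [Module F V]

theorem pow_apply_eq_self {T : Module.End F V} {x : V} (h : T x = x) : ∀ j : ℕ, (T ^ j) x = x := by
  intro j
  induction j with
  | zero => rfl
  | succ j ih => rw [pow_succ, Module.End.mul_apply, h, ih]

theorem pow_apply_eq_smul {T : Module.End F V} {x : V} {c : F} (h : T x = c • x) :
    ∀ j : ℕ, (T ^ j) x = c ^ j • x := by
  intro j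
  induction j with
  | zero => simp
  | succ j ih => rw [pow_succ, Module.End.mul_apply, h, map_smul, ih, smul_smul, pow_succ']

theorem pow_mem_sub {T : Module.End F V} {U : Submodule F V} (hU : ∀ x ∈ U, T x ∈ U) {x : V} (hx : x ∈ U) :
    ∀ j : ℕ, (T ^ j) x ∈ U := by
  intro j
  induction j with
  | zero => exact hx
  | succ j ih => rw [pow_succ', Module.End.mul_apply]; exact hU _ ih

theorem restrict_pow_apply {T : Module.End F V} {U : Submodule F V} (hU : ∀ x ∈ U, T x ∈ U) :
    ∀ (j : ℕ) (u : U), ((((T.restrict hU : Module.End F U) ^ j) u : U) : V) = (T ^ j) u := by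
  intro j
  induction j with
  | zero => intro u; rfl
  | succ j ih =>
    intro u
    rw [pow_succ, Module.End.mul_apply, pow_succ, Module.End.mul_apply, ih]
    rfl

/-- An endomorphism of prime order splits the space into fixed and moved part. -/
theorem isCompl_ker_range [FiniteDimensional F V] {T : Module.End F V} {r : ℕ} (hr : (r : F) ≠ 0)
    (hT : T ^ r = 1) : IsCompl (LinearMap.ker (T - 1)) (LinearMap.range (T - 1)) := by
  have hd : Disjoint (LinearMap.ker (T - 1)) (LinearMap.range (T - 1)) := by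
    rw [Submodule.disjoint_def]
    rintro x hx ⟨y, rfl⟩
    rw [LinearMap.mem_ker, LinearMap.sub_apply, Module.End.one_apply, sub_eq_zero] at hx
    obtain ⟨x, hxd⟩ : ∃ x, x = (T - 1) y := ⟨_, rfl⟩
    rw [← hxd] at hx ⊢
    have hTy : T y = y + x := by rw [hxd, LinearMap.sub_apply, Module.End.one_apply, add_sub_cancel]
    have key : ∀ j : ℕ, (T ^ j) y = y + (j : F) • x := fun j => by
      induction j with
      | zero => simp
      | succ j ih =>
        rw [pow_succ', Module.End.mul_apply, ih, map_add, map_smul, hx, hTy, Nat.cast_succ, add_smul, one_smul]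
        abel
    have h := key r
    rw [hT, Module.End.one_apply, left_eq_add, smul_eq_zero] at h
    exact h.resolve_left hr
  refine ⟨hd, codisjoint_iff.2 (Submodule.eq_top_of_disjoint _ _ ?_ hd)⟩
  rw [add_comm, LinearMap.finrank_range_add_finrank_ker]

end Linear

section

variable {ι : Type} [Fintype ι] [DecidableEq ι] {F : Type*} [Field F] {q : QuadraticForm F (ι → F)}

/-- The endomorphism of an isometry. -/
def toEnd (q : QuadraticForm F (ι → F)) : Cfsg.isometryGroup F (⇑q) →* Module.End F (ι → F) :=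
  ((Matrix.toLinAlgEquiv' (R := F) (n := ι)).toAlgHom.toRingHom.toMonoidHom.comp
    (Units.coeHom (Matrix ι ι F))).comp (Cfsg.isometryGroup F (⇑q)).subtype

theorem toEnd_apply (h : Cfsg.isometryGroup F (⇑q)) (u : ι → F) : toEnd q h u = mv (h : GL ι F) u := by
  show Matrix.toLinAlgEquiv' ((h : GL ι F) : Matrix ι ι F) u = _
  rw [Matrix.toLinAlgEquiv'_apply]

theorem toEnd_injective : Function.Injective (toEnd q) := fun a b h =>
  Subtype.ext (Units.ext ((Matrix.toLinAlgEquiv' (R := F) (n := ι)).injective h))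

theorem toEnd_iso (h : Cfsg.isometryGroup F (⇑q)) (u : ι → F) : q (toEnd q h u) = q u := by
  rw [toEnd_apply]
  exact Cfsg.Agent.Transvec.Orth.mem_isometry.1 h.2 u

theorem toEnd_polar (h : Cfsg.isometryGroup F (⇑q)) (u v : ι → F) :
    polar q (toEnd q h u) (toEnd q h v) = polar q u v := by
  simp only [polar, ← map_add, toEnd_iso]

theorem det_toEnd (h : Cfsg.isometryGroup F (⇑q)) :
    (toEnd q h).det = ((h : GL ι F) : Matrix ι ι F).det := by
  rw [show toEnd q h = Matrix.toLin' ((h : GL ι F) : Matrix ι ι F) from rfl, LinearMap.det_toLin']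

variable [Fintype F]

set_option maxHeartbeats 1000000 in
/-- The main lemma. -/
theorem orderOf_ne (hodd : Odd (Fintype.card F)) (hq : (polarBilin q).Nondegenerate) (p : ℕ) [Fact p.Prime]
    [CharP F p] {m : ℕ} (hm : 2 ≤ m) (hι : Fintype.card ι = 2 * m + 3) {g : Cfsg.isometryGroup F (⇑q)}
    (hg : g ∈ Cfsg.Omega F (⇑q)) : orderOf g ≠ p * (Fintype.card F ^ m + 1) := by
  intro hord
  have hp : p.Prime := Fact.out
  obtain ⟨Q, hQ⟩ : ∃ Q, Fintype.card F = Q := ⟨_, rfl⟩
  rw [hQ] at hord hodd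
  obtain ⟨e, -, hpe⟩ := FiniteField.card F p
  rw [hQ] at hpe
  have hp2 : p ≠ 2 := by
    rintro rfl
    rw [hpe] at hodd
    exact Nat.not_even_iff_odd.2 hodd (Nat.even_pow.2 ⟨even_two, e.ne_zero⟩)
  have h2 : (2 : F) ≠ 0 := Cfsg.Agent.Orth.two_ne_zero_of_odd (hQ ▸ hodd)
  have hQ2 : 2 ≤ Q := hQ ▸ Fintype.one_lt_card
  obtain ⟨N, hN⟩ : ∃ N, Q ^ m + 1 = N := ⟨_, rfl⟩
  rw [hN] at hord
  have hpN : p.Coprime N := by
    rw [hp.coprime_iff_not_dvd, ← hN]
    intro hd
    have : p ∣ Q ^ m := hpe ▸ dvd_pow (dvd_pow_self p e.ne_zero) (by omega)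
    exact hp.not_dvd_one ((Nat.dvd_add_right this).1 hd)
  -- the primitive prime
  obtain ⟨r, hr, hrd, hrprim⟩ := Cfsg.Agent.LEZsig.zsigmondy Q (2 * m) (by omega) (by omega)
    (fun h => by rw [h.1] at hodd; exact absurd hodd (by decide)) (fun h => by omega)
  haveI : Fact r.Prime := ⟨hr⟩
  have hrm : ∀ k, r ∣ Q ^ k - 1 → 2 * m ∣ k := fun k hk => by
    by_contra hne
    have h1 : 1 ≡ Q ^ (2 * m) [MOD r] := (Nat.modEq_iff_dvd' (Nat.one_le_pow _ _ (by omega))).2 hrd
    have h2' : 1 ≡ Q ^ k [MOD r] := (Nat.modEq_iff_dvd' (Nat.one_le_pow _ _ (by omega))).2 hk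
    rw [← Nat.mod_add_div k (2 * m), pow_add, pow_mul] at h2'
    have h3 : Q ^ (k % (2 * m)) * (Q ^ (2 * m)) ^ (k / (2 * m)) ≡ Q ^ (k % (2 * m)) [MOD r] := by
      simpa using (h1.symm.pow (k / (2 * m))).mul_left (Q ^ (k % (2 * m)))
    exact hrprim (k % (2 * m)) (Nat.pos_of_ne_zero fun h => hne (Nat.dvd_of_mod_eq_zero h))
      (Nat.mod_lt _ (by omega)) ((Nat.modEq_iff_dvd' (Nat.one_le_pow _ _ (by omega))).1 (h2'.trans h3))
  have hrN : r ∣ N := by
    rw [show Q ^ (2 * m) - 1 = (Q ^ m + 1) * (Q ^ m - 1) by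
      rw [← Nat.sq_sub_sq, one_pow, ← pow_mul, mul_comm], hN] at hrd
    exact (hr.dvd_mul.1 hrd).resolve_right (hrprim m (by omega) (by omega))
  have hr2 : Odd r := hr.odd_of_ne_two (by
    rintro rfl
    have hev : 2 ∣ Q ^ 1 - 1 := by rw [pow_one]; obtain ⟨k, hk⟩ := hodd; omega
    have := Nat.le_of_dvd one_pos (hrm 1 hev)
    omega)
  have hrp : r ≠ p := fun h => hp.coprime_iff_not_dvd.1 hpN (h ▸ hrN)
  have hrF : (r : F) ≠ 0 := fun h => hrp (((Nat.prime_dvd_prime_iff_eq hp hr).1 ((CharP.cast_eq_zero_iff F p r).1 h)).symm)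
  -- the elements
  obtain ⟨a, had⟩ : ∃ a, g ^ p = a := ⟨_, rfl⟩
  obtain ⟨b, hbd⟩ : ∃ b, g ^ N = b := ⟨_, rfl⟩
  have hN0 : 0 < N := by omega
  have ha : orderOf a = N := by
    rw [← had, orderOf_pow_of_dvd hp.ne_zero (hord ▸ dvd_mul_right p N), hord, Nat.mul_div_cancel_left _ hp.pos]
  have hb : orderOf b = p := by
    rw [← hbd, orderOf_pow_of_dvd hN0.ne' (hord ▸ dvd_mul_left N p), hord, Nat.mul_div_cancel _ hN0]
  obtain ⟨t, htd⟩ : ∃ t, a ^ (N / r) = t := ⟨_, rfl⟩
  have ht : orderOf t = r := by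
    rw [← htd, ← ha]
    exact orderOf_pow_orderOf_div (by omega) (ha.symm ▸ hrN)
  have haΩ : a ∈ Cfsg.Omega F (⇑q) := had ▸ pow_mem hg p
  obtain ⟨T, hT⟩ : ∃ T, toEnd q t = T := ⟨_, rfl⟩
  obtain ⟨A, hA⟩ : ∃ A, toEnd q a = A := ⟨_, rfl⟩
  obtain ⟨B, hB⟩ : ∃ B, toEnd q b = B := ⟨_, rfl⟩
  have hTr : T ^ r = 1 := by rw [← hT, ← map_pow, ← ht, pow_orderOf_eq_one, map_one]
  have hT1 : T ≠ 1 := by
    rw [← hT, ← map_one (toEnd q)]
    intro h
    rw [toEnd_injective h, orderOf_one] at ht
    exact hr.ne_one ht.symm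
  have hAT : Commute A T := by
    rw [← hA, ← hT, ← htd]
    exact ((Commute.refl a).pow_right _).map (toEnd q)
  have hBT : Commute B T := by
    rw [← hB, ← hT, ← htd, ← had, ← hbd, ← pow_mul]
    exact ((Commute.refl g).pow_pow N _).map (toEnd q)
  have hAB : Commute A B := by
    rw [← hA, ← hB, ← had, ← hbd]
    exact ((Commute.refl g).pow_pow p N).map (toEnd q)
  -- the decomposition
  obtain ⟨X, hX⟩ : ∃ X, LinearMap.ker (T - 1) = X := ⟨_, rfl⟩
  obtain ⟨W, hW⟩ : ∃ W, LinearMap.range (T - 1) = W := ⟨_, rfl⟩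
  have hXW : IsCompl X W := hX ▸ hW ▸ isCompl_ker_range hrF hTr
  have hmemX : ∀ x, x ∈ X ↔ T x = x := fun x => by
    rw [← hX, LinearMap.mem_ker, LinearMap.sub_apply, Module.End.one_apply, sub_eq_zero]
  have horth : ∀ x ∈ X, ∀ w ∈ W, polar q x w = 0 := by
    intro x hx w hw
    rw [← hW] at hw
    obtain ⟨y, rfl⟩ := hw
    rw [LinearMap.sub_apply, Module.End.one_apply, polar_sub_right]
    have := toEnd_polar t x y
    rw [hT, (hmemX x).1 hx] at this
    rw [this, sub_self]
  have hpresX : ∀ S : Module.End F (ι → F), Commute S T → ∀ x ∈ X, S x ∈ X := fun S hS x hx => by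
    rw [hmemX, ← Module.End.mul_apply, ← hS.eq, Module.End.mul_apply, (hmemX x).1 hx]
  have hpresW : ∀ S : Module.End F (ι → F), Commute S T → ∀ x ∈ W, S x ∈ W := fun S hS x hx => by
    rw [← hW] at hx ⊢
    obtain ⟨y, rfl⟩ := hx
    refine ⟨S y, ?_⟩
    rw [← Module.End.mul_apply, ← Module.End.mul_apply, sub_mul, mul_sub, one_mul, mul_one, hS.eq]
  have hTW : ∀ x ∈ W, T x ∈ W := hpresW T (Commute.refl T)
  have hdec : ∀ v : ι → F, ∃ x ∈ X, ∃ w ∈ W, v = x + w := fun v => by
    obtain ⟨x, hx, w, hw, rfl⟩ := Submodule.mem_sup.1 (hXW.sup_eq_top.symm.le (Submodule.mem_top : v ∈ ⊤))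
    exact ⟨x, hx, w, hw, rfl⟩
  have hinv : ∀ U : Submodule F (ι → F), U ≤ W → (∀ u ∈ U, T u ∈ U) → U = ⊥ ∨ finrank F U = 2 * m := by
    intro U hUW hU
    classical
    by_cases hU0 : U = ⊥
    · exact Or.inl hU0
    right
    haveI : Fintype U := Fintype.ofFinite U
    have hTinv : ∀ u : ι → F, (T ^ (r - 1)) (T u) = u := fun u => by
      rw [← Module.End.mul_apply, ← pow_succ, Nat.sub_add_cancel hr.one_le, hTr, Module.End.one_apply]
    let σ : Equiv.Perm U :=
      { toFun := fun u => ⟨T u, hU _ u.2⟩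
        invFun := fun u => ⟨(T ^ (r - 1)) u, pow_mem_sub hU u.2 _⟩
        left_inv := fun u => Subtype.ext (hTinv u)
        right_inv := fun u => Subtype.ext (by
          show T ((T ^ (r - 1)) u) = u
          rw [← Module.End.mul_apply, ← pow_succ', Nat.sub_add_cancel hr.one_le, hTr, Module.End.one_apply]) }
    have hσ : ∀ (j : ℕ) (u : U), (((σ ^ j) u : U) : ι → F) = (T ^ j) u := fun j => by
      induction j with
      | zero => intro u; rfl
      | succ j ih =>
        intro u
        rw [pow_succ', Equiv.Perm.mul_apply, pow_succ', Module.End.mul_apply]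
        show T _ = _
        rw [ih]
    have hσr : σ ^ r ^ 1 = 1 := Equiv.ext fun u => Subtype.ext (by
      rw [pow_one, hσ, hTr, Module.End.one_apply]; rfl)
    have hsupp : σ.supportᶜ = ({0} : Finset U) := by
      ext u
      rw [Finset.mem_compl, Equiv.Perm.mem_support, not_not, Finset.mem_singleton]
      constructor
      · intro h
        have h' : T u = u := congrArg Subtype.val h
        exact Subtype.ext (Submodule.disjoint_def.1 hXW.disjoint _ ((hmemX _).2 h') (hUW u.2))
      · rintro rfl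
        exact Subtype.ext (map_zero T)
    have hmod := Equiv.Perm.card_compl_support_modEq (p := r) (n := 1) hσr
    rw [hsupp, Finset.card_singleton, Module.card_eq_pow_finrank (K := F), hQ] at hmod
    have hd := hrm _ ((Nat.modEq_iff_dvd' (Nat.one_le_pow _ _ (by omega))).1 hmod)
    have hpos : finrank F U ≠ 0 := fun h => hU0 (Submodule.finrank_eq_zero.1 h)
    have hle : finrank F U ≤ 2 * m + 3 := by
      have := U.finrank_le
      rwa [Module.finrank_fintype_fun_eq_card, hι] at this
    obtain ⟨c, hc⟩ := hd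
    rcases c with _ | _ | c
    · omega
    · omega
    · nlinarith
  have hW0 : W ≠ ⊥ := by
    intro h
    rw [← hW, LinearMap.range_eq_bot, sub_eq_zero] at h
    exact hT1 h
  have hdW : finrank F W = 2 * m := (hinv W le_rfl hTW).resolve_left hW0
  have hdX : finrank F X = 3 := by
    have := Submodule.finrank_add_eq_of_isCompl hXW
    rw [hdW, Module.finrank_fintype_fun_eq_card, hι] at this
    omega
  have hkill : ∀ S : Module.End F (ι → F), Commute S T → ∀ w ∈ W, w ≠ 0 → S w = 0 → ∀ u ∈ W, S u = 0 := by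
    intro S hS w hw hw0 hSw u hu
    have hU : finrank F (W ⊓ LinearMap.ker S : Submodule F (ι → F)) = 2 * m := by
      refine (hinv _ inf_le_left fun u hu => ⟨hTW u hu.1, ?_⟩).resolve_left fun h => hw0 ?_
      · show S (T u) = 0
        rw [← Module.End.mul_apply, hS.eq, Module.End.mul_apply, LinearMap.mem_ker.1 hu.2, map_zero]
      · exact (Submodule.mem_bot F).1 (h ▸ (⟨hw, hSw⟩ : w ∈ W ⊓ LinearMap.ker S))
    exact LinearMap.mem_ker.1 ((Submodule.eq_of_le_of_finrank_eq inf_le_left (hU.trans hdW.symm)).symm.le hu).2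
  -- the unipotent part
  obtain ⟨ν, hν⟩ : ∃ ν, B - 1 = ν := ⟨_, rfl⟩
  haveI : Nontrivial (ι → F) := by
    haveI : Nonempty ι := Fintype.card_pos_iff.1 (by omega)
    infer_instance
  haveI : CharP (Module.End F (ι → F)) p :=
    charP_of_injective_algebraMap (algebraMap F (Module.End F (ι → F))).injective p
  have hνp : ν ^ p = 0 := by
    rw [← hν, sub_pow_char_of_commute p (Commute.one_right B), one_pow, ← hB, ← map_pow, ← hb,
      pow_orderOf_eq_one, map_one, sub_self]
  have hνT : Commute ν T := hν ▸ hBT.sub_left (Commute.one_left T)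
  have hνA : Commute A ν := hν ▸ hAB.sub_right (Commute.one_right A)
  have hνW : ∀ w ∈ W, ν w = 0 := by
    intro w hw
    by_contra hne
    have hall : ∀ u ∈ W, u ≠ 0 → ν u ≠ 0 := fun u hu hu0 h => hne (hkill ν hνT u hu hu0 h w hw)
    have : ∀ j : ℕ, (ν ^ j) w ≠ 0 := fun j => by
      induction j with
      | zero => exact fun h => hne (by rw [show w = 0 from h, map_zero])
      | succ j ih =>
        rw [pow_succ', Module.End.mul_apply]
        exact hall _ (pow_mem_sub (hpresW ν hνT) hw j) ih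
    exact this p (by rw [hνp, LinearMap.zero_apply])
  have hνX : ∀ x ∈ X, (ν ^ 3) x = 0 := by
    intro x hx
    let ν' : Module.End F X := ν.restrict (hpresX ν hνT)
    have hpow : ∀ (j : ℕ) (y : X), (((ν' ^ j) y : X) : ι → F) = (ν ^ j) y :=
      restrict_pow_apply (hpresX ν hνT)
    have hnil : IsNilpotent ν' := ⟨p, LinearMap.ext fun y => Subtype.ext (by
      rw [hpow, hνp, LinearMap.zero_apply]; rfl)⟩
    have h3 := LinearMap.aeval_self_charpoly ν'
    rw [hnil.charpoly_eq_X_pow_finrank, hdX, map_pow, aeval_X] at h3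
    have := congrArg Subtype.val (LinearMap.congr_fun h3 ⟨x, hx⟩)
    rwa [hpow] at this
  have hν1 : ∃ x ∈ X, ν x ≠ 0 := by
    by_contra h
    push Not at h
    have h0 : ν = 0 := LinearMap.ext fun v => by
      obtain ⟨x, hx, w, hw, rfl⟩ := hdec v
      rw [map_add, h x hx, hνW w hw, add_zero, LinearMap.zero_apply]
    rw [← hν, sub_eq_zero, ← hB, ← map_one (toEnd q)] at h0
    rw [toEnd_injective h0, orderOf_one] at hb
    exact hp.ne_one hb.symm
  have hXnd : ∀ x ∈ X, (∀ y ∈ X, polar q x y = 0) → x = 0 := fun x hx h => hq.1 x fun v => by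
    obtain ⟨y, hy, w, hw, rfl⟩ := hdec v
    show polar q x (y + w) = 0
    rw [polar_add_right, h y hy, horth x hx w hw, add_zero]
  have hWnd : ∀ x ∈ W, (∀ y ∈ W, polar q x y = 0) → x = 0 := fun x hx h => hq.1 x fun v => by
    obtain ⟨y, hy, w, hw, rfl⟩ := hdec v
    show polar q x (y + w) = 0
    rw [polar_add_right, h w hw, polar_comm, horth y hy x hx, add_zero]
  -- a unipotent isometry on three dimensions is regular
  obtain ⟨x₀, hx₀, hx₀ν⟩ : ∃ x ∈ X, ν (ν x) ≠ 0 := by
    by_contra hc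
    push Not at hc
    have hiso : ∀ x y, polar q (ν x) (ν y) + polar q (ν x) y + polar q x (ν y) = 0 := fun x y => by
      have := toEnd_polar b x y
      rw [hB, show B = 1 + ν by rw [← hν, add_sub_cancel], LinearMap.add_apply, LinearMap.add_apply,
        Module.End.one_apply, Module.End.one_apply, polar_add_left, polar_add_right, polar_add_right] at this
      linear_combination this
    have h0 : ∀ x ∈ X, ∀ y ∈ X, polar q (ν x) (ν y) = 0 := fun x _ y hy => by
      have := hiso x (ν y)
      rwa [hc y hy, polar_zero_right, polar_zero_right, zero_add, add_zero] at this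
    have hskew : ∀ x ∈ X, ∀ y ∈ X, polar q (ν x) y + polar q x (ν y) = 0 := fun x hx y hy => by
      have := hiso x y
      rwa [h0 x hx y hy, zero_add] at this
    obtain ⟨x₁, hx₁, hne⟩ := hν1
    obtain ⟨e₁, he₁⟩ : ∃ e₁, ν x₁ = e₁ := ⟨_, rfl⟩
    rw [he₁] at hne
    have he1 : polar q e₁ x₁ = 0 := by
      have := hskew x₁ hx₁ x₁ hx₁
      rw [polar_comm _ x₁, ← two_mul, he₁] at this
      exact (mul_eq_zero.1 this).resolve_left h2
    have he1X : e₁ ∈ X := he₁ ▸ hpresX ν hνT x₁ hx₁
    -- the two isotropic vectors in a three-dimensional space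
    refine hne (hXnd e₁ he1X fun y hy => ?_)
    by_contra hy0
    have hνy : ν y ≠ 0 := fun h => hy0 (by
      have := hskew x₁ hx₁ y hy
      rwa [h, polar_zero_right, add_zero, he₁] at this)
    obtain ⟨c, hc'⟩ : ∃ c : F, ν y = c • e₁ := by
      by_contra hli
      push Not at hli
      let f : (Fin 2 → F) →ₗ[F] X :=
        { toFun := fun a => ⟨a 0 • e₁ + a 1 • ν y, X.add_mem (X.smul_mem _ he1X) (X.smul_mem _ (hpresX ν hνT y hy))⟩
          map_add' := fun a b => Subtype.ext (by simp [add_smul]; abel)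
          map_smul' := fun s a => Subtype.ext (by simp [smul_add, smul_smul]) }
      have hf : Function.Injective f := by
        rw [← LinearMap.ker_eq_bot, LinearMap.ker_eq_bot']
        intro a ha
        have ha' : a 0 • e₁ + a 1 • ν y = 0 := congrArg Subtype.val ha
        have h1 : a 1 = 0 := by
          by_contra h1
          refine hli (-(a 1)⁻¹ * a 0) ?_
          rw [neg_mul, neg_smul, ← smul_smul, eq_neg_of_add_eq_zero_left ha', smul_neg, neg_neg, smul_smul,
            inv_mul_cancel₀ h1, one_smul]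
        rw [h1, zero_smul, add_zero] at ha'
        have h00 : a 0 = 0 := (smul_eq_zero.1 ha').resolve_right hne
        ext i
        fin_cases i
        · exact h00
        · exact h1
      obtain ⟨R, hR⟩ : ∃ R, R = LinearMap.range (X.subtype.comp f) := ⟨_, rfl⟩
      have hRX : R ≤ X := by
        rw [hR]; rintro _ ⟨a, rfl⟩; exact (f a).2
      have hR2 : finrank F R = 2 := by
        rw [hR, LinearMap.finrank_range_of_inj (f := X.subtype.comp f) (fun a b h => hf (X.subtype_injective h)), Module.finrank_fin_fun]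
      have hRperp : R ≤ Cfsg.Agent.Orth.perp q R := by
        intro u hu
        rw [Cfsg.Agent.Orth.mem_perp]
        intro v hv
        rw [hR] at hu hv
        obtain ⟨a, rfl⟩ := hu
        obtain ⟨a', rfl⟩ := hv
        show polar q (a' 0 • e₁ + a' 1 • ν y) (a 0 • e₁ + a 1 • ν y) = 0
        rw [← he₁]
        simp only [polar_add_left, polar_add_right, polar_smul_left, polar_smul_right, h0 x₁ hx₁ x₁ hx₁,
          h0 x₁ hx₁ y hy, h0 y hy x₁ hx₁, h0 y hy y hy, smul_zero, add_zero]
      have hWperp : W ≤ Cfsg.Agent.Orth.perp q R := by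
        intro u hu
        rw [Cfsg.Agent.Orth.mem_perp]
        exact fun v hv => horth v (hRX hv) u hu
      have h5 := Cfsg.Agent.Orth.finrank_perp_eq hq R
      have h6 := Submodule.finrank_sup_add_finrank_inf_eq R W
      rw [disjoint_iff.1 ((hXW.disjoint).mono_left hRX), finrank_bot, hR2, hdW, add_zero] at h6
      have h7 := Submodule.finrank_mono (sup_le hRperp hWperp)
      rw [Module.finrank_fintype_fun_eq_card, hι] at h5
      omega
    have hc0 : c ≠ 0 := fun h => hνy (by rw [hc', h, zero_smul])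
    have h1 := hskew y hy y hy
    rw [polar_comm _ y (ν y), ← two_mul, mul_eq_zero, hc', polar_smul_left, smul_eq_zero] at h1
    exact hy0 ((h1.resolve_left h2).resolve_left hc0)
  -- the semisimple part is scalar on the fixed space
  let φ : (Fin 3 → F) →ₗ[F] X :=
    { toFun := fun a => ⟨a 0 • x₀ + a 1 • ν x₀ + a 2 • ν (ν x₀),
        X.add_mem (X.add_mem (X.smul_mem _ hx₀) (X.smul_mem _ (hpresX ν hνT _ hx₀)))
          (X.smul_mem _ (hpresX ν hνT _ (hpresX ν hνT _ hx₀)))⟩
      map_add' := fun a b => Subtype.ext (by simp [add_smul]; abel)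
      map_smul' := fun s a => Subtype.ext (by simp [smul_add, smul_smul]) }
  have hν3 : ν (ν (ν x₀)) = 0 := by
    rw [← Module.End.mul_apply, ← Module.End.mul_apply, ← hνX x₀ hx₀, pow_succ, pow_succ, pow_one]
  have hφ : Function.Injective φ := by
    rw [← LinearMap.ker_eq_bot, LinearMap.ker_eq_bot']
    intro a ha
    have e0 : a 0 • x₀ + a 1 • ν x₀ + a 2 • ν (ν x₀) = 0 := congrArg Subtype.val ha
    have e1 := congrArg ν e0
    rw [map_add, map_add, map_smul, map_smul, map_smul, hν3, smul_zero, add_zero, map_zero] at e1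
    have e2 := congrArg ν e1
    rw [map_add, map_smul, map_smul, hν3, smul_zero, add_zero, map_zero] at e2
    have a0 : a 0 = 0 := (smul_eq_zero.1 e2).resolve_right hx₀ν
    rw [a0, zero_smul, zero_add] at e1
    have a1 : a 1 = 0 := (smul_eq_zero.1 e1).resolve_right hx₀ν
    rw [a0, a1, zero_smul, zero_smul, zero_add, zero_add] at e0
    have a2 : a 2 = 0 := (smul_eq_zero.1 e0).resolve_right hx₀ν
    ext i
    fin_cases i
    · exact a0
    · exact a1
    · exact a2
  have hspan : ∀ x ∈ X, ∃ a : Fin 3 → F, x = a 0 • x₀ + a 1 • ν x₀ + a 2 • ν (ν x₀) := fun x hx => by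
    obtain ⟨a, ha⟩ := (LinearMap.injective_iff_surjective_of_finrank_eq_finrank
      (by rw [Module.finrank_fin_fun, hdX])).1 hφ ⟨x, hx⟩
    exact ⟨a, (congrArg Subtype.val ha).symm⟩
  obtain ⟨c, hcA⟩ := hspan _ (hpresX A hAT x₀ hx₀)
  obtain ⟨M, hM⟩ : ∃ M, M = c 1 • ν + c 2 • ν ^ 2 := ⟨_, rfl⟩
  have hMν : Commute ν M := by
    rw [hM]; exact ((Commute.refl ν).smul_right _).add_right (((Commute.refl ν).pow_right 2).smul_right _)
  have hAX : ∀ x ∈ X, A x = c 0 • x + M x := fun x hx => by
    obtain ⟨a, rfl⟩ := hspan x hx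
    have e1 : A (ν x₀) = ν (A x₀) := LinearMap.congr_fun hνA.eq x₀
    have e2 : A (ν (ν x₀)) = ν (ν (A x₀)) := by
      exact (LinearMap.congr_fun hνA.eq (ν x₀)).trans (congrArg ν e1)
    simp only [map_add, map_smul, e1, e2, hcA, hM, LinearMap.add_apply, LinearMap.smul_apply, pow_two,
      Module.End.mul_apply, smul_add, smul_smul, mul_comm (a _) (c _)]
    abel
  have hMX : ∀ x ∈ X, (M ^ p) x = 0 := fun x hx => by
    obtain ⟨L, hL⟩ : ∃ L, L = c 1 • (1 : Module.End F (ι → F)) + c 2 • ν := ⟨_, rfl⟩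
    have hML : M = L * ν := by rw [hM, hL, add_mul, smul_mul_assoc, smul_mul_assoc, one_mul, pow_two]
    have hLν : Commute L ν := by
      rw [hL]; exact ((Commute.one_left ν).smul_left _).add_left ((Commute.refl ν).smul_left _)
    have h3p : 3 ≤ p := by have := hp.two_le; omega
    rw [hML, hLν.mul_pow, Module.End.mul_apply, show p = p - 3 + 3 by omega, pow_add ν, Module.End.mul_apply,
      hνX x hx, map_zero, map_zero]
  have hAp : ∀ x ∈ X, (A ^ p) x = c 0 ^ p • x := by
    intro x hx
    have hMstab : ∀ y ∈ X, M y ∈ X := fun y hy => by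
      rw [hM, pow_two]
      exact X.add_mem (X.smul_mem _ (hpresX ν hνT _ hy)) (X.smul_mem _ (hpresX ν hνT _ (hpresX ν hνT _ hy)))
    have hstep : ∀ (j : ℕ) (y : ι → F), y ∈ X → (A ^ j) y = ((c 0 • (1 : Module.End F (ι → F)) + M) ^ j) y := by
      intro j
      induction j with
      | zero => intro y _; rfl
      | succ j ih =>
        intro y hy
        rw [pow_succ, Module.End.mul_apply, pow_succ, Module.End.mul_apply, ih _ (hpresX A hAT y hy), hAX y hy]
        rfl
    rw [hstep p x hx, add_pow_char_of_commute p ((Commute.one_left M).smul_left _), LinearMap.add_apply,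
      hMX x hx, add_zero, _root_.smul_pow, one_pow, LinearMap.smul_apply, Module.End.one_apply]
  obtain ⟨j, hj⟩ : ∃ j, (a ^ p) ^ j = a := exists_pow_eq_self_of_coprime (by rwa [ha])
  obtain ⟨κ, hκ⟩ : ∃ κ : F, ∀ x ∈ X, A x = κ • x := ⟨(c 0 ^ p) ^ j, fun x hx => by
    conv_lhs => rw [← hA, ← hj, map_pow, map_pow, hA]
    exact pow_apply_eq_smul (hAp x hx) j⟩
  -- determinants
  obtain ⟨χ, hker, -, hrefl⟩ := Cfsg.Agent.Orth.exists_matrix_spinor q hq (by omega)
    (Or.inr (by omega : Fintype.card ι ≠ 4))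
  have hAdet : A.det = 1 := by
    rw [← hA, det_toEnd, Cfsg.Agent.Orth.det_eq_sgn q hq (Or.inr (by omega : Fintype.card ι ≠ 4)) χ hrefl,
      show χ a = 1 by rw [← MonoidHom.mem_ker, hker]; exact haΩ]
    simp [sgn]
  have hκ1 : κ = 1 := by
    have hκ2 : κ * κ = 1 := by
      obtain ⟨x, hx, hxq⟩ : ∃ x ∈ X, q x ≠ 0 := by
        by_contra h
        push Not at h
        have h0 : ∀ x ∈ X, x = 0 := fun x hx => hXnd x hx fun y hy => by
          simp [polar, h x hx, h y hy, h _ (X.add_mem hx hy)]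
        exact hx₀ν (h0 _ (hpresX ν hνT _ (hpresX ν hνT _ hx₀)))
      have := toEnd_iso a x
      rw [hA, hκ x hx, QuadraticMap.map_smul, smul_eq_mul] at this
      exact mul_right_cancel₀ hxq (this.trans (one_mul _).symm)
    let AX : Module.End F X := A.restrict (hpresX A hAT)
    let AW : Module.End F W := A.restrict (hpresW A hAT)
    let TW : Module.End F W := T.restrict hTW
    have hAXdet : AX.det = κ ^ 3 := by
      rw [show AX = κ • LinearMap.id from LinearMap.ext fun x => Subtype.ext (hκ x x.2), LinearMap.det_smul,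
        LinearMap.det_id, hdX, mul_one]
    have hAWdet : AW.det = 1 := by
      let β : LinearMap.BilinForm F W := LinearMap.BilinForm.comp (polarBilin q) W.subtype W.subtype
      have hβ : β.Nondegenerate := by
        refine ⟨fun x hx => Subtype.ext (hWnd x x.2 fun y hy => hx ⟨y, hy⟩), fun x hx => Subtype.ext ?_⟩
        refine hWnd x x.2 fun y hy => ?_
        rw [polar_comm]
        exact hx ⟨y, hy⟩
      refine Cfsg.Agent.AutPOmega.det_eq_one_of_comm (B := β) h2 hβ (G := TW) (fun u v => ?_) (fun u v => ?_)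
        (fun v => Subtype.ext (LinearMap.congr_fun hAT.eq v).symm) hr2 ?_ (fun v hv => ?_)
      · show polar q (T u) (T v) = polar q u v
        rw [← hT]; exact toEnd_polar t u v
      · show polar q (A u) (A v) = polar q u v
        rw [← hA]; exact toEnd_polar a u v
      · have hpow : ∀ (i : ℕ) (u : W), (((TW ^ i) u : W) : ι → F) = (T ^ i) u := restrict_pow_apply hTW
        exact LinearMap.ext fun u => Subtype.ext (by rw [hpow, hTr]; rfl)
      · exact Subtype.ext (Submodule.disjoint_def.1 hXW.disjoint _ ((hmemX _).2 (congrArg Subtype.val hv)) v.2)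
    obtain ⟨E, hE⟩ : ∃ E, Submodule.prodEquivOfIsCompl X W hXW = E := ⟨_, rfl⟩
    have hconj : A = (E : (X × W) →ₗ[F] (ι → F)) ∘ₗ (AX.prodMap AW) ∘ₗ (E.symm : (ι → F) →ₗ[F] X × W) := by
      refine LinearMap.ext fun v => ?_
      obtain ⟨⟨x, w⟩, rfl⟩ := E.surjective v
      simp only [LinearMap.comp_apply, LinearEquiv.coe_coe, LinearEquiv.symm_apply_apply]
      rw [← hE, Submodule.coe_prodEquivOfIsCompl', map_add, Submodule.coe_prodEquivOfIsCompl']
      rfl
    rw [hconj, LinearMap.det_conj, LinearMap.det_prodMap, hAXdet, hAWdet, mul_one] at hAdet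
    linear_combination hAdet - κ * hκ2
  have hAX1 : ∀ x ∈ X, A x = x := fun x hx => by rw [hκ x hx, hκ1, one_smul]
  -- the torus of the moved space
  obtain ⟨R, _, _, _, _, ⟨TT⟩⟩ := Cfsg.Agent.AutPOmega.exists_torus q h2 (G := T) hr hr2 hTr
    (by rw [hQ, hpe]; exact Nat.Coprime.pow_right _ ((Nat.coprime_primes hr hp).2 hrp))
    (fun u => by rw [← hT]; exact toEnd_iso t u)
  obtain ⟨h, -, hχ, hfix, hcomm⟩ := TT.exists_rot_fix hq h2 hrefl hT1
  obtain ⟨w₀, hw₀, hw₀0⟩ : ∃ w ∈ W, w ≠ 0 := Submodule.exists_mem_ne_zero_of_ne_bot hW0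
  -- polynomials in `T`
  have hPT : ∀ P : F[X], Commute (aeval T P) T := fun P => by
    simpa only [aeval_X] using (Commute.all P Polynomial.X).map (aeval T)
  have hPW : ∀ P : F[X], ∀ w ∈ W, aeval T P w ∈ W := fun P => hpresW _ (hPT P)
  have hcyc : ∀ u ∈ W, ∃ P : F[X], u = aeval T P w₀ := fun u hu => by
    obtain ⟨L, hL⟩ : ∃ L : F[X] →ₗ[F] (ι → F), L = (LinearMap.applyₗ w₀).comp (aeval T).toLinearMap := ⟨_, rfl⟩
    have hmemL : ∀ v, v ∈ LinearMap.range L ↔ ∃ P : F[X], aeval T P w₀ = v := fun v => by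
      rw [hL]; rfl
    rcases hinv (LinearMap.range L) (fun v hv => by
      obtain ⟨P, rfl⟩ := (hmemL v).1 hv; exact hPW P w₀ hw₀) (fun v hv => by
      obtain ⟨P, rfl⟩ := (hmemL v).1 hv
      exact (hmemL _).2 ⟨Polynomial.X * P, by rw [map_mul, aeval_X, Module.End.mul_apply]⟩) with h0 | h0
    · exfalso
      have : w₀ ∈ LinearMap.range L := (hmemL _).2 ⟨1, by rw [map_one, Module.End.one_apply]⟩
      rw [h0, Submodule.mem_bot] at this
      exact hw₀0 this
    · have : LinearMap.range L = W := Submodule.eq_of_le_of_finrank_eq (fun v hv => by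
        obtain ⟨P, rfl⟩ := (hmemL v).1 hv; exact hPW P w₀ hw₀) (h0.trans hdW.symm)
      obtain ⟨P, hP⟩ := (hmemL u).1 (this.symm ▸ hu)
      exact ⟨P, hP.symm⟩
  have hpoly : ∀ S : Module.End F (ι → F), Commute S T → ∃ P : F[X], ∀ u ∈ W, S u = aeval T P u := fun S hS => by
    obtain ⟨P, hP⟩ := hcyc _ (hpresW S hS w₀ hw₀)
    refine ⟨P, fun u hu => sub_eq_zero.1 ?_⟩
    exact hkill (S - aeval T P) (hS.sub_left (hPT P)) w₀ hw₀ hw₀0 (by
      rw [LinearMap.sub_apply, hP, sub_self]) u hu
  -- the group of the moved space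
  let H : Subgroup (Cfsg.isometryGroup F (⇑q)) :=
    { carrier := {k | Commute (toEnd q k) T ∧ ∀ x ∈ X, toEnd q k x = x}
      one_mem' := ⟨by rw [map_one]; exact Commute.one_left T, fun x _ => by rw [map_one]; rfl⟩
      mul_mem' := fun {k l} hk hl => ⟨by rw [map_mul]; exact hk.1.mul_left hl.1, fun x hx => by
        rw [map_mul, Module.End.mul_apply, hl.2 x hx, hk.2 x hx]⟩
      inv_mem' := fun {k} hk => ⟨by
        rw [← hT] at hk ⊢
        exact ((show Commute k t from toEnd_injective (by rw [map_mul, map_mul]; exact hk.1)).inv_left).map _,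
        fun x hx => by
          conv_lhs => rw [← hk.2 x hx]
          rw [← Module.End.mul_apply, ← map_mul, inv_mul_cancel, map_one, Module.End.one_apply]⟩ }
  have haH : a ∈ H := ⟨hA ▸ hAT, fun x hx => hA ▸ hAX1 x hx⟩
  have hhH : h ∈ H := ⟨LinearMap.ext fun u => by
      rw [Module.End.mul_apply, Module.End.mul_apply, toEnd_apply, toEnd_apply]
      exact (hcomm u).symm,
    fun x hx => by rw [toEnd_apply]; exact hfix x ((hmemX x).1 hx)⟩
  have hexp : ∀ k ∈ H, k ^ N = 1 := by
    intro k hk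
    obtain ⟨P, hP⟩ := hpoly _ hk.1
    obtain ⟨Ti, hTi⟩ : ∃ Ti, Ti = T ^ (r - 1) := ⟨_, rfl⟩
    have hQm : T ^ Q ^ m = Ti := by
      obtain ⟨c', hc'⟩ := hrN
      rcases c' with _ | c'
      · omega
      rw [hTi, show Q ^ m = r - 1 + r * c' by rw [← hN, Nat.mul_succ] at hc'; have := hr.one_le; omega,
        pow_add, pow_mul, hTr, one_pow, mul_one]
    have hadj : ∀ (R₁ : F[X]) (u v : ι → F), polar q (aeval T R₁ u) v = polar q u (aeval Ti R₁ v) := by
      intro R₁
      induction R₁ using Polynomial.induction_on' with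
      | add P P' hP hP' =>
        intro u v
        rw [map_add, map_add, LinearMap.add_apply, LinearMap.add_apply, polar_add_left, polar_add_right, hP, hP']
      | monomial i s =>
        intro u v
        rw [aeval_monomial, aeval_monomial, Algebra.algebraMap_eq_smul_one, smul_one_mul, smul_one_mul,
          LinearMap.smul_apply, LinearMap.smul_apply, polar_smul_left, polar_smul_right]
        congr 1
        have h1 : T ^ i * Ti ^ i = 1 := by
          rw [hTi, ← (Commute.pow_self T (r - 1)).symm.mul_pow, ← pow_succ', Nat.sub_add_cancel hr.one_le, hTr,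
            one_pow]
        calc polar q ((T ^ i) u) v = polar q ((T ^ i) u) ((T ^ i) ((Ti ^ i) v)) := by
              rw [← Module.End.mul_apply (T ^ i) (Ti ^ i), h1, Module.End.one_apply]
          _ = polar q u ((Ti ^ i) v) := by rw [← hT, ← map_pow]; exact toEnd_polar _ _ _
    have hfrob : ∀ i : ℕ, ∀ R₁ : F[X], expand F (Q ^ i) R₁ = R₁ ^ Q ^ i := fun i => by
      induction i with
      | zero => intro R₁; simp
      | succ i ih => intro R₁; rw [pow_succ, expand_mul, ← hQ, FiniteField.expand_card, hQ, map_pow, ih, ← pow_mul]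
    have hN1 : ∀ u ∈ W, (aeval Ti P * aeval T P) u = u := by
      intro u hu
      have hTiT : Commute Ti T := hTi ▸ (Commute.refl T).pow_left _
      have hmem : (aeval Ti P * aeval T P) u ∈ W := by
        rw [← hQm, ← expand_aeval, ← map_mul]; exact hPW _ u hu
      refine sub_eq_zero.1 (hWnd _ (sub_mem hmem hu) fun v hv => ?_)
      rw [polar_sub_left, polar_comm, Module.End.mul_apply, ← hadj, ← hP v hv, ← hP u hu, toEnd_polar,
        polar_comm, sub_self]
    apply toEnd_injective
    rw [map_pow, map_one]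
    refine LinearMap.ext fun v => ?_
    obtain ⟨x, hx, w, hw, rfl⟩ := hdec v
    rw [map_add, Module.End.one_apply, pow_apply_eq_self (hk.2 x hx)]
    congr 1
    have hKP : ∀ i : ℕ, ∀ u ∈ W, (toEnd q k ^ i) u = ((aeval T P) ^ i) u := fun i => by
      induction i with
      | zero => intro u _; rfl
      | succ i ih =>
        intro u hu
        rw [pow_succ, Module.End.mul_apply, pow_succ, Module.End.mul_apply, hP u hu, ih _ (hPW P u hu)]
    rw [hKP N w hw, ← hN, pow_succ, ← map_pow, ← hfrob, expand_aeval, hQm]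
    exact hN1 w hw
  have hHcyc : IsCyclic H := by
    let ev : F[X] →ₐ[F] Module.End F W :=
      aeval (T.restrict hTW)
    have hev : ∀ (P : F[X]) (u : W), ((ev P u : W) : ι → F) = aeval T P u := by
      intro P
      induction P using Polynomial.induction_on' with
      | add P P' hP hP' =>
        intro u
        rw [map_add, map_add, LinearMap.add_apply, LinearMap.add_apply, Submodule.coe_add, hP, hP']
      | monomial i s =>
        intro u
        simp only [ev, aeval_monomial, Algebra.algebraMap_eq_smul_one, smul_one_mul, LinearMap.smul_apply,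
          Submodule.coe_smul, restrict_pow_apply]
    haveI : Nontrivial W := ⟨⟨⟨w₀, hw₀⟩, 0, fun h => hw₀0 (congrArg Subtype.val h)⟩⟩
    haveI : (RingHom.ker ev).IsPrime := by
      refine Ideal.IsPrime.mk (RingHom.ker_ne_top _) fun {P P'} hPP => ?_
      rw [RingHom.mem_ker] at hPP ⊢
      rw [RingHom.mem_ker]
      by_cases h0 : ev P' = 0
      · exact Or.inr h0
      left
      obtain ⟨u, hu⟩ : ∃ u, ev P' u ≠ 0 := by
        by_contra h; push Not at h; exact h0 (LinearMap.ext h)
      refine LinearMap.ext fun v => Subtype.ext ?_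
      rw [hev]
      refine hkill (aeval T P) (hPT P) _ (ev P' u).2 (fun h => hu (Subtype.ext h)) ?_ v v.2
      rw [← hev, ← Module.End.mul_apply, ← map_mul, hPP]
      rfl
    have hlift : ∀ k : H, ∃ P : F[X], ∀ u : W, aeval T P u = toEnd q k u := fun k => by
      obtain ⟨P, hP⟩ := hpoly _ k.2.1
      exact ⟨P, fun u => (hP u u.2).symm⟩
    choose P hP using hlift
    have heq : ∀ P₁ P₂ : F[X], (∀ u : W, aeval T P₁ u = aeval T P₂ u) →
        (Ideal.Quotient.mk (RingHom.ker ev) P₁) = Ideal.Quotient.mk _ P₂ := fun P₁ P₂ h => by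
      rw [Ideal.Quotient.eq, RingHom.mem_ker, map_sub, sub_eq_zero]
      exact LinearMap.ext fun u => Subtype.ext (by rw [hev, hev, h])
    let f : H →* F[X] ⧸ RingHom.ker ev :=
      { toFun := fun k => Ideal.Quotient.mk _ (P k)
        map_one' := by
          rw [← map_one (Ideal.Quotient.mk (RingHom.ker ev))]
          exact heq _ _ fun u => by rw [hP, Subgroup.coe_one, map_one, map_one]
        map_mul' := fun k l => by
          rw [← map_mul]
          refine heq _ _ fun u => ?_
          rw [hP, Subgroup.coe_mul, map_mul, map_mul, Module.End.mul_apply, Module.End.mul_apply, hP l,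
            ← hP k ⟨_, hpresW _ l.2.1 u u.2⟩] }
    refine isCyclic_of_injective_ringHom f fun k l hkl => Subtype.ext (toEnd_injective (LinearMap.ext fun v => ?_))
    obtain ⟨x, hx, w, hw, rfl⟩ := hdec v
    rw [map_add, map_add, k.2.2 x hx, l.2.2 x hx, ← hP k ⟨w, hw⟩, ← hP l ⟨w, hw⟩]
    change Ideal.Quotient.mk _ (P k) = Ideal.Quotient.mk _ (P l) at hkl
    rw [Ideal.Quotient.eq, RingHom.mem_ker, map_sub, sub_eq_zero] at hkl
    rw [← hev, ← hev, hkl]
  haveI := hHcyc
  have hgen : Subgroup.zpowers a = H := by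
    refine Subgroup.eq_of_le_of_card_ge (Subgroup.zpowers_le.2 haH) ?_
    rw [Nat.card_zpowers, ha]
    obtain ⟨x, hx⟩ := IsCyclic.exists_ofOrder_eq_natCard (α := H)
    rw [← hx, ← Subgroup.orderOf_coe]
    exact Nat.le_of_dvd hN0 (orderOf_dvd_of_pow_eq_one (hexp x x.2))
  obtain ⟨i, rfl⟩ := Subgroup.mem_zpowers_iff.1 (hgen.symm ▸ hhH : h ∈ Subgroup.zpowers a)
  exact hχ (by rw [← MonoidHom.mem_ker, hker]; exact zpow_mem haΩ i)

end

end Cfsg.Agent.OddOrthMixed
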