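import Cfsg.Agent.Lib.Orthogonal.Frames
import Cfsg.Agent.Lib.Orthogonal.Counts
import Cfsg.Agent.Lib.Classical.PrimeGraphSp
import Cfsg.Agent.Lib.Spectra.OddOrthogonalMixed
import Mathlib.LinearAlgebra.QuadraticForm.Prod

/-!
Passing between symplectic and orthogonal isometries through the skew element `t - t⁻¹` of an isometry
without eigenvalues `±1`; models of odd-dimensional orthogonal and of symplectic groups.
-/

set_option autoImplicit false

namespace Cfsg.Agent.SkewTransfer

open Module QuadraticMap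
open Cfsg.Agent.Orth (oGroup qOdd qSq)
open Cfsg.Agent.Transvec (mv)
open LinearMap (BilinForm)

variable {F : Type*} [Field F]

section Split

variable {V : Type*} [AddCommGroup V] [Module F V] [FiniteDimensional F V]

/-- The restriction of an automorphism to an invariant subspace. -/
noncomputable def restrE (U : Submodule F V) (k : V ≃ₗ[F] V) (h : ∀ x ∈ U, k x ∈ U) : U ≃ₗ[F] U :=
  LinearEquiv.ofBijective ((k : V →ₗ[F] V).restrict h)
    ⟨fun a b hab => Subtype.ext (k.injective (congrArg Subtype.val hab)),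
      LinearMap.injective_iff_surjective.1 fun a b hab => Subtype.ext (k.injective (congrArg Subtype.val hab))⟩

theorem restrE_apply (U : Submodule F V) (k : V ≃ₗ[F] V) (h : ∀ x ∈ U, k x ∈ U) (u : U) :
    (restrE U k h u : V) = k u := rfl

theorem restrE_pow (U : Submodule F V) (k : V ≃ₗ[F] V) (h : ∀ x ∈ U, k x ∈ U) :
    ∀ (i : ℕ) (u : U), (((restrE U k h) ^ i) u : V) = (k ^ i) u := by
  intro i
  induction i with
  | zero => intro u; rfl
  | succ i ih => intro u; rw [pow_succ, LinearEquiv.mul_apply, pow_succ, LinearEquiv.mul_apply, ih, restrE_apply]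

theorem orderOf_split {U W : Submodule F V} (hc : IsCompl U W) (k : V ≃ₗ[F] V) (hU : ∀ x ∈ U, k x ∈ U)
    (hW : ∀ x ∈ W, k x ∈ W) :
    orderOf k = Nat.lcm (orderOf (restrE U k hU)) (orderOf (restrE W k hW)) := by
  refine Nat.dvd_antisymm (orderOf_dvd_of_pow_eq_one (LinearEquiv.ext fun v => ?_)) (Nat.lcm_dvd ?_ ?_)
  · obtain ⟨i, hi⟩ : ∃ i, i = Nat.lcm (orderOf (restrE U k hU)) (orderOf (restrE W k hW)) := ⟨_, rfl⟩
    rw [← hi]
    obtain ⟨x, hx, w, hw, rfl⟩ := Submodule.mem_sup.1 (hc.sup_eq_top.symm.le (Submodule.mem_top : v ∈ ⊤))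
    have h1 := restrE_pow U k hU i ⟨x, hx⟩
    have h2 := restrE_pow W k hW i ⟨w, hw⟩
    rw [orderOf_dvd_iff_pow_eq_one.1 (hi ▸ Nat.dvd_lcm_left _ _)] at h1
    rw [orderOf_dvd_iff_pow_eq_one.1 (hi ▸ Nat.dvd_lcm_right _ _)] at h2
    rw [map_add, ← h1, ← h2]
    rfl
  · exact orderOf_dvd_of_pow_eq_one (LinearEquiv.ext fun u => Subtype.ext (by
      rw [restrE_pow, pow_orderOf_eq_one]; rfl))
  · exact orderOf_dvd_of_pow_eq_one (LinearEquiv.ext fun u => Subtype.ext (by
      rw [restrE_pow, pow_orderOf_eq_one]; rfl))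

/-- The fixed space. -/
def fixX (t : V ≃ₗ[F] V) : Submodule F V := LinearMap.ker ((t : Module.End F V) - 1)

/-- The moved space. -/
def movW (t : V ≃ₗ[F] V) : Submodule F V := LinearMap.range ((t : Module.End F V) - 1)

theorem mem_fixX {t : V ≃ₗ[F] V} {x : V} : x ∈ fixX t ↔ t x = x := by
  show ((t : Module.End F V) - 1) x = 0 ↔ _
  rw [LinearMap.sub_apply, Module.End.one_apply, sub_eq_zero]
  rfl

theorem presX {t k : V ≃ₗ[F] V} (hk : Commute k t) : ∀ x ∈ fixX t, k x ∈ fixX t := fun x hx => by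
  rw [mem_fixX, ← LinearEquiv.mul_apply, ← hk.eq, LinearEquiv.mul_apply, mem_fixX.1 hx]

theorem presW {t k : V ≃ₗ[F] V} (hk : Commute k t) : ∀ x ∈ movW t, k x ∈ movW t := by
  rintro x ⟨y, rfl⟩
  refine ⟨k y, ?_⟩
  simp only [LinearMap.sub_apply, Module.End.one_apply, map_sub, LinearEquiv.coe_coe]
  rw [← LinearEquiv.mul_apply, ← hk.eq, LinearEquiv.mul_apply]

/-- The decomposition attached to an isometry of prime order. -/
theorem split {B : BilinForm F V} (hB : ∀ x, (∀ y, B x y = 0) → x = 0) (href : ∀ x y, B x y = 0 → B y x = 0)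
    {t : V ≃ₗ[F] V} (ht : t ∈ AltForm.isoGroup B) {r : ℕ} (hr : (r : F) ≠ 0) (htr : t ^ r = 1) :
    IsCompl (fixX t) (movW t) ∧
      (∀ x : fixX t, (∀ y : fixX t, B x y = 0) → x = 0) ∧ (∀ x : movW t, (∀ y : movW t, B x y = 0) → x = 0) := by
  have hpow : ((t : Module.End F V)) ^ r = 1 := by
    show (LinearEquiv.automorphismGroup.toLinearMapMonoidHom t) ^ r = 1
    rw [← map_pow, htr, map_one]
  have hc : IsCompl (fixX t) (movW t) := OddOrthMixed.isCompl_ker_range hr hpow
  have horth : ∀ x ∈ fixX t, ∀ w ∈ movW t, B x w = 0 := by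
    rintro x hx _ ⟨y, rfl⟩
    have h := ht x y
    rw [mem_fixX.1 hx] at h
    simp only [LinearMap.sub_apply, Module.End.one_apply, map_sub, LinearEquiv.coe_coe]
    rw [h, sub_self]
  refine ⟨hc, fun x hx => Subtype.ext (hB x fun v => ?_), fun x hx => Subtype.ext (hB x fun v => ?_)⟩
  · obtain ⟨a, ha, b, hb, rfl⟩ := Submodule.mem_sup.1 (hc.sup_eq_top.symm.le (Submodule.mem_top : v ∈ ⊤))
    rw [map_add, show B x a = 0 from hx ⟨a, ha⟩, horth x x.2 b hb, add_zero]
  · obtain ⟨a, ha, b, hb, rfl⟩ := Submodule.mem_sup.1 (hc.sup_eq_top.symm.le (Submodule.mem_top : v ∈ ⊤))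
    rw [map_add, show B x b = 0 from hx ⟨b, hb⟩, href _ _ (horth a ha x x.2), add_zero]

/-- The restricted form. -/
abbrev formOn (B : BilinForm F V) (U : Submodule F V) : BilinForm F U :=
  LinearMap.BilinForm.comp B U.subtype U.subtype

theorem restrE_mem {B : BilinForm F V} {U : Submodule F V} {k : V ≃ₗ[F] V} (hk : k ∈ AltForm.isoGroup B)
    (h : ∀ x ∈ U, k x ∈ U) : restrE U k h ∈ AltForm.isoGroup (formOn B U) := fun x y => hk x y

theorem restrE_comm {U : Submodule F V} {k t : V ≃ₗ[F] V} (hc : Commute k t) (hk : ∀ x ∈ U, k x ∈ U)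
    (ht : ∀ x ∈ U, t x ∈ U) : Commute (restrE U k hk) (restrE U t ht) :=
  LinearEquiv.ext fun u => Subtype.ext (LinearEquiv.congr_fun hc.eq (u : V))

/-- No vector of the moved space is fixed by the square. -/
theorem free_movW {t : V ≃ₗ[F] V} {r : ℕ} (hro : Odd r) (htr : t ^ r = 1)
    (hc : IsCompl (fixX t) (movW t)) :
    ∀ x : movW t, restrE (movW t) t (presW (Commute.refl t)) x =
      (restrE (movW t) t (presW (Commute.refl t))).symm x → x = 0 := by
  intro x hx
  obtain ⟨R, hR⟩ : ∃ R, R = restrE (movW t) t (presW (Commute.refl t)) := ⟨_, rfl⟩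
  rw [← hR] at hx
  have h2 : R (R x) = x := by rw [hx, LinearEquiv.apply_symm_apply]
  have h2' : t (t x) = x := by
    have := congrArg Subtype.val h2
    rwa [hR, restrE_apply, restrE_apply] at this
  have key : ∀ j : ℕ, (t ^ (2 * j)) (x : V) = x := fun j => by
    induction j with
    | zero => rfl
    | succ j ih => rw [mul_add, mul_one, pow_add, LinearEquiv.mul_apply, pow_two, LinearEquiv.mul_apply, h2', ih]
  obtain ⟨j, rfl⟩ := hro
  have h1 : t x = x := by
    have := LinearEquiv.congr_fun htr (x : V)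
    rwa [pow_succ', LinearEquiv.mul_apply, key] at this
  exact Subtype.ext (Submodule.disjoint_def.1 hc.disjoint _ (mem_fixX.2 h1) x.2)

end Split

section Skew

variable {V : Type*} [AddCommGroup V] [Module F V]

/-- The form twisted by the skew element. -/
def skew (B : BilinForm F V) (t : V ≃ₗ[F] V) : BilinForm F V :=
  LinearMap.compl₂ B ((t : V →ₗ[F] V) - (t.symm : V →ₗ[F] V))

theorem skew_apply (B : BilinForm F V) (t : V ≃ₗ[F] V) (u v : V) : skew B t u v = B u (t v - t.symm v) := rfl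

theorem adj {B : BilinForm F V} {t : V ≃ₗ[F] V} (ht : t ∈ AltForm.isoGroup B) (u v : V) :
    B u (t v) = B (t.symm u) v := by
  have := ht (t.symm u) v
  rwa [LinearEquiv.apply_symm_apply] at this

theorem adj' {B : BilinForm F V} {t : V ≃ₗ[F] V} (ht : t ∈ AltForm.isoGroup B) (u v : V) :
    B u (t.symm v) = B (t u) v := by
  have := ht u (t.symm v)
  rw [LinearEquiv.apply_symm_apply] at this
  exact this.symm

theorem skew_swap {B : BilinForm F V} {ε : F} (hs : ∀ u v, B v u = ε * B u v) {t : V ≃ₗ[F] V}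
    (ht : t ∈ AltForm.isoGroup B) (u v : V) : skew B t v u = -ε * skew B t u v := by
  simp only [skew_apply, map_sub]
  rw [hs (t u) v, hs (t.symm u) v, adj ht u v, adj' ht u v]
  ring

theorem skew_nondeg [FiniteDimensional F V] {B : BilinForm F V} (hB : ∀ x, (∀ y, B x y = 0) → x = 0)
    {t : V ≃ₗ[F] V} (hf : ∀ x, t x = t.symm x → x = 0) : ∀ x, (∀ y, skew B t x y = 0) → x = 0 := by
  intro x hx
  refine hB x fun v => ?_
  have hinj : Function.Injective ((t : V →ₗ[F] V) - (t.symm : V →ₗ[F] V)) := by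
    rw [← LinearMap.ker_eq_bot, LinearMap.ker_eq_bot']
    intro y hy
    exact hf y (sub_eq_zero.1 hy)
  obtain ⟨y, hy⟩ := LinearMap.injective_iff_surjective.1 hinj v
  rw [← hy]
  exact hx y

theorem skew_iso {B : BilinForm F V} {t k : V ≃ₗ[F] V} (hk : k ∈ AltForm.isoGroup B) (hc : Commute k t) :
    k ∈ AltForm.isoGroup (skew B t) := by
  intro u v
  have h1 : t (k v) = k (t v) := (LinearEquiv.congr_fun hc.eq v).symm
  have h2 : t.symm (k v) = k (t.symm v) := (LinearEquiv.congr_fun hc.inv_right.eq v).symm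
  simp only [skew_apply]
  rw [h1, h2, ← map_sub k, hk]

theorem skew_alt {B : BilinForm F V} (h2 : (2 : F) ≠ 0) (hs : ∀ u v, B v u = B u v) {t : V ≃ₗ[F] V}
    (ht : t ∈ AltForm.isoGroup B) : (skew B t).IsAlt := fun u => by
  have h := skew_swap (ε := 1) (fun u v => by rw [one_mul]; exact hs u v) ht u u
  have h' : (2 : F) * skew B t u u = 0 := by linear_combination h
  exact (mul_eq_zero.1 h').resolve_left h2

/-- The quadratic form of a symmetric form. -/
noncomputable def quadOf (B : BilinForm F V) : QuadraticForm F V := LinearMap.BilinMap.toQuadraticMap B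

theorem polar_quadOf {B : BilinForm F V} (hs : ∀ u v, B v u = B u v) (u v : V) :
    polar (quadOf B) u v = 2 * B u v := by
  show B (u + v) (u + v) - B u u - B v v = 2 * B u v
  simp only [map_add, LinearMap.add_apply, hs u v]
  ring

theorem quadOf_nondeg {B : BilinForm F V} (h2 : (2 : F) ≠ 0) (hs : ∀ u v, B v u = B u v)
    (hB : ∀ x, (∀ y, B x y = 0) → x = 0) : (polarBilin (quadOf B)).Nondegenerate :=
  Orth.nondeg_of fun x hx => hB x fun y => by
    have h := hx y
    rw [polar_quadOf hs] at h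
    exact (mul_eq_zero.1 h).resolve_left h2

theorem mem_oGroup_quadOf {B : BilinForm F V} {k : V ≃ₗ[F] V} (hk : k ∈ AltForm.isoGroup B) :
    k ∈ oGroup (quadOf B) := fun v => hk v v

theorem mem_iso_polar {Q : QuadraticForm F V} {k : V ≃ₗ[F] V} (hk : k ∈ oGroup Q) :
    k ∈ AltForm.isoGroup (polarBilin Q) := fun u v => Orth.b_map hk u v

theorem polar_symm (Q : QuadraticForm F V) (u v : V) : polarBilin Q v u = polarBilin Q u v := polar_comm _ v u

end Skew

section Models

variable {V V' : Type*} [AddCommGroup V] [Module F V] [AddCommGroup V'] [Module F V']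

/-- Orthogonal sums. -/
noncomputable def prodO (Q : QuadraticForm F V) (Q' : QuadraticForm F V') :
    oGroup Q × oGroup Q' →* oGroup (Q.prod Q') where
  toFun g := ⟨g.1.1.prodCongr g.2.1, fun x => by
    show Q (g.1.1 x.1) + Q' (g.2.1 x.2) = Q x.1 + Q' x.2
    rw [g.1.2, g.2.2]⟩
  map_one' := Subtype.ext (LinearEquiv.ext fun _ => rfl)
  map_mul' _ _ := Subtype.ext (LinearEquiv.ext fun _ => rfl)

theorem prodO_apply (Q : QuadraticForm F V) (Q' : QuadraticForm F V') (g : oGroup Q × oGroup Q') (x : V × V') :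
    (prodO Q Q' g).1 x = (g.1.1 x.1, g.2.1 x.2) := rfl

theorem prodO_injective (Q : QuadraticForm F V) (Q' : QuadraticForm F V') : Function.Injective (prodO Q Q') := by
  intro g g' h
  refine Prod.ext (Subtype.ext (LinearEquiv.ext fun x => ?_)) (Subtype.ext (LinearEquiv.ext fun x => ?_))
  · exact congrArg Prod.fst (LinearEquiv.congr_fun (congrArg Subtype.val h) (x, 0))
  · exact congrArg Prod.snd (LinearEquiv.congr_fun (congrArg Subtype.val h) (0, x))

theorem polar_prod (Q : QuadraticForm F V) (Q' : QuadraticForm F V') (x y : V × V') :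
    polar (Q.prod Q') x y = polar Q x.1 y.1 + polar Q' x.2 y.2 := by
  show Q (x.1 + y.1) + Q' (x.2 + y.2) - (Q x.1 + Q' x.2) - (Q y.1 + Q' y.2) = _
  simp only [polar]
  ring

theorem prod_nondeg {Q : QuadraticForm F V} {Q' : QuadraticForm F V'} (hQ : (polarBilin Q).Nondegenerate)
    (hQ' : (polarBilin Q').Nondegenerate) : (polarBilin (Q.prod Q')).Nondegenerate :=
  Orth.nondeg_of fun x hx => Prod.ext
    (Orth.eq_zero_of_b hQ fun y => by have := hx (y, 0); simpa [polar_prod] using this)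
    (Orth.eq_zero_of_b hQ' fun y => by have := hx (0, y); simpa [polar_prod] using this)

/-- Orthogonal sums of alternating forms. -/
def prodB (B : BilinForm F V) (B' : BilinForm F V') : BilinForm F (V × V') :=
  LinearMap.BilinForm.comp B (LinearMap.fst F V V') (LinearMap.fst F V V') +
    LinearMap.BilinForm.comp B' (LinearMap.snd F V V') (LinearMap.snd F V V')

theorem prodB_apply (B : BilinForm F V) (B' : BilinForm F V') (x y : V × V') :
    prodB B B' x y = B x.1 y.1 + B' x.2 y.2 := rfl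

theorem prodB_alt {B : BilinForm F V} {B' : BilinForm F V'} (h : B.IsAlt) (h' : B'.IsAlt) : (prodB B B').IsAlt :=
  fun x => by rw [prodB_apply, h x.1, h' x.2, add_zero]

theorem prodB_nondeg {B : BilinForm F V} {B' : BilinForm F V'} (h : ∀ x, (∀ y, B x y = 0) → x = 0)
    (h' : ∀ x, (∀ y, B' x y = 0) → x = 0) : ∀ x, (∀ y, prodB B B' x y = 0) → x = 0 := fun x hx => Prod.ext
  (h _ fun y => by have := hx (y, 0); simpa [prodB_apply] using this)
  (h' _ fun y => by have := hx (0, y); simpa [prodB_apply] using this)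

/-- Orthogonal sums of isometries. -/
noncomputable def prodI (B : BilinForm F V) (B' : BilinForm F V') :
    AltForm.isoGroup B × AltForm.isoGroup B' →* AltForm.isoGroup (prodB B B') where
  toFun g := ⟨g.1.1.prodCongr g.2.1, fun x y => by
    show B (g.1.1 x.1) (g.1.1 y.1) + B' (g.2.1 x.2) (g.2.1 y.2) = _
    rw [g.1.2, g.2.2]
    rfl⟩
  map_one' := Subtype.ext (LinearEquiv.ext fun _ => rfl)
  map_mul' _ _ := Subtype.ext (LinearEquiv.ext fun _ => rfl)

theorem prodI_apply (B : BilinForm F V) (B' : BilinForm F V') (g : AltForm.isoGroup B × AltForm.isoGroup B')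
    (x : V × V') : (prodI B B' g).1 x = (g.1.1 x.1, g.2.1 x.2) := rfl

theorem prodI_injective (B : BilinForm F V) (B' : BilinForm F V') : Function.Injective (prodI B B') := by
  intro g g' h
  refine Prod.ext (Subtype.ext (LinearEquiv.ext fun x => ?_)) (Subtype.ext (LinearEquiv.ext fun x => ?_))
  · exact congrArg Prod.fst (LinearEquiv.congr_fun (congrArg Subtype.val h) (x, 0))
  · exact congrArg Prod.snd (LinearEquiv.congr_fun (congrArg Subtype.val h) (0, x))

/-- Conjugating automorphisms by a coordinate map. -/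
def conjL (L : V ≃ₗ[F] V') : (V ≃ₗ[F] V) →* (V' ≃ₗ[F] V') where
  toFun g := L.symm.trans (g.trans L)
  map_one' := LinearEquiv.ext fun x => L.apply_symm_apply x
  map_mul' a b := LinearEquiv.ext fun x => by simp

/-- A model of the symplectic group. -/
theorem exists_equiv_sp [FiniteDimensional F V] {B : BilinForm F V} (hA : B.IsAlt)
    (hB : ∀ x, (∀ y, B x y = 0) → x = 0) {m : ℕ} (hm : finrank F V = 2 * m) :
    ∃ Ψ : AltForm.isoGroup B ≃* Matrix.symplecticGroup (Fin m) F,
      ∀ g : AltForm.isoGroup B, ((Ψ g : Matrix.symplecticGroup (Fin m) F) : Matrix (Fin m ⊕ Fin m) (Fin m ⊕ Fin m) F) = -1 ↔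
        ∀ v, (g : V ≃ₗ[F] V) v = -v := by
  obtain ⟨ψ, hψ⟩ := SympStab.exists_isometry hA hB hm
  have hmem : ∀ g : AltForm.isoGroup B, conjL ψ.symm g.1 ∈ AltForm.isoGroup (ClassicalSp.spBilin m F) := fun g u v => by
    rw [← hψ, ← hψ]
    simp [conjL, g.2 (ψ u) (ψ v)]
  have hsurj : ∀ g : AltForm.isoGroup B, ∃ A, ClassicalSp.toEquiv A = conjL ψ.symm g.1 :=
    fun g => ClassicalSp.toEquiv_surj (hmem g)
  choose f hf using hsurj
  let f' : AltForm.isoGroup B →* Matrix.symplecticGroup (Fin m) F := MonoidHom.mk' f fun a b =>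
    ClassicalSp.toEquiv_injective (by rw [map_mul, hf, hf, hf, Subgroup.coe_mul, map_mul])
  have hinj : Function.Injective f' := fun a b h => by
    have h' : conjL ψ.symm a.1 = conjL ψ.symm b.1 := (hf a).symm.trans ((congrArg ClassicalSp.toEquiv h).trans (hf b))
    refine Subtype.ext (LinearEquiv.ext fun v => ?_)
    simpa [conjL] using LinearEquiv.congr_fun h' (ψ.symm v)
  have hsur : Function.Surjective f' := fun A => by
    refine ⟨⟨conjL ψ (ClassicalSp.toEquiv A), fun u v => ?_⟩, ClassicalSp.toEquiv_injective ?_⟩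
    · obtain ⟨u', rfl⟩ := ψ.surjective u
      obtain ⟨v', rfl⟩ := ψ.surjective v
      simp only [conjL, MonoidHom.coe_mk, OneHom.coe_mk, LinearEquiv.trans_apply, LinearEquiv.symm_apply_apply,
        hψ]
      exact ClassicalSp.toEquiv_mem A u' v'
    · show ClassicalSp.toEquiv (f _) = _
      rw [hf]
      exact LinearEquiv.ext fun x => by simp [conjL]
  refine ⟨MulEquiv.ofBijective f' ⟨hinj, hsur⟩, fun g => ?_⟩
  show ((f g : Matrix.symplecticGroup (Fin m) F) : Matrix (Fin m ⊕ Fin m) (Fin m ⊕ Fin m) F) = -1 ↔ _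
  constructor
  · intro h v
    have h1 := LinearEquiv.congr_fun (hf g) (ψ.symm v)
    rw [ClassicalSp.toEquiv_apply, h, Matrix.neg_mulVec, Matrix.one_mulVec] at h1
    have h2 : ψ.symm (g.1 v) = -ψ.symm v := by simpa [conjL] using h1.symm
    rw [← map_neg] at h2
    exact ψ.symm.injective h2
  · intro h
    refine Matrix.ext_iff_mulVec.2 fun x => ?_
    rw [← ClassicalSp.toEquiv_apply, hf, Matrix.neg_mulVec, Matrix.one_mulVec]
    simp [conjL, h]

/-- A model of the odd orthogonal group. -/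
theorem exists_equiv_odd [Fintype F] [FiniteDimensional F V] (h2 : (2 : F) ≠ 0) {Q : QuadraticForm F V}
    (hQ : (polarBilin Q).Nondegenerate) {n : ℕ} (hV : finrank F V = 2 * n + 1) :
    ∃ (Φ : oGroup Q ≃* Cfsg.isometryGroup F (⇑(qOdd F n))) (c : F)
      (L : V ≃ₗ[F] (Unit ⊕ (Fin n ⊕ Fin n) → F)),
      c ≠ 0 ∧ (∀ v, qOdd F n (L v) = c * Q v) ∧
      ∀ g v, mv (Φ g : GL (Unit ⊕ (Fin n ⊕ Fin n)) F) (L v) = L (g.1 v) := by
  let e₁ := (Module.finBasisOfFinrankEq F V hV).equivFun
  let e₂ := (Module.finBasisOfFinrankEq F (Unit ⊕ (Fin n ⊕ Fin n) → F) (n := 2 * n + 1)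
    (by simp; omega)).equivFun
  obtain ⟨g, c, hc, hg⟩ := Orth.exists_similarity h2 (n := 2 * n + 1) ⟨n, rfl⟩ (Q.comp e₁.symm.toLinearMap)
    ((qOdd F n).comp e₂.symm.toLinearMap) (Orth.nondeg_congr e₁ (fun x => by simp) hQ)
    (Orth.nondeg_congr e₂ (fun x => by simp) (Orth.qOdd_nondeg h2 n))
  let L := (e₁.trans g).trans e₂.symm
  have hL : ∀ v, qOdd F n (L v) = c * Q v := fun v => by
    have := hg (e₁ v)
    simpa [L] using this
  have h1 : ∀ a : oGroup Q, conjL L a.1 ∈ oGroup (qOdd F n) := fun a x => by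
    obtain ⟨v, rfl⟩ := L.surjective x
    show qOdd F n (L (a.1 (L.symm (L v)))) = _
    rw [LinearEquiv.symm_apply_apply, hL, hL, a.2]
  have h2' : ∀ a : oGroup (qOdd F n), conjL L.symm a.1 ∈ oGroup Q := fun a v => by
    refine mul_left_cancel₀ hc ?_
    rw [← hL, ← hL]
    show qOdd F n (L (L.symm (a.1 (L.symm.symm v)))) = _
    rw [LinearEquiv.apply_symm_apply, LinearEquiv.symm_symm, a.2]
  let e : oGroup Q ≃* oGroup (qOdd F n) :=
    { toFun := fun a => ⟨_, h1 a⟩
      invFun := fun a => ⟨_, h2' a⟩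
      left_inv := fun a => Subtype.ext (LinearEquiv.ext fun v => by simp [conjL])
      right_inv := fun a => Subtype.ext (LinearEquiv.ext fun v => by simp [conjL])
      map_mul' := fun a b => Subtype.ext (map_mul (conjL L) a.1 b.1) }
  refine ⟨e.trans (Orth.isoEquiv (qOdd F n)).symm, c, L, hc, hL, fun a v => ?_⟩
  refine (Orth.isoEquiv_apply (Q := qOdd F n) _ (L v)).symm.trans ?_
  rw [MulEquiv.trans_apply, MulEquiv.apply_symm_apply]
  show L (a.1 (L.symm (L v))) = _
  rw [LinearEquiv.symm_apply_apply]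

end Models

end Cfsg.Agent.SkewTransfer
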